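import Cfsg.Agent.Lib.Recog.JankoThompson.Ward.Local
import Cfsg.Agent.Lib.Recog.JankoThompson.LocalTwist
import Cfsg.Agent.Lib.HallNumber.EightSeven
import Mathlib.GroupTheory.FixedPointFree

/-!
Owner: helper22. Groups of Ree type: `C(z) = ⟨t⟩ × T` for `z` in the split torus `T` of `C(t)`
(section 2 of `notes/S2554_ward_pencil_helper22.md`).
-/

set_option autoImplicit false
set_option linter.all false
set_option maxHeartbeats 800000

namespace CfsgLib.Recog.JankoThompson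

open Subgroup

universe u v

variable {G : Type u} [Group G] {Fq : Type v} [Field Fq] [Fintype Fq] [Finite G]

namespace Ctx

variable (c : Ctx G Fq) {p : ℕ} (T : Tori Fq c.w p c.e c.f) {n : ℕ} (hq3 : c.q = 3 ^ n) (hq4 : c.q % 4 = 3)
  (hcard : Nat.card G = c.q ^ 3 * (c.q ^ 3 + 1) * (c.q - 1))

include T hq3 hq4 in
/-- an element of odd order of `C(t)` inverted by an involution of `C(t)` and commuting with a nontrivial element
of order dividing `f` has order dividing `f` -/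
theorem inverted_dvd_f {l s z : G} (hlt : l * c.t = c.t * l) (hlodd : Odd (orderOf l)) (hst : s * c.t = c.t * s)
    (hs : s * s = 1) (hinv : s * l * s⁻¹ = l⁻¹) (hlz : z * l = l * z) (hz : orderOf z ∣ c.f) (hz1 : z ≠ 1) :
    orderOf l ∣ c.f := by
  obtain ⟨-, -, hef, -, -⟩ := c.three_facts hq3 hq4
  by_cases hl1 : l = 1
  · rw [hl1, orderOf_one]; exact one_dvd _
  obtain ⟨k, rfl⟩ := c.mem_range_of_odd hlt hlodd
  rw [c.orderOf_ι] at hlodd ⊢
  have hk1 : k ≠ 1 := fun e => hl1 (by rw [e, map_one])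
  obtain ⟨i, hi2, hik⟩ : ∃ i, i * i = 1 ∧ i * k * i⁻¹ = k⁻¹ := by
    rcases (c.hC s).1 hst with ⟨i, rfl⟩ | ⟨i, hi⟩
    · exact ⟨i, c.inj (by rw [map_mul, map_one]; exact hs), c.inj (by rw [map_mul, map_mul, map_inv, hinv, map_inv])⟩
    · refine ⟨i, c.inj ?_, c.inj ?_⟩
      · rw [map_mul, map_one, hi, mul_assoc, ← mul_assoc s, hst, mul_assoc c.t s, hs, mul_one, c.tt]
      · rw [map_mul, map_mul, map_inv, hi, show c.t * s * c.ι k * (c.t * s)⁻¹ = c.t * (s * c.ι k * s⁻¹) * c.t⁻¹ by group,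
          hinv, map_inv]
        exact mul_inv_eq_iff_eq_mul.2 ((show Commute (c.ι k) c.t from c.t_ι k).inv_left).symm
  have hi : orderOf i = 2 := orderOf_two hi2 fun e => by
    rw [e, one_mul, inv_one, mul_one] at hik
    exact sq_ne hlodd hk1 (mul_eq_one_iff_eq_inv.2 hik)
  have hkh : ∀ h : P2 Fq, orderOf (h * k * h⁻¹) = orderOf k := fun h => by
    rw [← MulAut.conj_apply, MulEquiv.orderOf_eq]
  obtain ⟨h, hh | hh | hh⟩ := T.cover k hlodd
  · exfalso
    have hr := (T.mem_R _).1 hh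
    have hr1 : h * k * h⁻¹ ≠ 1 := fun e => hk1 (conj_eq_one_iff.1 e)
    obtain ⟨r', hr', hcases⟩ := c.smallCentralizer T _ hr hr1 (c.ι h * z * (c.ι h)⁻¹) (by
      rw [map_mul, map_mul, map_inv, conj_mul, conj_mul, hlz])
    set z' := c.ι h * z * (c.ι h)⁻¹ with hz'
    have hre : c.ι r' ^ c.e = 1 := by
      rw [← map_pow, show r' ^ c.e = 1 from orderOf_dvd_iff_pow_eq_one.1
        (T.card_R ▸ Subgroup.orderOf_dvd_natCard _ ((T.mem_R _).2 hr')), map_one]
    have hre2 : c.ι r' ^ (2 * c.e) = 1 := by rw [mul_comm, pow_mul, hre, one_pow]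
    have hdvd : orderOf z' ∣ 2 * c.e := by
      refine orderOf_dvd_of_pow_eq_one ?_
      have hwr : Commute c.w r' := hr'.2.symm
      have ht2 : c.t ^ (2 * c.e) = 1 := by rw [pow_mul, pow_two, c.tt, one_pow]
      have hw2 : c.w ^ (2 * c.e) = 1 := by rw [pow_mul, pow_two, c.w2, one_pow]
      rcases hcases with e | e | e | e <;> rw [e]
      · exact hre2
      · rw [(c.comm_t_ι r').mul_pow, ht2, hre2, one_mul]
      · rw [← map_pow, hwr.mul_pow, hw2, one_mul, map_pow, hre2]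
      · rw [(c.comm_t_ι _).mul_pow, ht2, one_mul, ← map_pow, hwr.mul_pow, hw2, one_mul, map_pow, hre2]
    have hz'o : orderOf z' ∣ c.f := by
      rw [hz', ← MulAut.conj_apply, MulEquiv.orderOf_eq]; exact hz
    have hcop : Nat.Coprime (2 * c.e) c.f := Nat.Coprime.mul_left (Nat.coprime_two_left.2 c.f_odd) hef
    exact hz1 (conj_eq_one_iff.1 (eq_one_of_coprime hcop hdvd hz'o))
  · rw [← hkh h]; exact T.card_T ▸ Subgroup.orderOf_dvd_natCard _ hh
  · exact absurd (c.root_not_real T hq4 hi hh hk1 hik) id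

include hq3 hq4 hcard in
theorem f_cofactor : ∀ r, r.Prime → r ∣ c.f → ¬ r * c.f ∣ Nat.card G := by
  intro r hr hrf hdvd
  obtain ⟨-, -, -, -, hf2⟩ := c.three_facts hq3 hq4
  rw [hcard, show c.q - 1 = 2 * c.f by omega, show c.q ^ 3 * (c.q ^ 3 + 1) * (2 * c.f) = 2 * (c.q ^ 3 * (c.q ^ 3 + 1)) * c.f by ring] at hdvd
  have h1 : r ∣ 2 * (c.q ^ 3 * (c.q ^ 3 + 1)) := Nat.dvd_of_mul_dvd_mul_right c.f_odd.pos hdvd
  have hr2 : r ≠ 2 := fun e => by
    have h2 : 2 ∣ c.f := e ▸ hrf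
    have := Nat.odd_iff.1 c.f_odd
    omega
  rcases hr.dvd_mul.1 h1 with h | h
  · exact hr2 ((Nat.prime_dvd_prime_iff_eq hr Nat.prime_two).1 h)
  have hq1 : c.q ≡ 1 [MOD r] := by
    rw [Nat.ModEq.comm, Nat.modEq_iff_dvd' (by omega), show c.q - 1 = 2 * c.f by omega]
    exact hrf.mul_left 2
  rcases hr.dvd_mul.1 h with h' | h'
  · have h0 := (Nat.modEq_zero_iff_dvd.2 (hr.dvd_of_dvd_pow h')).symm.trans hq1
    rw [Nat.ModEq.comm, Nat.modEq_zero_iff_dvd] at h0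
    exact hr.ne_one (Nat.dvd_one.1 h0)
  · have h0 := (Nat.modEq_zero_iff_dvd.2 h').symm.trans ((hq1.pow 3).add_right 1)
    rw [Nat.ModEq.comm, Nat.modEq_zero_iff_dvd] at h0
    exact hr2 ((Nat.prime_dvd_prime_iff_eq hr Nat.prime_two).1 (by simpa using h0))

include T hq3 hq4 hcard in
/-- `C(z) = ⟨t⟩ × T` -/
theorem cent_cases_T {z : P2 Fq} (hz : z ∈ T.T) (hz1 : z ≠ 1) {h : G} (hh : h * c.ι z = c.ι z * h) :
    ∃ k ∈ T.T, h = c.ι k ∨ h = c.t * c.ι k := by
  classical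
  haveI := Fintype.ofFinite G
  set H := centralizer ({c.ι z} : Set G) with hH
  have hmem : ∀ x, x ∈ H ↔ x * c.ι z = c.ι z * x := fun x => mem_centralizer_singleton_iff
  have htH : c.t ∈ H := (hmem _).2 (c.t_ι z).symm
  have hιH : ∀ k : P2 Fq, c.ι k ∈ H → k ∈ T.T := fun k hk => by
    rw [hmem, ← map_mul, ← map_mul] at hk
    exact (T.cent_T z hz hz1 k).1 (c.inj hk)
  obtain ⟨M, hMH, hModd, hMn, hMcases, hMmem⟩ := c.split_odd htH fun k hk => c.odd_of_mem_T T (hιH k hk)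
  obtain ⟨i, hi, hiT⟩ := T.inverter_T
  have hi2 : i * i = 1 := mul_self_of_two hi
  set a := c.ι i with ha
  have ha2 : a * a = 1 := by rw [ha, ← map_mul, hi2, map_one]
  have hta : c.t * a = a * c.t := (c.t_ι i).symm
  have htmem : ∀ {x : G}, x ∈ M → c.t * x * c.t⁻¹ ∈ M := fun hx => (mem_normalizer_iff.1 (hMn htH) _).1 hx
  have haz : a * c.ι z * a⁻¹ = (c.ι z)⁻¹ := by rw [ha, ← map_inv c.ι i, ← map_mul, ← map_mul, hiT z hz, map_inv]
  have haM : ∀ {x : G}, x ∈ M → a * x * a⁻¹ ∈ M := by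
    intro x hx
    refine hMmem _ ((hmem _).2 ?_) ?_
    · have hc : Commute x (c.ι z)⁻¹ := Commute.inv_right ((hmem x).1 (hMH hx))
      have e : a * (c.ι z)⁻¹ * a⁻¹ = c.ι z := by
        have := congrArg (·⁻¹) haz
        simp only [inv_inv, mul_inv_rev] at this
        rw [← mul_assoc] at this
        exact this
      rw [← e, conj_mul, conj_mul, hc.eq]
    · rw [← MulAut.conj_apply, MulEquiv.orderOf_eq]
      exact hModd.of_dvd_nat (Subgroup.orderOf_dvd_natCard _ hx)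
  have haN : a ∈ normalizer (M : Set G) := by
    rw [mem_normalizer_iff]
    intro x
    refine ⟨haM, fun hx => ?_⟩
    have := haM hx
    rwa [show a * (a * x * a⁻¹) * a⁻¹ = (a * a) * x * (a * a)⁻¹ by group, ha2, one_mul, inv_one, mul_one] at this
  -- the fixed points of `t`
  have hfixt : ∀ x ∈ M, x * c.t = c.t * x → ∃ k ∈ T.T, x = c.ι k := by
    intro x hx hxt
    obtain ⟨k, rfl⟩ := c.mem_range_of_odd hxt (hModd.of_dvd_nat (Subgroup.orderOf_dvd_natCard _ hx))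
    exact ⟨k, hιH k (hMH hx), rfl⟩
  have hMt : (M ⊓ centralizer ({c.t} : Set G) : Subgroup G) = T.T.map c.ι := by
    ext x
    constructor
    · rintro ⟨hx, hxt⟩
      obtain ⟨k, hk, rfl⟩ := hfixt x hx (mem_centralizer_singleton_iff.1 hxt)
      exact ⟨k, hk, rfl⟩
    · rintro ⟨k, hk, rfl⟩
      refine ⟨hMmem _ ((hmem _).2 ?_) (by rw [c.orderOf_ι]; exact c.odd_of_mem_T T hk),
        mem_centralizer_singleton_iff.2 (c.t_ι k)⟩
      rw [← map_mul, ← map_mul, (T.cent_T z hz hz1 k).2 hk]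
  -- the centralisers of the two other involutions are trivial
  have hL : ∀ b : G, b * b = 1 → b ≠ 1 → b * c.t = c.t * b → (∀ x ∈ M, b * x * b⁻¹ ∈ M) →
      (∀ k ∈ T.T, b * c.ι k * b⁻¹ = (c.ι k)⁻¹) → (M ⊓ centralizer ({b} : Set G) : Subgroup G) = ⊥ := by
    intro b hb hb1 hbt hbM hbT
    set L := (M ⊓ centralizer ({b} : Set G) : Subgroup G) with hL
    have htL : ∀ x ∈ L, c.t * x * c.t⁻¹ ∈ L := by
      rintro x ⟨hx, hxb⟩
      refine ⟨htmem hx, mem_centralizer_singleton_iff.2 ?_⟩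
      have e : c.t * b * c.t⁻¹ = b := mul_inv_eq_iff_eq_mul.2 hbt.symm
      rw [← e, conj_mul, conj_mul, mem_centralizer_singleton_iff.1 hxb]
    let φ : L → L := fun x => ⟨c.t * x * c.t⁻¹, htL x x.2⟩
    have hφhom : ∀ x y : L, φ (x * y) = φ x * φ y := fun x y => Subtype.ext (by
      show c.t * ((x : G) * y) * c.t⁻¹ = c.t * x * c.t⁻¹ * (c.t * y * c.t⁻¹)
      group)
    let Φ : L →* L := MonoidHom.mk' φ hφhom
    have hfpf : MonoidHom.FixedPointFree Φ := by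
      intro x hx
      have e : c.t * (x : G) * c.t⁻¹ = x := congrArg Subtype.val hx
      obtain ⟨k, hk, hxk⟩ := hfixt x x.2.1 (mul_inv_eq_iff_eq_mul.1 e).symm
      have h1 : b * (x : G) * b⁻¹ = x := mul_inv_eq_iff_eq_mul.2 (mem_centralizer_singleton_iff.1 x.2.2).symm
      rw [hxk, hbT k hk, ← map_inv] at h1
      have hk1 : k = 1 := by
        by_contra hne
        exact sq_ne (c.odd_of_mem_T T hk) hne (inv_eq_iff_mul_eq_one.1 (c.inj h1))
      exact Subtype.ext (by rw [hxk, hk1, map_one]; rfl)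
    have hinv' : Function.Involutive Φ := fun x => Subtype.ext (by
      show c.t * (c.t * (x : G) * c.t⁻¹) * c.t⁻¹ = x
      rw [show c.t * (c.t * (x : G) * c.t⁻¹) * c.t⁻¹ = (c.t * c.t) * x * (c.t * c.t)⁻¹ by group, c.tt, one_mul,
        inv_one, mul_one])
    have hneg : ∀ x ∈ L, c.t * x * c.t⁻¹ = x⁻¹ := fun x hx =>
      congrArg Subtype.val (congrFun (hfpf.coe_eq_inv_of_involutive hinv') ⟨x, hx⟩)
    obtain ⟨g, hg⟩ := isConj_iff.1 (c.one_class b (orderOf_two hb hb1))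
    have hall : ∀ x ∈ L, orderOf x ∣ c.f := by
      intro x hx
      have ho : ∀ y : G, orderOf (g⁻¹ * y * g) = orderOf y := fun y => by
        rw [show g⁻¹ * y * g = MulAut.conj g⁻¹ y by simp, MulEquiv.orderOf_eq]
      rw [← ho]
      refine c.inverted_dvd_f T hq3 hq4 (s := g⁻¹ * c.t * g) (z := g⁻¹ * c.ι z * g) ?_ ?_ ?_ ?_ ?_ ?_ ?_ ?_
      · calc g⁻¹ * x * g * c.t = g⁻¹ * (x * (g * c.t * g⁻¹)) * g := by group
          _ = g⁻¹ * ((g * c.t * g⁻¹) * x) * g := by rw [hg, mem_centralizer_singleton_iff.1 hx.2]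
          _ = _ := by group
      · rw [ho]; exact hModd.of_dvd_nat (Subgroup.orderOf_dvd_natCard _ hx.1)
      · calc g⁻¹ * c.t * g * c.t = g⁻¹ * (c.t * (g * c.t * g⁻¹)) * g := by group
          _ = g⁻¹ * ((g * c.t * g⁻¹) * c.t) * g := by rw [hg, hbt]
          _ = _ := by group
      · rw [show g⁻¹ * c.t * g * (g⁻¹ * c.t * g) = g⁻¹ * (c.t * c.t) * g by group, c.tt]; group
      · rw [show g⁻¹ * c.t * g * (g⁻¹ * x * g) * (g⁻¹ * c.t * g)⁻¹ = g⁻¹ * (c.t * x * c.t⁻¹) * g by group,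
          hneg x hx]
        group
      · calc g⁻¹ * c.ι z * g * (g⁻¹ * x * g) = g⁻¹ * (c.ι z * x) * g := by group
          _ = g⁻¹ * (x * c.ι z) * g := by rw [(hmem x).1 (hMH hx.1)]
          _ = _ := by group
      · rw [ho, c.orderOf_ι]; exact T.card_T ▸ Subgroup.orderOf_dvd_natCard _ hz
      · intro e
        refine hz1 (c.inj ?_)
        rw [map_one, show c.ι z = g * (g⁻¹ * c.ι z * g) * g⁻¹ by group, e]; group
    by_contra hne
    obtain ⟨r, hr, hrd⟩ := Nat.exists_prime_and_dvd (fun e => hne (Subgroup.card_eq_one.1 e))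
    haveI : Fact r.Prime := ⟨hr⟩
    obtain ⟨x, hx⟩ := exists_prime_orderOf_dvd_card' r hrd
    have hrf : r ∣ c.f := hx ▸ (Subgroup.orderOf_coe x) ▸ hall x x.2
    -- `L` and `T` in `M` give `r f ∣ |G|`
    refine c.f_cofactor hq3 hq4 hcard r hr hrf ?_
    refine dvd_trans ?_ (Subgroup.card_subgroup_dvd_card M)
    have hdisj : Disjoint L (T.T.map c.ι) := by
      rw [disjoint_def]
      rintro y hy ⟨k, hk, rfl⟩
      have h1 : b * c.ι k * b⁻¹ = c.ι k := mul_inv_eq_iff_eq_mul.2 (mem_centralizer_singleton_iff.1 hy.2).symm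
      rw [hbT k hk, ← map_inv] at h1
      by_contra hne
      exact sq_ne (c.odd_of_mem_T T hk) (fun e => hne (by rw [e, map_one])) (inv_eq_iff_mul_eq_one.1 (c.inj h1))
    have hBW := CfsgLib.HallNumber.brauer_wielandt_subgroup M hModd c.tt hb hbt.symm (hMn htH)
      (by
        rw [mem_normalizer_iff]
        intro y
        refine ⟨hbM y, fun hy => ?_⟩
        have := hbM _ hy
        rwa [show b * (b * y * b⁻¹) * b⁻¹ = (b * b) * y * (b * b)⁻¹ by group, hb, one_mul, inv_one, mul_one] at this)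
    have hbot : (M ⊓ centralizer ({c.t} : Set G) ⊓ centralizer ({b} : Set G) : Subgroup G) = ⊥ := by
      rw [eq_bot_iff]
      rintro y ⟨⟨hy, hyt⟩, hyb⟩
      exact mem_bot.2 (disjoint_def.1 hdisj ⟨hy, hyb⟩ (hMt ▸ ⟨hy, hyt⟩))
    rw [hbot, Subgroup.card_bot, one_pow, mul_one, hMt, Subgroup.card_map_of_injective c.inj, T.card_T] at hBW
    rw [hBW, ← hL, mul_comm r]
    exact (mul_dvd_mul_left _ hrd).mul_right _
  have hab : a * c.t = c.t * a := hta.symm
  have ha1 : a ≠ 1 := fun e => by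
    have h1 : i = 1 := c.inj (by rw [map_one]; exact e)
    rw [h1, orderOf_one] at hi
    omega
  have haT : ∀ k ∈ T.T, a * c.ι k * a⁻¹ = (c.ι k)⁻¹ := fun k hk => by
    rw [ha, ← map_inv c.ι i, ← map_mul, ← map_mul, hiT k hk, map_inv]
  have hb2 : c.t * a * (c.t * a) = 1 := by
    rw [show c.t * a * (c.t * a) = c.t * (a * c.t) * a by group, hab, ← mul_assoc c.t c.t, c.tt, one_mul, ha2]
  have h1 := hL a ha2 ha1 hab (fun x hx => haM hx) haT
  have h2 := hL (c.t * a) hb2 (c.t_ι_ne i) (by rw [mul_assoc, hab]) (fun x hx => by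
      rw [show c.t * a * x * (c.t * a)⁻¹ = c.t * (a * x * a⁻¹) * c.t⁻¹ by group]; exact htmem (haM hx)) (fun k hk => by
      rw [show c.t * a * c.ι k * (c.t * a)⁻¹ = c.t * (a * c.ι k * a⁻¹) * c.t⁻¹ by group, haT k hk, ← map_inv]
      exact mul_inv_eq_iff_eq_mul.2 (c.t_ι k⁻¹).symm)
  have hBW := CfsgLib.HallNumber.brauer_wielandt_subgroup M hModd c.tt ha2 hta (hMn htH) haN
  rw [show (M ⊓ centralizer ({c.t} : Set G) ⊓ centralizer ({a} : Set G) : Subgroup G) = ⊥ by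
      rw [eq_bot_iff, ← h1]; exact fun y hy => ⟨hy.1.1, hy.2⟩,
    h1, h2, Subgroup.card_bot, one_pow, mul_one, mul_one, mul_one] at hBW
  have hMT : M = T.T.map c.ι := by
    rw [← hMt]
    exact (Subgroup.eq_of_le_of_card_ge inf_le_left hBW.le).symm
  rcases hMcases h ((hmem h).2 hh) with hm | hm
  · rw [hMT] at hm
    obtain ⟨k, hk, rfl⟩ := hm
    exact ⟨k, hk, Or.inl rfl⟩
  · rw [hMT] at hm
    obtain ⟨k, hk, e⟩ := hm
    exact ⟨k, hk, Or.inr (by rw [e, ← mul_assoc, c.tt, one_mul])⟩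

include T hq3 hq4 hcard in
theorem card_cent_T' {z : P2 Fq} (hz : z ∈ T.T) (hz1 : z ≠ 1) :
    Nat.card (centralizer ({c.ι z} : Set G)) = 2 * c.f := by
  let F : Bool × T.T → centralizer ({c.ι z} : Set G) := fun a => ⟨(bif a.1 then c.t else 1) * c.ι a.2, by
    rw [mem_centralizer_singleton_iff]
    have h2 : c.ι (a.2 : P2 Fq) * c.ι z = c.ι z * c.ι (a.2 : P2 Fq) := by
      rw [← map_mul, ← map_mul, (T.cent_T z hz hz1 _).2 a.2.2]
    cases a.1
    · rw [cond_false, one_mul]; exact h2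
    · rw [cond_true, mul_assoc, h2, ← mul_assoc, ← c.t_ι z, mul_assoc]⟩
  rw [← Nat.card_eq_of_bijective F ⟨?_, ?_⟩, Nat.card_prod, Nat.card_eq_fintype_card (α := Bool), Fintype.card_bool,
    T.card_T]
  · rintro ⟨b, k⟩ ⟨b', k'⟩ e
    have e' := congrArg Subtype.val e
    simp only [F] at e'
    cases b <;> cases b' <;> simp only [cond_true, cond_false, one_mul] at e'
    · exact Prod.ext rfl (Subtype.ext (c.inj e'))
    · exact absurd e' (c.ι_ne_t_ι _ _)
    · exact absurd e'.symm (c.ι_ne_t_ι _ _)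
    · exact Prod.ext rfl (Subtype.ext (c.inj (mul_left_cancel e')))
  · rintro ⟨h, hh⟩
    obtain ⟨k, hk, rfl | rfl⟩ := c.cent_cases_T T hq3 hq4 hcard hz hz1 (mem_centralizer_singleton_iff.1 hh)
    · exact ⟨(false, ⟨k, hk⟩), Subtype.ext (one_mul _)⟩
    · exact ⟨(true, ⟨k, hk⟩), rfl⟩

include T hq3 hq4 hcard in
/-- the inverters of `z ∈ T` -/
theorem pairs_T {z : P2 Fq} (hz : z ∈ T.T) (hz1 : z ≠ 1) : c.pairs (c.ι z) = 2 * c.f := by
  obtain ⟨i, hi, hiT⟩ := T.inverter_T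
  have hi' : orderOf (c.ι i) = 2 := (c.orderOf_ι i).trans hi
  have hzz : c.ι z * c.ι z ≠ 1 := fun e =>
    sq_ne (c.odd_of_mem_T T hz) hz1 (c.inj (by rw [map_mul, map_one, e]))
  set a := c.ι i with ha
  have haz : a * c.ι z * a⁻¹ = (c.ι z)⁻¹ := by rw [ha, ← map_inv c.ι i, ← map_mul, ← map_mul, hiT z hz, map_inv]
  have hainv : a⁻¹ = a := inv_of_two hi'
  have hgen : ∀ h ∈ centralizer ({c.ι z} : Set G),
      orderOf (a * h) = 2 ∧ orderOf ((a * h)⁻¹ * (c.ι z)⁻¹) = 2 := by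
    intro h hh
    have hinv : a * h * c.ι z * (a * h)⁻¹ = (c.ι z)⁻¹ := by
      rw [show a * h * c.ι z * (a * h)⁻¹ = a * (h * c.ι z * h⁻¹) * a⁻¹ by group,
        mem_centralizer_singleton_iff.1 hh, mul_inv_cancel_right, haz]
    obtain ⟨k, hk, e⟩ := c.cent_cases_T T hq3 hq4 hcard hz hz1 (mem_centralizer_singleton_iff.1 hh)
    have hk' : i * k * i⁻¹ = k⁻¹ := hiT k hk
    have hik : i * k * (i * k) = 1 := by
      rw [inv_of_two hi] at hk'
      rw [show i * k * (i * k) = i * k * i * k by group, hk', inv_mul_cancel]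
    have hsq : a * h * (a * h) = 1 := by
      rcases e with rfl | rfl
      · rw [ha, ← map_mul, ← map_mul, hik, map_one]
      · rw [show a * (c.t * c.ι k) = c.t * (a * c.ι k) by rw [← mul_assoc, ha, c.t_ι, mul_assoc], ha, ← map_mul,
          c.t_ι_mul, hik, map_one]
    have hne : a * h ≠ 1 := fun e1 => hzz (by
      rw [e1, one_mul, inv_one, mul_one] at hinv
      exact mul_eq_one_iff_eq_inv.2 hinv)
    have h2 := orderOf_two hsq hne
    exact ⟨h2, (pair_iff h2 hzz).2 hinv⟩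
  let F : centralizer ({c.ι z} : Set G) → {j : G // orderOf j = 2 ∧ orderOf (j⁻¹ * (c.ι z)⁻¹) = 2} := fun h =>
    ⟨a * h, hgen h h.2⟩
  rw [pairs, ← Nat.card_eq_of_bijective F ⟨?_, ?_⟩, c.card_cent_T' T hq3 hq4 hcard hz hz1]
  · intro x y e
    exact Subtype.ext (mul_left_cancel (congrArg Subtype.val e))
  · rintro ⟨j, hj, hj2⟩
    have hconj := (pair_iff hj hzz).1 hj2
    refine ⟨⟨a⁻¹ * j, mem_centralizer_singleton_iff.2 (mul_inv_eq_iff_eq_mul.1 ?_)⟩, Subtype.ext (mul_inv_cancel_left _ _)⟩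
    rw [show a⁻¹ * j * c.ι z * (a⁻¹ * j)⁻¹ = a⁻¹ * (j * c.ι z * j⁻¹) * a by group, hconj, ← haz]
    group

end Ctx

end CfsgLib.Recog.JankoThompson
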