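import Cfsg.Agent.Lib.Recog.JankoThompson.Ward.Degrees
import Cfsg.Agent.Lib.Recog.JankoThompson.Ward.Torus
import Cfsg.Agent.Lib.Recog.JankoThompson.Chars

/-!
Owner: helper22. Groups of Ree type: `χ(t)² / χ(1)²` is small outside the four constituents of `Δ`
(section 3 of `notes/S2554_ward_pencil_helper22.md`).
-/

set_option autoImplicit false
set_option linter.all false
set_option maxHeartbeats 800000

namespace CfsgLib.Recog.JankoThompson

open Subgroup CfsgLib.Char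
open CfsgLib.LocalEven.GoldS (exists_nat_twist exists_parity)
open scoped ComplexConjugate

universe u v

variable {G : Type u} [Group G] {Fq : Type v} [Field Fq] [Fintype Fq]

namespace Ctx

variable (c : Ctx G Fq) {p : ℕ} (T : Tori Fq c.w p c.e c.f) [Fintype G] [Fintype (Cfsg.IrrCharacter G)]

/-- `t x` and an element of odd order are not conjugate -/
theorem not_isConj_t_ι {a k : P2 Fq} (ha : Odd (orderOf a)) (hk : Odd (orderOf k)) :
    ¬ IsConj (c.t * c.ι a) (c.ι k) := by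
  intro h
  obtain ⟨g, hg⟩ := isConj_iff.1 h
  have e := congrArg (fun z : G => z ^ (orderOf a * orderOf k)) hg
  simp only [conj_pow] at e
  rw [c.pow_t_ι (ha.mul hk) (by rw [pow_mul, pow_orderOf_eq_one, one_pow]), ← map_pow, mul_comm (orderOf a),
    pow_mul, pow_orderOf_eq_one, one_pow, map_one] at e
  exact c.t_ne (conj_eq_one_iff.1 e)

open scoped _root_.Classical in
theorem sum_t_apply_conj_zero {a k : P2 Fq} (ha : Odd (orderOf a)) (hk : Odd (orderOf k)) :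
    ∑ χ : Cfsg.IrrCharacter G, (χ : G → ℂ) (c.t * c.ι a) * conj ((χ : G → ℂ) (c.ι k)) = 0 := by
  rw [column_orthogonality, if_neg (c.not_isConj_t_ι ha hk)]

include T in
open scoped _root_.Classical in
/-- the columns, the constituents of Ree type, and the degree of the constituents of the columns of `T` -/
theorem exists_ward_data [Fintype T.R] [Fintype T.T] [Fintype {j : T.T →* ℂˣ // j ≠ 1}] {n : ℕ}
    (hq3 : c.q = 3 ^ n) (hq4 : c.q % 4 = 3)
    (hcard : Nat.card G = c.q ^ 3 * (c.q ^ 3 + 1) * (c.q - 1)) :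
    ∃ (L : Type v) (_ : Fintype L) (K : Cols (Cfsg.IrrCharacter G) L {j : T.T →* ℂˣ // j ≠ 1}) (R : K.ReeData),
      K.q = c.q ∧ K.e = c.e ∧ K.f = c.f ∧ K.ε = -1 ∧ K.o = trivChar G ∧
      (∀ χ : Cfsg.IrrCharacter G, (K.τ χ : ℂ) = (χ : G → ℂ) c.t ∧ (K.deg χ : ℂ) = (χ : G → ℂ) 1 ∧
        (K.A χ : ℂ) = c.colA T χ 1 ∧ ∀ j, (K.C j χ : ℂ) = c.colA T χ j.1) ∧
      (∀ χ j, K.C j χ ≠ 0 → K.deg χ = K.q ^ 3 + 1 ∧ K.τ χ ^ 2 = (K.q + 1) ^ 2) ∧
      ∀ χ, χ ≠ K.o → χ ∉ R.four → K.τ χ ^ 2 * (K.q ^ 2 - K.q + 1) ^ 2 ≤ 9 * K.deg χ ^ 2 := by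
  classical
  haveI := T.T_cyclic
  haveI : Finite (T.T →* ℂˣ) := by
    letI := IsCyclic.commGroup (α := T.T)
    exact finite_dual T.T
  letI : Fintype (T.T →* ℂˣ) := Fintype.ofFinite _
  obtain ⟨L, instL, K, hKq, hKN, hKe, hKf, hKε, hKo, hval, -⟩ :=
    c.exists_cols_strong T (c.pairVals T) c.weight_pairs
  have hε : K.ε = -1 := by rw [hKε]; unfold Ctx.ε; rw [if_neg (by omega)]
  obtain ⟨R⟩ := K.exists_reeData hε
  have hτ := fun χ => (hval χ).1
  have hd := fun χ => (hval χ).2.1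
  have hW := fun χ => (hval χ).2.2.1
  have hA := fun χ => (hval χ).2.2.2.1
  have hC := fun χ => (hval χ).2.2.2.2
  have hqQ : (K.q : ℚ) = c.q := by rw [hKq]; rfl
  have hKq' : K.q = c.q := hKq
  obtain ⟨-, -, -, he4, hf2⟩ := c.three_facts hq3 hq4
  have hf0 : (c.f : ℂ) ≠ 0 := c.f_ne
  have hcT : (Nat.card T.T : ℂ) = c.f := congrArg Nat.cast T.card_T
  -- the multiplicities
  choose m hm using fun (χ : Cfsg.IrrCharacter G) (l : T.T →* ℂˣ) =>
    exists_nat_twist (c.ι.comp T.T.subtype) χ l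
  simp only [MonoidHom.coe_comp, Subgroup.coe_subtype, Function.comp_apply, hcT] at hm
  have hinv : ∀ (χ : Cfsg.IrrCharacter G) (a : T.T),
      (χ : G → ℂ) (c.ι a) = ∑ l : T.T →* ℂˣ, (m χ l : ℂ) * (l a : ℂ) := by
    intro χ a
    letI := IsCyclic.commGroup (α := T.T)
    refine mul_left_cancel₀ hf0 ?_
    rw [Finset.mul_sum]
    simp only [← mul_assoc, ← hm, Finset.sum_mul]
    rw [Finset.sum_comm]
    have h : ∀ (k : T.T) (l : T.T →* ℂˣ),
        conj (l k : ℂ) * (l a : ℂ) = conj (l (k * a⁻¹) : ℂ) := fun k l => by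
      rw [map_mul, Units.val_mul, map_mul, conj_hom' l a⁻¹, inv_inv]
    simp only [mul_assoc, h, ← Finset.mul_sum, sum_dual_conj, mul_inv_eq_one, mul_ite, mul_zero,
      Finset.sum_ite_eq', Finset.mem_univ, if_true, T.card_T]
    ring
  have hdm : ∀ χ : Cfsg.IrrCharacter G, K.deg χ = ∑ l : T.T →* ℂˣ, (m χ l : ℤ) := fun χ => by
    apply @Int.cast_injective ℂ
    rw [hd, ← map_one c.ι, ← OneMemClass.coe_one T.T, hinv]
    simp
  -- parity
  have hpar : ∀ (χ : Cfsg.IrrCharacter G) (l : T.T →* ℂˣ),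
      2 ∣ (if h : l = 1 then K.A χ else K.C ⟨l, h⟩ χ) + K.W χ - (m χ l : ℤ) := by
    intro χ l
    obtain ⟨z, hz⟩ := exists_parity (c.ι.comp T.T.subtype) c.tt (one_mul (1 : G)) (Commute.one_right _)
      (fun a => c.comm_t_ι _) (fun a => Commute.one_left _) χ l
    simp only [MonoidHom.coe_comp, Subgroup.coe_subtype, Function.comp_apply, one_mul, hcT] at hz
    refine ⟨z, ?_⟩
    have hcol : ((if h : l = 1 then K.A χ else K.C ⟨l, h⟩ χ : ℤ) : ℂ) = c.colA T χ l := by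
      split_ifs with h
      · rw [h, hA]
      · rw [hC]
    apply @Int.cast_injective ℂ
    push_cast
    rw [hcol, hW]
    apply mul_left_cancel₀ hf0
    rw [← hz, hm χ l]
    simp only [colA, colW, vec, Pi.zero_apply, zero_mul, Finset.sum_const_zero, div_mul_eq_mul_div,
      ← Finset.sum_div, mul_comm (conj _)]
    field_simp
    ring
  have hvals : ∀ z : T.T, z ≠ 1 → c.pairs (c.ι z) = 2 * c.f := fun z hz =>
    c.pairs_T T hq3 hq4 hcard z.2 fun e => hz (Subtype.ext e)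
  -- the squares
  have hsq : ∑ χ : Cfsg.IrrCharacter G,
      (K.f * (∑ l : T.T →* ℂˣ, (m χ l : ℤ) ^ 2) - (∑ l : T.T →* ℂˣ, (m χ l : ℤ)) ^ 2) =
        2 * K.f * (K.f - 1) := by
    have hP : ∀ χ : Cfsg.IrrCharacter G, ∑ k : T.T, (χ : G → ℂ) (c.ι k) * conj ((χ : G → ℂ) (c.ι k)) =
        (c.f : ℂ) * ∑ l : T.T →* ℂˣ, (m χ l : ℂ) ^ 2 := by
      intro χ
      simp only [hinv, map_sum, map_mul, map_natCast, Finset.sum_mul_sum]
      rw [Finset.sum_comm, Finset.mul_sum]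
      refine Finset.sum_congr rfl fun l _ => ?_
      rw [Finset.sum_comm]
      have h : ∀ (l' : T.T →* ℂˣ) (k : T.T), (m χ l : ℂ) * (l k : ℂ) * ((m χ l' : ℂ) * conj (l' k : ℂ)) =
          (m χ l : ℂ) * m χ l' * (conj (l' k : ℂ) * (l k : ℂ)) := fun l' k => by ring
      simp only [h, ← Finset.mul_sum, sum_conj_mul_hom, T.card_T, mul_ite, mul_zero, Finset.sum_ite_eq',
        Finset.mem_univ, if_true]
      ring
    apply @Int.cast_injective ℂ
    simp only [← hdm, Int.cast_sum, Int.cast_sub, Int.cast_mul, Int.cast_pow, Int.cast_natCast, hKf,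
      Int.cast_one, Int.cast_ofNat, hd, ← hP]
    have hconj : ∀ χ : Cfsg.IrrCharacter G, (χ : G → ℂ) 1 ^ 2 =
        (χ : G → ℂ) (c.ι ((1 : T.T) : P2 Fq)) * conj ((χ : G → ℂ) (c.ι ((1 : T.T) : P2 Fq))) := fun χ => by
      rw [OneMemClass.coe_one, map_one, ← hd χ, map_intCast, pow_two]
    simp only [hconj, ← Finset.sum_erase_eq_sub (Finset.mem_univ (1 : T.T))]
    rw [Finset.sum_comm, Finset.sum_congr rfl fun k hk => by
      rw [column_orthogonality, if_pos (IsConj.refl _),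
        c.card_cent_T' T hq3 hq4 hcard k.2 (fun e => (Finset.mem_erase.1 hk).1 (Subtype.ext e))]]
    rw [Finset.sum_const, Finset.card_erase_of_mem (Finset.mem_univ _), Finset.card_univ,
      ← Nat.card_eq_fintype_card, T.card_T, nsmul_eq_mul, Nat.cast_sub c.f_odd.pos]
    push_cast
    ring
  -- orthogonality to the column `A`
  have horth : ∀ l : T.T →* ℂˣ, ∑ χ : Cfsg.IrrCharacter G, K.A χ * (m χ l : ℤ) = 0 := by
    have key : ∀ k : T.T, ∑ χ : Cfsg.IrrCharacter G, (K.A χ : ℂ) * (χ : G → ℂ) (c.ι k) = 0 := by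
      intro k
      by_cases hk : k = 1
      · rw [hk, OneMemClass.coe_one, map_one]
        simp only [← hd, ← Int.cast_mul, ← Int.cast_sum, K.degA, Int.cast_zero]
      have hz : ∑ χ : Cfsg.IrrCharacter G, c.colA T χ 1 * conj ((χ : G → ℂ) (c.ι k)) = 0 := by
        have hko : Odd (orderOf (k : P2 Fq)) := c.odd_of_mem_T T k.2
        have h1 : ∑ χ : Cfsg.IrrCharacter G, (χ : G → ℂ) c.t * conj ((χ : G → ℂ) (c.ι k)) = 0 := by
          have := c.sum_t_apply_conj_zero (a := 1) (by rw [orderOf_one]; decide) hko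
          rwa [map_one, mul_one] at this
        have hU : ∀ u ∈ T.U, Odd (orderOf u) := fun u hu => c.odd_of_mem_U T hu
        simp only [colA, vec, Pi.zero_apply, zero_mul, Finset.sum_const_zero, add_zero, add_mul,
          Finset.sum_add_distrib, Finset.sum_mul, mul_assoc, ← Finset.mul_sum, h1,
          c.sum_t_apply_conj_zero (hU _ T.plus_mem) hko, c.sum_t_apply_conj_zero (hU _ T.minus_mem) hko]
        rw [Finset.sum_comm]
        simp only [← Finset.mul_sum, c.sum_t_apply_conj_zero (c.odd_of_mem_T T (Subtype.mem _)) hko]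
        simp
      have h := congrArg conj hz
      simpa only [map_sum, map_mul, ← hA, map_intCast, Complex.conj_conj, map_zero] using h
    intro l
    apply @Int.cast_injective ℂ
    push_cast
    apply mul_left_cancel₀ hf0
    rw [Finset.mul_sum, mul_zero]
    simp only [mul_left_comm (c.f : ℂ), ← hm, Finset.mul_sum]
    rw [Finset.sum_comm]
    simp only [← mul_assoc, ← Finset.sum_mul, key, zero_mul, Finset.sum_const_zero]
  -- the trivial character
  have hone : ∀ j : {j : T.T →* ℂˣ // j ≠ 1}, (m K.o 1 : ℤ) - (m K.o j.1 : ℤ) = 1 := by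
    intro j
    apply @Int.cast_injective ℂ
    push_cast
    apply mul_left_cancel₀ hf0
    rw [mul_sub, ← hm, ← hm, hKo]
    simp only [trivChar_apply, one_mul, sum_conj_hom, if_true, if_neg j.2, T.card_T]
    ring
  -- the structure equations
  have hpair : ∀ j : {j : T.T →* ℂˣ // j ≠ 1},
      ∑ χ : Cfsg.IrrCharacter G, (K.τ χ : ℚ) ^ 2 * (((m χ 1 : ℤ) - (m χ j.1 : ℤ) : ℤ) : ℚ) / (K.deg χ : ℚ) =
        ((K.q : ℚ) + 1) * ((K.q : ℚ) - 1) ^ 2 / ((K.q : ℚ) * ((K.q : ℚ) ^ 2 - K.q + 1)) := by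
    intro j
    set ρ : ℚ := ((K.q : ℚ) + 1) * ((K.q : ℚ) - 1) ^ 2 / ((K.q : ℚ) * ((K.q : ℚ) ^ 2 - K.q + 1)) with hρ
    have hN : (Nat.card G : ℂ) ≠ 0 := Nat.cast_ne_zero.2 Nat.card_pos.ne'
    have hρC : (ρ : ℂ) * Nat.card G = ((8 * c.e * c.f * c.q : ℕ) : ℂ) ^ 2 * (2 * c.f : ℕ) := by
      have e4 : (c.q : ℂ) + 1 = 4 * c.e := by exact_mod_cast he4
      have e2 : (c.q : ℂ) - 1 = 2 * c.f := by
        rw [hf2]; push_cast; ring
      have hne : (c.q : ℂ) ^ 2 - c.q + 1 ≠ 0 := by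
        have h27 := c.hbig
        have : (c.q : ℂ) ^ 2 - c.q + 1 = (((c.q : ℤ) ^ 2 - c.q + 1 : ℤ) : ℂ) := by push_cast; ring
        rw [this]
        refine Int.cast_ne_zero.2 (ne_of_gt ?_)
        have : (11 : ℤ) ≤ c.q := by exact_mod_cast h27
        nlinarith
      rw [hρ, hqQ, hcard, show c.q - 1 = 2 * c.f by omega]
      push_cast
      rw [e2, show (c.q : ℂ) + 1 = 4 * c.e from e4]
      have hq0 := c.q_ne
      rw [show (c.q : ℂ) ^ 3 + 1 = 4 * c.e * ((c.q : ℂ) ^ 2 - c.q + 1) by rw [← e4]; ring]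
      generalize (c.q : ℂ) ^ 2 - c.q + 1 = φ at hne ⊢
      field_simp
      ring
    have hw : ∀ k : T.T, k ≠ 1 →
        ∑ χ : Cfsg.IrrCharacter G, (K.τ χ : ℂ) ^ 2 * (χ : G → ℂ) (c.ι k) / (K.deg χ : ℂ) = (ρ : ℂ) := by
      intro k hk
      apply mul_left_cancel₀ hN
      rw [mul_comm _ (ρ : ℂ), hρC, ← hvals k hk, ← c.weight_pairs, weight]
      congr 1
      exact Finset.sum_congr rfl fun χ _ => by rw [hτ, hd, pow_two]
    apply Rat.cast_injective (α := ℂ)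
    push_cast
    apply mul_left_cancel₀ hf0
    calc (c.f : ℂ) * ∑ χ : Cfsg.IrrCharacter G,
          (K.τ χ : ℂ) ^ 2 * ((m χ 1 : ℂ) - (m χ j.1 : ℂ)) / (K.deg χ : ℂ)
        = ∑ χ : Cfsg.IrrCharacter G, ∑ k : T.T,
            (1 - conj (j.1 k : ℂ)) * ((K.τ χ : ℂ) ^ 2 * (χ : G → ℂ) (c.ι k) / (K.deg χ : ℂ)) := by
          rw [Finset.mul_sum]
          refine Finset.sum_congr rfl fun χ _ => ?_
          rw [show (c.f : ℂ) * ((K.τ χ : ℂ) ^ 2 * ((m χ 1 : ℂ) - (m χ j.1 : ℂ)) / (K.deg χ : ℂ)) =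
            ((K.τ χ : ℂ) ^ 2 / (K.deg χ : ℂ)) * ((c.f : ℂ) * m χ 1 - (c.f : ℂ) * m χ j.1) by ring, ← hm, ← hm,
            ← Finset.sum_sub_distrib, Finset.mul_sum]
          exact Finset.sum_congr rfl fun k _ => by simp; ring
      _ = ∑ k : T.T, (1 - conj (j.1 k : ℂ)) *
            ∑ χ : Cfsg.IrrCharacter G, (K.τ χ : ℂ) ^ 2 * (χ : G → ℂ) (c.ι k) / (K.deg χ : ℂ) := by
          rw [Finset.sum_comm]; simp only [Finset.mul_sum]
      _ = ∑ k : T.T, (1 - conj (j.1 k : ℂ)) * (ρ : ℂ) := by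
          refine Finset.sum_congr rfl fun k _ => ?_
          by_cases hk : k = 1
          · subst hk; simp
          · rw [hw k hk]
      _ = _ := by
          rw [← Finset.sum_mul, Finset.sum_sub_distrib, sum_conj_hom, if_neg j.2, sub_zero, Finset.sum_const,
            Finset.card_univ, ← Nat.card_eq_fintype_card, T.card_T, nsmul_eq_mul, mul_one, hρ]
  have hΛ : (Fintype.card (T.T →* ℂˣ) : ℤ) = K.f := by
    letI := IsCyclic.commGroup (α := T.T)
    rw [← Nat.card_eq_fintype_card, card_dual T.T, T.card_T, hKf]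
  refine ⟨L, instL, K, R, hKq', hKe, hKf, hε, hKo, fun χ => ⟨hτ χ, hd χ, hA χ, hC χ⟩, fun χ j hj => ?_,
    fun χ hχ1 hχ4 => ?_⟩
  · exact K.member_deg R hε hΛ (fun χ l => (m χ l : ℤ)) hpar hsq horth hone hpair hj
  · exact K.torus_bound R hε hΛ (fun χ l => (m χ l : ℤ)) hpar hsq horth hone hpair hχ1 hχ4

include T in
open scoped _root_.Classical in
/-- the bound on `χ(t) / χ(1)` -/
theorem exists_bound {n : ℕ} (hq3 : c.q = 3 ^ n) (hq4 : c.q % 4 = 3)
    (hcard : Nat.card G = c.q ^ 3 * (c.q ^ 3 + 1) * (c.q - 1)) :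
    ∃ (τ deg : Cfsg.IrrCharacter G → ℤ) (four : Finset (Cfsg.IrrCharacter G)),
      (∀ χ, (τ χ : ℂ) = (χ : G → ℂ) c.t) ∧ (∀ χ, (deg χ : ℂ) = (χ : G → ℂ) 1) ∧ (∀ χ, 0 < deg χ) ∧
      (∀ χ, χ ≠ trivChar G → χ ∉ four →
        (τ χ : ℚ) ^ 2 * ((c.q : ℚ) ^ 2 - c.q + 1) ^ 2 ≤ 9 * (deg χ : ℚ) ^ 2) ∧
      ∑ χ ∈ four, (τ χ : ℚ) ^ 4 / (deg χ : ℚ) ^ 2 =
        3 * ((c.q : ℚ) - 1) ^ 2 * ((c.q : ℚ) ^ 2 + 5 * c.q + 1) /
          ((c.q : ℚ) * ((c.q : ℚ) ^ 2 - c.q + 1) ^ 2) := by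
  classical
  haveI := T.T_cyclic
  haveI : Finite (T.T →* ℂˣ) := by
    letI := IsCyclic.commGroup (α := T.T)
    exact finite_dual T.T
  letI : Fintype T.R := Fintype.ofFinite _
  letI : Fintype T.T := Fintype.ofFinite _
  letI : Fintype (T.T →* ℂˣ) := Fintype.ofFinite _
  obtain ⟨L, _, K, R, hq, -, -, -, ho, hval, -, hb⟩ := c.exists_ward_data T hq3 hq4 hcard
  have hqQ : (K.q : ℚ) = c.q := by rw [hq]; norm_num
  refine ⟨K.τ, K.deg, R.four, fun χ => (hval χ).1, fun χ => (hval χ).2.1, K.deg_pos, fun χ h1 h4 => ?_,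
    by rw [R.four_sum, hqQ]⟩
  rw [← hqQ]
  exact_mod_cast hb χ (by rw [ho]; exact h1) h4

include T in
/-- the constituents of the columns of the torus `T` have degree `q ^ 3 + 1` -/
theorem colA_degree [Fintype T.R] [Fintype T.T] {n : ℕ} (hq3 : c.q = 3 ^ n) (hq4 : c.q % 4 = 3)
    (hcard : Nat.card G = c.q ^ 3 * (c.q ^ 3 + 1) * (c.q - 1)) (χ : Cfsg.IrrCharacter G) {j : T.T →* ℂˣ}
    (hj : j ≠ 1) (h0 : c.colA T χ j ≠ 0) : (χ : G → ℂ) 1 = (c.q : ℂ) ^ 3 + 1 := by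
  classical
  haveI := T.T_cyclic
  haveI : Finite (T.T →* ℂˣ) := by
    letI := IsCyclic.commGroup (α := T.T)
    exact finite_dual T.T
  letI : Fintype {j : T.T →* ℂˣ // j ≠ 1} := Fintype.ofFinite _
  obtain ⟨L, _, K, R, hq, -, -, -, -, hval, hm, -⟩ := c.exists_ward_data T hq3 hq4 hcard
  have hC := (hval χ).2.2.2 ⟨j, hj⟩
  rw [← (hval χ).2.1, (hm χ ⟨j, hj⟩ fun h => h0 (by rw [← hC, h, Int.cast_zero])).1, hq]
  push_cast
  rfl

end Ctx

end CfsgLib.Recog.JankoThompson
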