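import Cfsg.Agent.Lib.Recog.JankoThompson.Ward.Final
import Cfsg.Agent.Lib.Recog.JankoThompson.SylowTwo
import Cfsg.Agent.Lib.Recog.JankoThompson.Tori
import Cfsg.Agent.S0343
import Cfsg.Agent.Lib.LocalEven.GoldS.Ctx

/-!
Owner: helper22. The groups of Ree type of the list of simple groups with abelian Sylow 2-subgroups have
non-abelian Sylow 3-subgroups.
-/

set_option autoImplicit false
set_option linter.all false

namespace CfsgLib.Recog.JankoThompson

open Subgroup

universe u v

/-- `C(t) ≅ Z₂ × PSL(2, q)` -/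
theorem ree_cent_equiv {G : Type u} [Group G] {F : Type v} [Field F] [Fintype F]
    (d : CfsgLib.LocalEven.GoldS.Ctx G F) :
    Nonempty (↥(centralizer ({d.t} : Set G)) ≃* Multiplicative (ZMod 2) × P2 F) := by
  haveI : Fact (Nat.Prime 2) := ⟨Nat.prime_two⟩
  let e2 : ↥(zpowers d.t) ≃* Multiplicative (ZMod 2) :=
    mulEquivOfPrimeCardEq (p := 2) (by rw [Nat.card_zpowers, d.ht]) (by rw [Nat.card_eq_fintype_card]; simp)
  exact ⟨((MonoidHom.ofInjective d.prodHom_injective).trans (MulEquiv.subgroupCongr d.range_prodHom)).symm.trans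
    (e2.prodCongr (MulEquiv.refl _))⟩

/-- **Ward**: a group of Ree type has a non-abelian Sylow 3-subgroup. -/
theorem exists_nonabelian_sylow_three {G : Type u} [Group G] [Finite G] [IsSimpleGroup G]
    (hab : ∀ P : Sylow 2 G, ∀ a b : P, a * b = b * a) {F : Type v} [Field F] [Fintype F]
    (d : CfsgLib.LocalEven.GoldS.Ctx G F) : ∃ P : Sylow 3 G, ¬ IsMulCommutative (P : Subgroup G) := by
  classical
  by_contra h
  push Not at h
  obtain ⟨e⟩ := ree_cent_equiv d
  have hbig := d.hbig
  obtain ⟨c⟩ := exists_ctx hab d.ht e (Or.inl d.hq) (by omega)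
  obtain ⟨p, ⟨T⟩⟩ := nonempty_tori c
  let _ := Fintype.ofFinite G
  let _ := Fintype.ofFinite (Cfsg.IrrCharacter G)
  obtain ⟨L, J, _, _, K, hKq, hKN⟩ := c.exists_cols T
  obtain ⟨m, -, hq3, hN⟩ := Cfsg.Agent.S0343.conclusion_nat K hKq hKN
  refine c.not_abelian_sylow_three T (n := 2 * m + 1) hq3 ?_ ?_ h
  · have := d.hq
    show Fintype.card F % 4 = 3
    omega
  · show Nat.card G = Fintype.card F ^ 3 * (Fintype.card F ^ 3 + 1) * (Fintype.card F - 1)
    rw [hq3]
    exact hN

end CfsgLib.Recog.JankoThompson
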