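import Cfsg.Agent.Lib.Recog.JankoThompson.Ward.BorelBase

/-!
Owner: helper22. Groups of Ree type: the normaliser of a Sylow 3-subgroup and the doubly transitive action
(section B of `notes/walter_field_helper22.md`).
-/

set_option autoImplicit false
set_option linter.all false
set_option maxHeartbeats 800000

namespace CfsgLib.Recog.JankoThompson

open Subgroup CfsgLib.AschCrit

universe u v

theorem three_pow_mod {m f n j : ℕ} (hf : m = 2 * f + 1) (hm : m = 3 ^ n) (hn : 1 < n)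
    (h : f ∣ 3 ^ j - 1) : n ∣ j := by
  have h1 : 3 ^ n ≡ 1 [MOD f] :=
    ((Nat.modEq_iff_dvd' (Nat.one_le_pow _ _ (by norm_num))).2 ⟨2, by omega⟩).symm
  have h2 : 3 ^ j ≡ 1 [MOD f] := ((Nat.modEq_iff_dvd' (Nat.one_le_pow _ _ (by norm_num))).2 h).symm
  have h3 : 3 ^ j ≡ 3 ^ (j % n) [MOD f] := by
    conv_lhs => rw [← Nat.mod_add_div j n, pow_add, pow_mul]
    simpa using (Nat.ModEq.refl (3 ^ (j % n))).mul (h1.pow (j / n))
  refine Nat.dvd_of_mod_eq_zero ?_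
  by_contra hne
  have h4 : f ∣ 3 ^ (j % n) - 1 := (Nat.modEq_iff_dvd' (Nat.one_le_pow _ _ (by norm_num))).1 (h2.symm.trans h3)
  have h5 : 3 * 3 ^ (j % n) ≤ 3 ^ n := by
    rw [← pow_succ']
    exact Nat.pow_le_pow_right (by norm_num) (Nat.mod_lt j (by omega))
  have h6 : 3 ≤ 3 ^ (j % n) := Nat.le_self_pow hne 3
  have := Nat.le_of_dvd (by omega) h4
  omega

variable {G : Type u} [Group G] {Fq : Type v} [Field Fq] [Fintype Fq] [Finite G]

namespace Ctx

variable (c : Ctx G Fq) {p : ℕ} (T : Tori Fq c.w p c.e c.f) {n : ℕ} (hq3 : c.q = 3 ^ n) (hq4 : c.q % 4 = 3)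
  (hcard : Nat.card G = c.q ^ 3 * (c.q ^ 3 + 1) * (c.q - 1))
  (hfree : ∀ (x z : G) (r : ℕ), r.Prime → r ≠ 2 → r ≠ 3 → orderOf x = r → orderOf z = 3 → x * z ≠ z * x)
  (hfour : ∀ D : Subgroup G, IsPGroup 3 D → ∀ a b : G, orderOf a = 2 → orderOf b = 2 → a ≠ b → a * b = b * a →
    a ∈ normalizer (D : Set G) → b ∈ normalizer (D : Set G) → D = ⊥)

include hfree in
theorem free_three {x s : G} {r : ℕ} (hr : r.Prime) (h2 : r ≠ 2) (h3 : r ≠ 3) (hx : orderOf x = r)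
    {Q : Subgroup G} (hQ : IsPGroup 3 Q) (hs : s ∈ Q) (hs1 : s ≠ 1) : x * s ≠ s * x := fun h => by
  obtain ⟨m, hm⟩ := IsPGroup.iff_orderOf.1 hQ ⟨s, hs⟩
  rw [Subgroup.orderOf_mk] at hm
  have hd : 3 ∣ orderOf s := by
    rw [hm]; exact dvd_pow_self 3 fun e => hs1 (orderOf_eq_one_iff.1 (by rw [hm, e, pow_zero]))
  exact hfree x (s ^ (orderOf s / 3)) r hr h2 h3 hx (orderOf_pow_orderOf_div (orderOf_pos s).ne' hd)
    ((show Commute x s from h).pow_right _)

include hq3 hq4 in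
theorem two_le_n : 1 < n := by
  by_contra h
  have h1 := c.hbig
  have h2 : c.q ≤ 3 := by rw [hq3]; exact le_trans (Nat.pow_le_pow_right (by norm_num) (not_lt.1 h)) (le_refl _)
  have h3 : c.q = Fintype.card Fq := rfl
  omega

include hq3 hq4 in
theorem three_part_dvd {j : ℕ} (h : 3 ^ j ∣ Nat.card G)
    (hcard : Nat.card G = c.q ^ 3 * (c.q ^ 3 + 1) * (c.q - 1)) : j ≤ 3 * n := by
  obtain ⟨-, -, -, -, hf2⟩ := c.three_facts hq3 hq4
  have hn := c.n_pos' hq4 hq3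
  have h3q : 3 ∣ c.q := hq3 ▸ dvd_pow_self 3 hn.ne'
  have hco : Nat.Coprime (3 ^ j) ((c.q ^ 3 + 1) * (c.q - 1)) := by
    refine Nat.Coprime.pow_left j (Nat.Coprime.mul_right ?_ ?_) <;> refine Nat.prime_three.coprime_iff_not_dvd.2 ?_
    · intro hd
      have : 3 ∣ c.q ^ 3 := h3q.pow (by norm_num)
      omega
    · omega
  rw [hcard, mul_assoc] at h
  have := hco.dvd_of_dvd_mul_right h
  rw [hq3, ← pow_mul, Nat.pow_dvd_pow_iff_le_right (by norm_num)] at this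
  omega

include T hq3 hq4 hcard hfree in
theorem cand_card {Q : Subgroup G} (hQ : c.Cand T Q) :
    ∃ i, (i = 1 ∨ i = 2 ∨ i = 3) ∧ Nat.card Q = c.q ^ i := by
  haveI : Fact (Nat.Prime 3) := ⟨Nat.prime_three⟩
  obtain ⟨h3, hUQ, -, hN⟩ := hQ
  obtain ⟨Y, hYN, hY⟩ := c.exists_Y T hq3 hq4
  obtain ⟨-, f3, -, -, hf2⟩ := c.three_facts hq3 hq4
  obtain ⟨j, hj⟩ := h3.exists_card_eq
  have hdvd : c.f ∣ Nat.card Q - 1 := by
    rw [← hY]
    exact card_dvd_sub_one Y (Q : Set G) Q.one_mem (fun a ha s hs => (mem_normalizer_iff.1 (hN (hYN ha)) s).1 hs)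
      fun a ha hl s hs hs1 => free_three hfree hl (fun e => by
          have h := hY ▸ Subgroup.orderOf_dvd_natCard _ ha
          rw [e] at h
          have := Nat.odd_iff.1 c.f_odd
          omega)
        (fun e => f3 (e ▸ hY ▸ Subgroup.orderOf_dvd_natCard _ ha)) rfl h3 hs hs1
  rw [hj] at hdvd
  obtain ⟨i, rfl⟩ := three_pow_mod hf2 hq3 (c.two_le_n hq3 hq4) hdvd
  have hn := c.n_pos' hq4 hq3
  have hle : n * i ≤ 3 * n := c.three_part_dvd hq3 hq4 (hj ▸ Subgroup.card_subgroup_dvd_card Q) hcard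
  have hge : n ≤ n * i := by
    have h := Subgroup.card_dvd_of_le hUQ
    rw [Subgroup.card_map_of_injective c.inj, T.card_U, show Fintype.card Fq = c.q from rfl, hq3, hj,
      Nat.pow_dvd_pow_iff_le_right (by norm_num)] at h
    exact h
  have h1 : 1 ≤ i := by nlinarith
  have h2 : i ≤ 3 := by nlinarith
  exact ⟨i, by omega, by rw [hj, hq3, ← pow_mul]⟩

include T hq3 hq4 hcard hfree hfour in
/-- the size of the inverted part of the odd part of the normaliser of an invariant 3-subgroup -/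
theorem cand_inverted {Q : Subgroup G} (hQ : c.Cand T Q) {i : ℕ} (hi : i = 1 ∨ i = 2 ∨ i = 3)
    (hQi : Nat.card Q = c.q ^ i) {O : Subgroup G} (hON : O ≤ normalizer (Q : Set G)) (hO : Odd (Nat.card O))
    (htO : c.t ∈ normalizer (O : Set G)) (hC : O ⊓ centralizer ({c.t} : Set G) = c.NUg T)
    (hNO : c.NUg T ≤ normalizer (O : Set G))
    (hbig : i < 3 → 3 ^ (n * i + 1) ∣ Nat.card O) :
    ∃ A : ℕ, Nat.card (invertedIn O c.t) = 3 ^ A ∧ Nat.card O = c.q * c.f * 3 ^ A := by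
  haveI : Fact (Nat.Prime 3) := ⟨Nat.prime_three⟩
  obtain ⟨e3, f3, hef, he4, hf2⟩ := c.three_facts hq3 hq4
  obtain ⟨Y, hYN, hY⟩ := c.exists_Y T hq3 hq4
  have hcardO := card_invertedIn_mul hO c.tt htO
  rw [hC, c.card_NUg T hq3 hq4] at hcardO
  set I := Nat.card (invertedIn O c.t) with hI
  have hI0 : I ≠ 0 := fun e => by rw [e, mul_zero] at hcardO; exact Nat.card_pos.ne hcardO
  set A := I.factorization 3 with hA
  set b := I / 3 ^ A with hbdef
  have hIb : 3 ^ A * b = I := Nat.ordProj_mul_ordCompl_eq_self I 3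
  have hb3 : ¬ 3 ∣ b := Nat.not_dvd_ordCompl Nat.prime_three hI0
  have hb0 : 0 < b := Nat.ordCompl_pos 3 hI0
  suffices hb1 : b = 1 by
    exact ⟨A, by rw [← hIb, hb1, mul_one], by rw [← hcardO, ← hIb, hb1, mul_one]⟩
  have hOG := Subgroup.card_subgroup_dvd_card O
  have hbO : b ∣ Nat.card O := hcardO ▸ (Dvd.intro_left _ hIb).mul_left _
  have hG8 : Nat.card G = 8 * c.q ^ 3 * c.e * c.f * (c.q ^ 2 - c.q + 1) := by
    have h := Nat.le_self_pow two_ne_zero c.q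
    rw [hcard, show c.q - 1 = 2 * c.f by omega,
      show c.q ^ 3 + 1 = (c.q + 1) * (c.q ^ 2 - c.q + 1) by zify [h]; ring, he4]
    ring
  have hprimes : ∀ r : ℕ, r.Prime → r ∣ b → r ∣ c.e ∧ i = 2 := by
    intro r hr hrb
    have hr3 : r ≠ 3 := fun e => hb3 (e ▸ hrb)
    have hrO : r ∣ Nat.card O := hrb.trans hbO
    have hr2 : r ≠ 2 := fun e => by
      have := Nat.odd_iff.1 hO
      rw [e] at hrO
      omega
    have hrf : ¬ r ∣ c.f := fun h => c.f_cofactor hq3 hq4 hcard r hr h (by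
      refine dvd_trans ?_ hOG
      rw [← hcardO, ← hIb]
      exact Dvd.dvd.trans (mul_dvd_mul hrb dvd_rfl) ⟨c.q * 3 ^ A, by ring⟩)
    haveI : Fact r.Prime := ⟨hr⟩
    obtain ⟨x, hx⟩ := exists_prime_orderOf_dvd_card' r hrO
    have hdvd : r ∣ Nat.card Q - 1 := by
      rw [← hx, ← Subgroup.orderOf_coe, ← Nat.card_zpowers]
      refine card_dvd_sub_one (zpowers (x : G)) (Q : Set G) Q.one_mem (fun a ha s hs => ?_) fun a ha hl s hs hs1 => ?_
      · exact (mem_normalizer_iff.1 (hON ((zpowers_le.2 x.2) ha)) s).1 hs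
      · have hd := Subgroup.orderOf_dvd_natCard _ ha
        rw [Nat.card_zpowers, Subgroup.orderOf_coe, hx] at hd
        have ha' := (Nat.prime_dvd_prime_iff_eq hl hr).1 hd
        exact free_three hfree hr hr2 hr3 ha' hQ.1 hs hs1
    rw [hQi] at hdvd
    have hmod : c.q ^ i ≡ 1 [MOD r] := ((Nat.modEq_iff_dvd' (Nat.one_le_pow _ _ c.q_odd.pos)).2 hdvd).symm
    have hZ : (r : ℤ) ∣ (c.q : ℤ) ^ i - 1 := by
      have := Nat.modEq_iff_dvd.1 hmod.symm
      push_cast at this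
      exact this
    have hp : Prime (r : ℤ) := Nat.prime_iff_prime_int.1 hr
    have h2Z : ¬ (r : ℤ) ∣ 2 := fun h => hr2 ((Nat.prime_dvd_prime_iff_eq hr Nat.prime_two).1 (by exact_mod_cast h))
    have hq1 : ¬ (r : ℤ) ∣ (c.q : ℤ) - 1 := fun h => by
      rw [show (c.q : ℤ) - 1 = 2 * (c.f : ℤ) by rw [hf2]; push_cast; ring] at h
      rcases hp.dvd_mul.1 h with h' | h'
      exacts [h2Z h', hrf (Int.natCast_dvd_natCast.1 h')]
    have hrG : r ∣ 8 * c.q ^ 3 * c.e * c.f * (c.q ^ 2 - c.q + 1) := hG8 ▸ hrO.trans hOG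
    have hcases : r ∣ c.e ∨ r ∣ c.q ^ 2 - c.q + 1 := by
      rcases hr.dvd_mul.1 hrG with h | h
      · rcases hr.dvd_mul.1 h with h' | h'
        · rcases hr.dvd_mul.1 h' with h'' | h''
          · rcases hr.dvd_mul.1 h'' with h8 | hq
            · exact absurd ((Nat.prime_dvd_prime_iff_eq hr Nat.prime_two).1
                (hr.dvd_of_dvd_pow (show r ∣ 2 ^ 3 by simpa using h8))) hr2
            · rw [hq3, ← pow_mul] at hq
              exact absurd ((Nat.prime_dvd_prime_iff_eq hr Nat.prime_three).1 (hr.dvd_of_dvd_pow hq)) hr3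
          · exact Or.inl h''
        · exact absurd h' hrf
      · exact Or.inr h
    rcases hcases with he | hΦ
    · have hq' : (r : ℤ) ∣ (c.q : ℤ) + 1 := by
        rw [show (c.q : ℤ) + 1 = 4 * (c.e : ℤ) by exact_mod_cast he4]
        exact (Int.natCast_dvd_natCast.2 he).mul_left 4
      refine ⟨he, ?_⟩
      rcases hi with rfl | rfl | rfl
      · exact absurd (by simpa using hZ) hq1
      · rfl
      · exfalso
        refine h2Z ?_
        have := dvd_sub (hq'.mul_left ((c.q : ℤ) ^ 2 - c.q + 1)) hZ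
        rwa [show ((c.q : ℤ) ^ 2 - c.q + 1) * ((c.q : ℤ) + 1) - ((c.q : ℤ) ^ 3 - 1) = 2 by ring] at this
    · exfalso
      have hΦ' : (r : ℤ) ∣ (c.q : ℤ) ^ 2 - c.q + 1 := by
        have h := Int.natCast_dvd_natCast.2 hΦ
        have hle := Nat.le_self_pow two_ne_zero c.q
        push_cast [Nat.cast_sub hle] at h
        exact h
      rcases hi with rfl | rfl | rfl
      · exact hq1 (by simpa using hZ)
      · rcases hp.dvd_mul.1 (show (r : ℤ) ∣ ((c.q : ℤ) - 1) * ((c.q : ℤ) + 1) by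
          rwa [show ((c.q : ℤ) - 1) * ((c.q : ℤ) + 1) = (c.q : ℤ) ^ 2 - 1 by ring]) with h | h
        · exact hq1 h
        · have := dvd_sub hΦ' (h.mul_left ((c.q : ℤ) - 2))
          rw [show (c.q : ℤ) ^ 2 - c.q + 1 - ((c.q : ℤ) - 2) * ((c.q : ℤ) + 1) = 3 by ring] at this
          exact hr3 ((Nat.prime_dvd_prime_iff_eq hr Nat.prime_three).1 (by exact_mod_cast this))
      · refine h2Z ?_
        have := dvd_sub (hΦ'.mul_left ((c.q : ℤ) + 1)) hZ
        rwa [show ((c.q : ℤ) + 1) * ((c.q : ℤ) ^ 2 - c.q + 1) - ((c.q : ℤ) ^ 3 - 1) = 2 by ring] at this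
  by_contra hb1
  obtain ⟨r, hr, hrb⟩ := Nat.exists_prime_and_dvd hb1
  obtain ⟨-, rfl⟩ := hprimes r hr hrb
  -- the case `|Q| = q ^ 2`
  have hbe : b ∣ c.e := by
    have h : b ∣ c.e * (8 * c.q ^ 3 * c.f * (c.q ^ 2 - c.q + 1)) := by
      rw [show c.e * (8 * c.q ^ 3 * c.f * (c.q ^ 2 - c.q + 1)) = Nat.card G by rw [hG8]; ring]
      exact hbO.trans hOG
    refine Nat.Coprime.dvd_of_dvd_mul_right (Nat.coprime_of_dvd' fun s hs hsb hsM => ?_) h
    obtain ⟨hse, -⟩ := hprimes s hs hsb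
    exfalso
    have hsO : s ∣ Nat.card O := hsb.trans hbO
    have hsq1 : s ∣ c.q + 1 := he4 ▸ hse.mul_left 4
    rcases hs.dvd_mul.1 hsM with h1 | h1
    · rcases hs.dvd_mul.1 h1 with h2 | h2
      · rcases hs.dvd_mul.1 h2 with h3 | h3
        · have := (Nat.prime_dvd_prime_iff_eq hs Nat.prime_two).1 (hs.dvd_of_dvd_pow (show s ∣ 2 ^ 3 by simpa using h3))
          subst this
          have := Nat.odd_iff.1 c.e_odd
          omega
        · rw [hq3, ← pow_mul] at h3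
          exact e3 ((Nat.prime_dvd_prime_iff_eq hs Nat.prime_three).1 (hs.dvd_of_dvd_pow h3) ▸ hse)
      · exact hs.ne_one (Nat.eq_one_of_dvd_coprimes hef hse h2)
    · have hp : Prime (s : ℤ) := Nat.prime_iff_prime_int.1 hs
      have a1 : (s : ℤ) ∣ (c.q : ℤ) + 1 := by exact_mod_cast hsq1
      have a2 : (s : ℤ) ∣ (c.q : ℤ) ^ 2 - c.q + 1 := by
        have h := Int.natCast_dvd_natCast.2 h1
        have hle := Nat.le_self_pow two_ne_zero c.q
        push_cast [Nat.cast_sub hle] at h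
        exact h
      have := dvd_sub a2 (a1.mul_left ((c.q : ℤ) - 2))
      rw [show (c.q : ℤ) ^ 2 - c.q + 1 - ((c.q : ℤ) - 2) * ((c.q : ℤ) + 1) = 3 by ring] at this
      exact e3 ((Nat.prime_dvd_prime_iff_eq hs Nat.prime_three).1 (by exact_mod_cast this) ▸ hse)
  have hIf : c.f ∣ I - 1 := by
    rw [← hY, hI]
    refine card_dvd_sub_one Y (invertedIn O c.t) ⟨O.one_mem, by group⟩ (fun a ha s hs => ?_) fun a ha hl s hs hs1 he => ?_
    · obtain ⟨k, -, rfl⟩ := hYN ha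
      refine ⟨(mem_normalizer_iff.1 (hNO (hYN ha)) s).1 hs.1, ?_⟩
      calc c.t * (c.ι k * s * (c.ι k)⁻¹) * c.t⁻¹ = (c.t * c.ι k) * s * ((c.ι k)⁻¹ * c.t⁻¹) := by group
        _ = (c.ι k * c.t) * s * ((c.ι k)⁻¹ * c.t⁻¹) := by rw [← c.t_ι k]
        _ = c.ι k * (c.t * s * c.t⁻¹) * (c.t * c.ι k * c.t⁻¹)⁻¹ := by group
        _ = c.ι k * s⁻¹ * (c.ι k)⁻¹ := by rw [← c.t_ι k, mul_inv_cancel_right, hs.2]
        _ = _ := by group
    · obtain ⟨k, -, hk⟩ := hYN ha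
      have hz := c.cent_le_of_f T hq3 hq4 hcard (by rw [← hk]; exact c.t_ι k) hl
        (hY ▸ Subgroup.orderOf_dvd_natCard _ ha) he
      have h1 : c.t * s * c.t⁻¹ = s := mul_inv_eq_iff_eq_mul.2 hz.symm
      rw [hs.2] at h1
      exact hs1 (eq_one_of_coprime (Nat.coprime_two_left.2 (hO.of_dvd_nat (Subgroup.orderOf_dvd_natCard _ hs.1)))
        (orderOf_dvd_of_pow_eq_one (by rw [pow_two]; exact inv_eq_iff_mul_eq_one.1 h1)) dvd_rfl)
  -- the congruence
  have hn := c.two_le_n hq3 hq4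
  have hA1 : n + A ≤ 3 * n := by
    refine c.three_part_dvd hq3 hq4 (dvd_trans ?_ hOG) hcard
    rw [← hcardO, ← hIb, hq3, pow_add]
    exact ⟨c.f * b, by ring⟩
  have hA2 : n * 2 + 1 ≤ n + A := by
    have h := hbig (by norm_num)
    rw [← hcardO, ← hIb, show c.q * c.f * (3 ^ A * b) = (c.f * b) * (c.q * 3 ^ A) by ring] at h
    have hco : Nat.Coprime (3 ^ (n * 2 + 1)) (c.f * b) := Nat.Coprime.pow_left _
      ((Nat.prime_three.coprime_iff_not_dvd.2 f3).mul_right (Nat.prime_three.coprime_iff_not_dvd.2 hb3))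
    have h' := hco.dvd_of_dvd_mul_left h
    rwa [hq3, ← pow_add, Nat.pow_dvd_pow_iff_le_right (by norm_num)] at h'
  have hmodI : I ≡ 1 [MOD c.f] := ((Nat.modEq_iff_dvd' (Nat.one_le_iff_ne_zero.2 hI0)).2 hIf).symm
  have hmodq : c.q ≡ 1 [MOD c.f] := ((Nat.modEq_iff_dvd' c.q_odd.pos).2 ⟨2, by omega⟩).symm
  have hb_mod : b ≡ 3 ^ (2 * n - A) [MOD c.f] := by
    have h1 : c.q ^ 2 * b ≡ b [MOD c.f] := by simpa using (hmodq.pow 2).mul_right b
    have h2 : c.q ^ 2 * b = 3 ^ (2 * n - A) * I := by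
      rw [← hIb, ← mul_assoc, ← pow_add, show 2 * n - A + A = 2 * n by omega, hq3, ← pow_mul, mul_comm n 2]
    have h3 : 3 ^ (2 * n - A) * I ≡ 3 ^ (2 * n - A) [MOD c.f] := by
      simpa using hmodI.mul_left (3 ^ (2 * n - A))
    exact (h1.symm.trans (h2 ▸ h3))
  have hlt1 : b < c.f := by
    have h1 := Nat.le_of_dvd c.e_pos hbe
    have h2 := c.hbig
    have h3 : c.q = Fintype.card Fq := rfl
    omega
  have hlt2 : 3 ^ (2 * n - A) < c.f := by
    have h1 : 3 * 3 ^ (2 * n - A) ≤ 3 ^ n := by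
      rw [← pow_succ']; exact Nat.pow_le_pow_right (by norm_num) (by omega)
    have h2 := c.hbig
    have h3 : c.q = Fintype.card Fq := rfl
    omega
  have hbeq := hb_mod.eq_of_lt_of_lt hlt1 hlt2
  rcases Nat.eq_zero_or_pos (2 * n - A) with h | h
  · rw [h, pow_zero] at hbeq; exact hb1 hbeq
  · exact hb3 (hbeq ▸ dvd_pow_self 3 h.ne')

end Ctx

end CfsgLib.Recog.JankoThompson
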