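import Cfsg.Agent.Lib.Recog.JankoThompson.Ward.Torus
import Cfsg.Agent.Lib.Invol.AschCrit.FormulaTools

/-!
Owner: helper22. Groups of Ree type: an invariant Sylow 3-subgroup over the root group
(section B of `notes/walter_field_helper22.md`).
-/

set_option autoImplicit false
set_option linter.all false
set_option maxHeartbeats 800000

namespace CfsgLib.Recog.JankoThompson

open Subgroup

universe u v

/-- a group acting by conjugation without fixed points outside `1` -/
theorem card_dvd_sub_one {G : Type u} [Group G] [Finite G] (A : Subgroup G) (S : Set G) (h1 : (1 : G) ∈ S)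
    (hA : ∀ a ∈ A, ∀ s ∈ S, a * s * a⁻¹ ∈ S)
    (hfree : ∀ a ∈ A, (orderOf a).Prime → ∀ s ∈ S, s ≠ 1 → a * s ≠ s * a) :
    Nat.card A ∣ Nat.card S - 1 := by
  classical
  letI : MulAction A {s : G // s ∈ S ∧ s ≠ 1} :=
    { smul := fun a s => ⟨a * s * (a : G)⁻¹, hA a a.2 s s.2.1, fun e => s.2.2 (conj_eq_one_iff.1 e)⟩
      one_smul := fun s => Subtype.ext (by show ((1 : A) : G) * s * ((1 : A) : G)⁻¹ = s; simp)
      mul_smul := fun a b s => Subtype.ext (by
        show ((a * b : A) : G) * s * ((a * b : A) : G)⁻¹ = (a : G) * ((b : G) * s * (b : G)⁻¹) * (a : G)⁻¹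
        push_cast; group) }
  have hstab : ∀ s : {s : G // s ∈ S ∧ s ≠ 1}, MulAction.stabilizer A s = ⊥ := by
    intro s
    rw [eq_bot_iff]
    intro a ha
    rw [mem_bot]
    by_contra hne
    have hne' : orderOf a ≠ 1 := fun e => hne (orderOf_eq_one_iff.1 e)
    obtain ⟨l, hl, hld⟩ := Nat.exists_prime_and_dvd hne'
    set b := a ^ (orderOf a / l) with hb
    have hbl : orderOf b = l := by
      rw [hb, orderOf_pow_orderOf_div (orderOf_pos a).ne' hld]
    have hbs : b • s = s := (MulAction.stabilizer A s).pow_mem ha _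
    have e : (b : G) * (s : G) * (b : G)⁻¹ = s := congrArg Subtype.val hbs
    exact hfree b b.2 (by rw [Subgroup.orderOf_coe, hbl]; exact hl) s s.2.1 s.2.2 (mul_inv_eq_iff_eq_mul.1 e)
  haveI := Fintype.ofFinite (MulAction.orbitRel.Quotient A {s : G // s ∈ S ∧ s ≠ 1})
  have hcard : Nat.card {s : G // s ∈ S ∧ s ≠ 1} =
      Nat.card (MulAction.orbitRel.Quotient A {s : G // s ∈ S ∧ s ≠ 1}) * Nat.card A := by
    rw [Nat.card_congr (MulAction.selfEquivSigmaOrbitsQuotientStabilizer A _), Nat.card_sigma]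
    have : ∀ s : {s : G // s ∈ S ∧ s ≠ 1}, Nat.card (A ⧸ MulAction.stabilizer A s) = Nat.card A := fun s => by
      rw [hstab, ← Subgroup.index_eq_card, Subgroup.index_bot]
    simp only [this, Finset.sum_const, Finset.card_univ, smul_eq_mul, ← Nat.card_eq_fintype_card]
  have hsub : Nat.card {s : G // s ∈ S ∧ s ≠ 1} = Nat.card S - 1 := by
    rw [Nat.card_coe_set_eq, ← Set.ncard_diff_singleton_of_mem h1, ← Nat.card_coe_set_eq]
    rfl
  exact ⟨_, by rw [← hsub, hcard, mul_comm]⟩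

variable {G : Type u} [Group G] {Fq : Type v} [Field Fq] [Fintype Fq] [Finite G]

namespace Ctx

variable (c : Ctx G Fq) {p : ℕ} (T : Tori Fq c.w p c.e c.f) {n : ℕ} (hq3 : c.q = 3 ^ n) (hq4 : c.q % 4 = 3)
  (hcard : Nat.card G = c.q ^ 3 * (c.q ^ 3 + 1) * (c.q - 1))
  (hfree : ∀ (x z : G) (r : ℕ), r.Prime → r ≠ 2 → r ≠ 3 → orderOf x = r → orderOf z = 3 → x * z ≠ z * x)
  (hfour : ∀ D : Subgroup G, IsPGroup 3 D → ∀ a b : G, orderOf a = 2 → orderOf b = 2 → a ≠ b → a * b = b * a →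
    a ∈ normalizer (D : Set G) → b ∈ normalizer (D : Set G) → D = ⊥)

/-- the image in `G` of the normaliser of the root group of `C(t)` -/
def NUg : Subgroup G := (normalizer (T.U : Set (P2 Fq))).map c.ι

/-- a 3-subgroup over the root group invariant under `⟨t⟩` and the normaliser of the root group -/
def Cand (Q : Subgroup G) : Prop :=
  IsPGroup 3 Q ∧ T.U.map c.ι ≤ Q ∧ c.t ∈ normalizer (Q : Set G) ∧ c.NUg T ≤ normalizer (Q : Set G)

include hq3 hq4 in
theorem card_NU : Nat.card (normalizer (T.U : Set (P2 Fq))) = c.q * c.f := by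
  obtain ⟨-, -, -, -, hf2⟩ := c.three_facts hq3 hq4
  have h := c.card_normalizer_U T
  rw [show c.q - 1 = 2 * c.f by omega] at h
  nlinarith

include hq3 hq4 in
theorem card_NUg : Nat.card (c.NUg T) = c.q * c.f := by
  rw [NUg, Subgroup.card_map_of_injective c.inj, c.card_NU T hq3 hq4]

include hq3 hq4 in
/-- a complement of the root group in its normaliser -/
theorem exists_Y : ∃ Y : Subgroup G, Y ≤ c.NUg T ∧ Nat.card Y = c.f := by
  set N := normalizer (T.U : Set (P2 Fq)) with hN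
  haveI : (T.U.subgroupOf N).Normal := normal_subgroupOf_of_le_normalizer le_rfl
  have hU : Nat.card (T.U.subgroupOf N) = c.q := by
    rw [Nat.card_congr (Subgroup.subgroupOfEquivOfLe Subgroup.le_normalizer).toEquiv, T.card_U]; rfl
  have hidx : (T.U.subgroupOf N).index = c.f := by
    have h := (T.U.subgroupOf N).card_mul_index
    rw [hU, c.card_NU T hq3 hq4] at h
    exact Nat.eq_of_mul_eq_mul_left c.q_odd.pos h
  obtain ⟨-, f3, -, -, -⟩ := c.three_facts hq3 hq4
  obtain ⟨H, hH⟩ := exists_right_complement'_of_coprime (N := T.U.subgroupOf N) (by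
    rw [hU, hidx, hq3]; exact Nat.Coprime.pow_left _ (Nat.prime_three.coprime_iff_not_dvd.2 f3))
  refine ⟨(H.map N.subtype).map c.ι, Subgroup.map_mono (map_subtype_le H), ?_⟩
  rw [Subgroup.card_map_of_injective c.inj, Subgroup.card_map_of_injective N.subtype_injective]
  have h := hH.card_mul
  rw [hU, c.card_NU T hq3 hq4] at h
  exact Nat.eq_of_mul_eq_mul_left c.q_odd.pos h

include T hq3 hq4 hcard in
/-- an element of `C(t)` of prime order dividing `f` has its centraliser in `C(t)` -/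
theorem cent_le_of_f {y z : G} (hy : y * c.t = c.t * y) (hl : (orderOf y).Prime) (hlf : orderOf y ∣ c.f)
    (hz : y * z = z * y) : z * c.t = c.t * z := by
  obtain ⟨-, f3, hef, -, -⟩ := c.three_facts hq3 hq4
  obtain ⟨k, rfl⟩ := c.mem_range_of_odd hy (c.f_odd.of_dvd_nat hlf)
  rw [c.orderOf_ι] at hl hlf
  have hk1 : k ≠ 1 := fun e => hl.ne_one (by rw [e, orderOf_one])
  obtain ⟨h, hh | hh | hh⟩ := T.cover k (c.f_odd.of_dvd_nat hlf)
  · exfalso
    have h1 : orderOf k ∣ c.e := by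
      rw [← T.card_R]
      have := Subgroup.orderOf_dvd_natCard _ hh
      rwa [← MulAut.conj_apply, MulEquiv.orderOf_eq] at this
    exact hl.ne_one (Nat.eq_one_of_dvd_coprimes hef h1 hlf)
  · have hne : h * k * h⁻¹ ≠ 1 := fun e => hk1 (conj_eq_one_iff.1 e)
    set z' := c.ι h * z * (c.ι h)⁻¹ with hz'
    have hz'c : z' * c.ι (h * k * h⁻¹) = c.ι (h * k * h⁻¹) * z' := by
      rw [hz', map_mul, map_mul, map_inv, conj_mul, conj_mul, hz]
    obtain ⟨k', -, e⟩ := c.cent_cases_T T hq3 hq4 hcard hh hne hz'c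
    have hz't : z' * c.t = c.t * z' := by
      rcases e with e | e <;> rw [e]
      · exact c.t_ι k'
      · rw [mul_assoc, c.t_ι k']
    have hzz : z = (c.ι h)⁻¹ * z' * c.ι h := by rw [hz']; group
    rw [hzz]
    calc (c.ι h)⁻¹ * z' * c.ι h * c.t = (c.ι h)⁻¹ * (z' * c.t) * c.ι h := by
          rw [mul_assoc _ (c.ι h) c.t, c.t_ι h]; group
      _ = ((c.ι h)⁻¹ * c.t) * z' * c.ι h := by rw [hz't]; group
      _ = _ := by rw [← map_inv, c.t_ι, map_inv]; group
  · exfalso
    have h1 : orderOf k ∣ 3 ^ n := by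
      rw [← hq3, show c.q = Nat.card T.U from T.card_U.symm]
      have := Subgroup.orderOf_dvd_natCard _ hh
      rwa [← MulAut.conj_apply, MulEquiv.orderOf_eq] at this
    exact hl.ne_one (Nat.eq_one_of_dvd_coprimes
      (Nat.Coprime.pow_left n (Nat.prime_three.coprime_iff_not_dvd.2 f3)) h1 hlf)

include hq3 hq4 in
theorem cand_root : c.Cand T (T.U.map c.ι) := by
  refine ⟨(c.U_isPGroup T hq3).map _, le_rfl, ?_, ?_⟩
  · rw [mem_normalizer_iff]
    intro x
    have key : ∀ y ∈ T.U.map c.ι, c.t * y * c.t⁻¹ = y := by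
      rintro _ ⟨k, -, rfl⟩
      exact mul_inv_eq_iff_eq_mul.2 (c.t_ι k).symm
    refine ⟨fun hx => by rwa [key x hx], fun hx => ?_⟩
    have h2 : c.t * x * c.t⁻¹ = x := (MulAut.conj c.t).injective (key _ hx)
    rwa [h2] at hx
  · rintro _ ⟨g, hg, rfl⟩
    rw [mem_normalizer_iff]
    intro x
    constructor
    · rintro ⟨k, hk, rfl⟩
      exact ⟨g * k * g⁻¹, (mem_normalizer_iff.1 hg k).1 hk, by rw [map_mul, map_mul, map_inv]⟩
    · rintro ⟨k, hk, e⟩
      refine ⟨g⁻¹ * k * g, (mem_normalizer_iff.1 hg _).2 (by rwa [show g * (g⁻¹ * k * g) * g⁻¹ = k by group]), ?_⟩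
      rw [map_mul, map_mul, map_inv, e]; group

include T hq3 hq4 hfour in
/-- the odd part of the normaliser of an invariant 3-subgroup -/
theorem exists_oddPart {Q : Subgroup G} (hQ : c.Cand T Q) :
    ∃ O : Subgroup G, O ≤ normalizer (Q : Set G) ∧ Odd (Nat.card O) ∧ c.t ∈ normalizer (O : Set G) ∧
      normalizer (Q : Set G) ≤ normalizer (O : Set G) ∧
      (∀ h ∈ normalizer (Q : Set G), h ∈ O ∨ c.t * h ∈ O) ∧
      (∀ h ∈ normalizer (Q : Set G), Odd (orderOf h) → h ∈ O) ∧ Q ≤ O ∧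
      O ⊓ centralizer ({c.t} : Set G) = c.NUg T ∧ Q ⊓ centralizer ({c.t} : Set G) = T.U.map c.ι := by
  obtain ⟨h3, hUQ, ht, hN⟩ := hQ
  haveI : Fact (Nat.Prime 3) := ⟨Nat.prime_three⟩
  have hodd : ∀ k : P2 Fq, c.ι k ∈ normalizer (Q : Set G) → Odd (orderOf k) := by
    intro k hk
    by_contra he
    rw [Nat.not_odd_iff_even] at he
    obtain ⟨j, hj⟩ := he
    set i := k ^ (orderOf k / 2) with hi
    have hi2 : orderOf i = 2 := by
      rw [hi, orderOf_pow_orderOf_div (orderOf_pos k).ne' ⟨j, by omega⟩]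
    have h := hfour Q h3 c.t (c.ι i) c.ht (by rw [c.orderOf_ι, hi2])
      (fun e => c.tnot ⟨i, e.symm⟩) (c.t_ι i).symm ht (by rw [hi, map_pow]; exact pow_mem hk _)
    have hp := hUQ (mem_map_of_mem c.ι T.plus_mem)
    rw [h, mem_bot] at hp
    exact T.plus_ne (c.inj (by rw [hp, map_one]))
  obtain ⟨O, hOH, hOodd, hHO, hcases, hOmem⟩ := c.split_odd ht hodd
  have hQodd : Odd (Nat.card Q) := by
    obtain ⟨m, hm⟩ := h3.exists_card_eq
    rw [hm]; exact Odd.pow (by decide)
  have hQO : Q ≤ O := fun x hx => hOmem x (Subgroup.le_normalizer hx)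
    (hQodd.of_dvd_nat (Subgroup.orderOf_dvd_natCard _ hx))
  have hNUodd : Odd (Nat.card (c.NUg T)) := by
    rw [c.card_NUg T hq3 hq4]; exact c.q_odd.mul c.f_odd
  have hNUO : c.NUg T ≤ O := fun x hx => hOmem x (hN hx) (hNUodd.of_dvd_nat (Subgroup.orderOf_dvd_natCard _ hx))
  have hC : O ⊓ centralizer ({c.t} : Set G) = c.NUg T := by
    refine le_antisymm ?_ (le_inf hNUO ?_)
    · rintro x ⟨hx, hxt⟩
      obtain ⟨k, rfl⟩ := c.mem_range_of_odd (mem_centralizer_singleton_iff.1 hxt)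
        (hOodd.of_dvd_nat (Subgroup.orderOf_dvd_natCard _ hx))
      exact ⟨k, c.odd_le_normalizer T hq3 hq4 (A := O.comap c.ι)
        (hOodd.of_dvd_nat (Subgroup.card_comap_dvd_of_injective _ _ c.inj))
        (fun u hu => hQO (hUQ (mem_map_of_mem c.ι hu))) hx, rfl⟩
    · rintro _ ⟨k, -, rfl⟩
      exact mem_centralizer_singleton_iff.2 (c.t_ι k)
  refine ⟨O, hOH, hOodd, hHO ht, hHO, hcases, hOmem, hQO, hC, ?_⟩
  have hle : T.U.map c.ι ≤ Q ⊓ centralizer ({c.t} : Set G) := le_inf hUQ (by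
    rintro _ ⟨k, -, rfl⟩
    exact mem_centralizer_singleton_iff.2 (c.t_ι k))
  refine (Subgroup.eq_of_le_of_card_ge hle ?_).symm
  obtain ⟨j, hj⟩ := (h3.to_le (inf_le_left : Q ⊓ centralizer ({c.t} : Set G) ≤ Q)).exists_card_eq
  have hd : Nat.card (Q ⊓ centralizer ({c.t} : Set G) : Subgroup G) ∣ c.q * c.f := by
    rw [← c.card_NUg T hq3 hq4, ← hC]
    exact Subgroup.card_dvd_of_le (inf_le_inf_right _ hQO)
  obtain ⟨-, f3, -, -, -⟩ := c.three_facts hq3 hq4
  rw [hj] at hd ⊢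
  rw [Subgroup.card_map_of_injective c.inj, T.card_U, show Fintype.card Fq = c.q from rfl]
  exact Nat.le_of_dvd c.q_odd.pos
    ((Nat.Coprime.pow_left j (Nat.prime_three.coprime_iff_not_dvd.2 f3)).dvd_of_dvd_mul_right hd)

end Ctx

end CfsgLib.Recog.JankoThompson
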