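import Cfsg.Agent.Lib.Recog.JankoThompson.Ward.Borel

/-!
Owner: helper22. Groups of Ree type: the normaliser of a Sylow 3-subgroup has index `q ^ 3 + 1`, the action on its
cosets is doubly transitive, the Sylow 3-subgroups are trivial intersection sets, and `t` fixes `q + 1` cosets
(section B of `notes/walter_field_helper22.md`).
-/

set_option autoImplicit false
set_option linter.all false
set_option maxHeartbeats 800000

namespace CfsgLib.Recog.JankoThompson

open Subgroup CfsgLib.AschCrit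

universe u v

variable {G : Type u} [Group G] {Fq : Type v} [Field Fq] [Fintype Fq]

/-- a Sylow 3-subgroup `Q`, its normaliser `B` of index `q ^ 3 + 1`, and an involution `w` of `C(t)` outside `B` -/
structure BorelData (G : Type u) [Group G] (q : ℕ) (t : G) where
  Q : Subgroup G
  B : Subgroup G
  w : G
  B_eq : B = normalizer (Q : Set G)
  Q_three : IsPGroup 3 Q
  card_Q : Nat.card Q = q ^ 3
  card_B : Nat.card B = q ^ 3 * (q - 1)
  index_B : B.index = q ^ 3 + 1
  t_mem : t ∈ B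
  card_cent : Nat.card (Q ⊓ centralizer ({t} : Set G) : Subgroup G) = q
  w_two : orderOf w = 2
  w_t : w * t = t * w
  w_not : w ∉ B
  three_mem : ∀ x ∈ B, (∃ j : ℕ, x ^ 3 ^ j = 1) → x ∈ Q
  inter_w : ∀ x ∈ Q, w * x * w⁻¹ ∈ Q → x = 1
  cover : ∀ g, g ∉ B → ∃ a ∈ Q, (a * w)⁻¹ * g ∈ B
  ti : ∀ g, g ∉ B → ∀ x ∈ Q, g * x * g⁻¹ ∈ Q → x = 1
  card_fixed : Nat.card {s : G ⧸ B // t • s = s} = q + 1

namespace Ctx

variable [Finite G] (c : Ctx G Fq) {p : ℕ} (T : Tori Fq c.w p c.e c.f) {n : ℕ} (hq3 : c.q = 3 ^ n)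
  (hq4 : c.q % 4 = 3) (hcard : Nat.card G = c.q ^ 3 * (c.q ^ 3 + 1) * (c.q - 1))
  (hfree : ∀ (x z : G) (r : ℕ), r.Prime → r ≠ 2 → r ≠ 3 → orderOf x = r → orderOf z = 3 → x * z ≠ z * x)
  (hfour : ∀ D : Subgroup G, IsPGroup 3 D → ∀ a b : G, orderOf a = 2 → orderOf b = 2 → a ≠ b → a * b = b * a →
    a ∈ normalizer (D : Set G) → b ∈ normalizer (D : Set G) → D = ⊥)

include T hq3 hq4 hcard hfree hfour in
theorem cand_bigger {Q : Subgroup G} (hQ : c.Cand T Q) {i : ℕ} (hi : i = 1 ∨ i = 2)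
    (hQi : Nat.card Q = c.q ^ i) : ∃ P, c.Cand T P ∧ Nat.card Q < Nat.card P := by
  haveI : Fact (Nat.Prime 3) := ⟨Nat.prime_three⟩
  obtain ⟨O, hON, hO, htO, hHO, hcases, hmem, hQO, hC, -⟩ := c.exists_oddPart T hq3 hq4 hfour hQ
  obtain ⟨-, f3, -, -, -⟩ := c.three_facts hq3 hq4
  have hn := c.n_pos' hq4 hq3
  have hj : Nat.card Q = 3 ^ (n * i) := by rw [hQi, hq3, ← pow_mul]
  have hbig : 3 ^ (n * i + 1) ∣ Nat.card O := by
    have hG : 3 ^ (n * i + 1) ∣ Nat.card G := by
      rw [hcard, hq3, ← pow_mul, mul_assoc]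
      refine Dvd.dvd.mul_right (pow_dvd_pow 3 ?_) _
      rcases hi with rfl | rfl <;> omega
    obtain ⟨K, hK⟩ : ∃ K : Subgroup (normalizer (Q : Set G)), Nat.card K = 3 ^ (n * i + 1) := by
      refine Sylow.exists_subgroup_card_pow_prime 3 ?_
      have h1 := Sylow.prime_dvd_card_quotient_normalizer hG hj
      rw [← Subgroup.index_eq_card] at h1
      have h2 := (Q.comap (normalizer (Q : Set G)).subtype).card_mul_index
      rw [show Nat.card (Q.comap (normalizer (Q : Set G)).subtype) = 3 ^ (n * i) by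
        rw [← hj]; exact Nat.card_congr (Subgroup.subgroupOfEquivOfLe Subgroup.le_normalizer).toEquiv] at h2
      rw [← h2, pow_succ]
      exact mul_dvd_mul_left _ h1
    rw [← hK, ← Subgroup.card_map_of_injective (normalizer (Q : Set G)).subtype_injective (K := K)]
    refine Subgroup.card_dvd_of_le ?_
    rintro _ ⟨x, hx, rfl⟩
    refine hmem x x.2 ?_
    rw [Subgroup.orderOf_coe]
    exact (show Odd (3 ^ (n * i + 1)) from Odd.pow (by decide)).of_dvd_nat (hK ▸ Subgroup.orderOf_dvd_natCard _ hx)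
  have hNO : c.NUg T ≤ normalizer (O : Set G) := hQ.2.2.2.trans hHO
  obtain ⟨A, hA, hOA⟩ := c.cand_inverted T hq3 hq4 hcard hfree hfour hQ
    (by rcases hi with h | h <;> simp [h]) hQi hON hO htO hC hNO (fun _ => hbig)
  obtain ⟨S, hQS, hSt⟩ := CfsgLib.Core.exists_invariant_sylow_ge (A := zpowers c.t) (K := O)
    (zpowers_le.2 htO) (coprime_zpowers hO c.tt) (Or.inl inferInstance) hQO hQ.1
    (zpowers_le.2 hQ.2.2.1)
  set P := (S : Subgroup O).map O.subtype with hP
  have hP3 : IsPGroup 3 P := S.2.map _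
  have hPO : P ≤ O := map_subtype_le _
  have htP : c.t ∈ normalizer (P : Set G) := hSt (mem_zpowers _)
  have hPcard : Nat.card P = c.q * 3 ^ A := by
    rw [hP, Subgroup.card_map_of_injective O.subtype_injective, S.card_eq_multiplicity, hOA]
    have : (c.q * c.f * 3 ^ A).factorization 3 = n + A := by
      rw [show c.q * c.f * 3 ^ A = 3 ^ (n + A) * c.f by rw [hq3, pow_add]; ring,
        Nat.factorization_mul (by positivity) c.f_odd.pos.ne', Finsupp.add_apply, Nat.factorization_pow,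
        Finsupp.smul_apply, Nat.prime_three.factorization_self, Nat.factorization_eq_zero_of_not_dvd f3]
      simp
    rw [this, hq3, pow_add]
  have hUP : T.U.map c.ι ≤ P ⊓ centralizer ({c.t} : Set G) := le_inf (hQ.2.1.trans hQS) (by
    rintro _ ⟨k, -, rfl⟩
    exact mem_centralizer_singleton_iff.2 (c.t_ι k))
  have hPodd : Odd (Nat.card P) := hO.of_dvd_nat (Subgroup.card_dvd_of_le hPO)
  have hCP : Nat.card (P ⊓ centralizer ({c.t} : Set G) : Subgroup G) = c.q := by
    refine le_antisymm ?_ ?_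
    · obtain ⟨j, hjj⟩ := (hP3.to_le (inf_le_left : P ⊓ centralizer ({c.t} : Set G) ≤ P)).exists_card_eq
      have hd : Nat.card (P ⊓ centralizer ({c.t} : Set G) : Subgroup G) ∣ c.q * c.f := by
        rw [← c.card_NUg T hq3 hq4, ← hC]; exact Subgroup.card_dvd_of_le (inf_le_inf_right _ hPO)
      rw [hjj] at hd ⊢
      exact Nat.le_of_dvd c.q_odd.pos
        ((Nat.Coprime.pow_left j (Nat.prime_three.coprime_iff_not_dvd.2 f3)).dvd_of_dvd_mul_right hd)
    · have := Subgroup.card_le_of_le hUP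
      rwa [Subgroup.card_map_of_injective c.inj, T.card_U] at this
  have hIP : invertedIn P c.t = invertedIn O c.t := by
    refine Set.eq_of_subset_of_ncard_le (fun x hx => ⟨hPO hx.1, hx.2⟩) ?_ (Set.toFinite _)
    have h := card_invertedIn_mul hPodd c.tt htP
    rw [hCP, hPcard] at h
    rw [← Nat.card_coe_set_eq, ← Nat.card_coe_set_eq, hA, Nat.eq_of_mul_eq_mul_left c.q_odd.pos h]
  set X := closure (((T.U.map c.ι : Subgroup G) : Set G) ∪ invertedIn O c.t) with hX
  have hXP : X ≤ P := by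
    rw [hX, closure_le]
    rintro x (hx | hx)
    · exact (hUP hx).1
    · exact (hIP ▸ hx).1
  have hsubX : ((T.U.map c.ι : Subgroup G) : Set G) ∪ invertedIn O c.t ⊆ (X : Set G) := subset_closure
  have htX : c.t ∈ normalizer (X : Set G) := by
    have hfix : ∀ x ∈ X, c.t * x * c.t⁻¹ ∈ X := by
      intro x hx
      induction hx using closure_induction with
      | mem x hx =>
        rcases hx with hx | hx
        · obtain ⟨k, hk, rfl⟩ := hx
          rw [mul_inv_eq_iff_eq_mul.2 (c.t_ι k).symm]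
          exact hsubX (Or.inl ⟨k, hk, rfl⟩)
        · rw [hx.2]; exact inv_mem (hsubX (Or.inr hx))
      | one => simp
      | mul x y _ _ h1 h2 => rw [← conj_mul]; exact mul_mem h1 h2
      | inv x _ h => rw [← conj_inv]; exact inv_mem h
    refine mem_normalizer_iff.2 fun x => ⟨hfix x, fun hx => ?_⟩
    have := hfix _ hx
    rwa [show c.t * (c.t * x * c.t⁻¹) * c.t⁻¹ = (c.t * c.t) * x * (c.t * c.t)⁻¹ by group, c.tt, one_mul, inv_one,
      mul_one] at this
  have hXeq : X = P := by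
    refine Subgroup.eq_of_le_of_card_ge hXP ?_
    have h := card_invertedIn_mul (hPodd.of_dvd_nat (Subgroup.card_dvd_of_le hXP)) c.tt htX
    rw [← h, hPcard]
    refine Nat.mul_le_mul ?_ ?_
    · calc c.q = Nat.card (T.U.map c.ι) := by rw [Subgroup.card_map_of_injective c.inj, T.card_U]; rfl
        _ ≤ _ := Subgroup.card_le_of_le (le_inf (fun x hx => hsubX (Or.inl hx)) (fun x hx => (hUP hx).2))
    · rw [← hA, Nat.card_coe_set_eq, Nat.card_coe_set_eq]
      exact Set.ncard_le_ncard (fun x hx => ⟨hsubX (Or.inr hx), hx.2⟩) (Set.toFinite _)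
  have hNP : c.NUg T ≤ normalizer (P : Set G) := by
    have hstep : ∀ g ∈ c.NUg T, ∀ x ∈ P, g * x * g⁻¹ ∈ P := by
      intro g hg x hx
      rw [← hXeq] at hx ⊢
      induction hx using closure_induction with
      | mem x hx =>
        rcases hx with hx | hx
        · exact hsubX (Or.inl ((mem_normalizer_iff.1 ((c.cand_root T hq3 hq4).2.2.2 hg) x).1 hx))
        · refine hsubX (Or.inr ⟨(mem_normalizer_iff.1 (hNO hg) x).1 hx.1, ?_⟩)
          obtain ⟨k, -, rfl⟩ := hg
          rw [show c.t * (c.ι k * x * (c.ι k)⁻¹) * c.t⁻¹ = (c.t * c.ι k) * x * (c.t * c.ι k)⁻¹ by group,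
            ← c.t_ι k, show c.ι k * c.t * x * (c.ι k * c.t)⁻¹ = c.ι k * (c.t * x * c.t⁻¹) * (c.ι k)⁻¹ by group,
            hx.2]
          group
      | one => simp
      | mul x y _ _ h1 h2 => rw [← conj_mul]; exact mul_mem h1 h2
      | inv x _ h => rw [← conj_inv]; exact inv_mem h
    intro g hg
    refine mem_normalizer_iff.2 fun x => ⟨hstep g hg x, fun hx => ?_⟩
    have := hstep g⁻¹ (inv_mem hg) _ hx
    rwa [show g⁻¹ * (g * x * g⁻¹) * g⁻¹⁻¹ = x by group] at this
  refine ⟨P, ⟨hP3, fun x hx => (hUP hx).1, htP, hNP⟩, ?_⟩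
  rw [hPcard, hj]
  have hA1 : n * i + 1 ≤ n + A := by
    have h := hbig
    rw [hOA, show c.q * c.f * 3 ^ A = c.f * 3 ^ (n + A) by rw [hq3, pow_add]; ring] at h
    have h' := (Nat.Coprime.pow_left _ (Nat.prime_three.coprime_iff_not_dvd.2 f3)).dvd_of_dvd_mul_left h
    rwa [Nat.pow_dvd_pow_iff_le_right (by norm_num)] at h'
  rw [hq3, ← pow_add]
  exact Nat.pow_lt_pow_right (by norm_num) (by omega)

include T hq3 hq4 hcard hfree hfour in
/-- the normaliser of a Sylow 3-subgroup -/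
theorem exists_borel : Nonempty (BorelData G c.q c.t) := by
  classical
  haveI : Fact (Nat.Prime 3) := ⟨Nat.prime_three⟩
  obtain ⟨Q, hQ, hmax⟩ := Set.exists_max_image {Q : Subgroup G | c.Cand T Q} (fun Q => Nat.card Q) (Set.toFinite _)
    ⟨_, c.cand_root T hq3 hq4⟩
  obtain ⟨i, hi, hQi⟩ := c.cand_card T hq3 hq4 hcard hfree hQ
  obtain rfl : i = 3 := by
    rcases hi with h | h | h
    · obtain ⟨P, hP, hlt⟩ := c.cand_bigger T hq3 hq4 hcard hfree hfour hQ (Or.inl h) hQi
      exact absurd (hmax P hP) (not_le.2 hlt)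
    · obtain ⟨P, hP, hlt⟩ := c.cand_bigger T hq3 hq4 hcard hfree hfour hQ (Or.inr h) hQi
      exact absurd (hmax P hP) (not_le.2 hlt)
    · exact h
  obtain ⟨h3, hUQ, ht, hN⟩ := hQ
  obtain ⟨O, hON, hO, htO, hHO, hcases, hmem, hQO, hC, hQC⟩ := c.exists_oddPart T hq3 hq4 hfour ⟨h3, hUQ, ht, hN⟩
  obtain ⟨A, hA, hOA⟩ := c.cand_inverted T hq3 hq4 hcard hfree hfour ⟨h3, hUQ, ht, hN⟩ (Or.inr (Or.inr rfl)) hQi hON hO
    htO hC (hN.trans hHO) (fun h => absurd h (lt_irrefl 3))
  obtain ⟨-, f3, -, -, hf2⟩ := c.three_facts hq3 hq4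
  have hA2 : 3 ^ A = c.q ^ 2 := by
    have h1 : c.q ^ 3 ∣ Nat.card O := hQi ▸ Subgroup.card_dvd_of_le hQO
    have h2 : n + A ≤ 3 * n := c.three_part_dvd hq3 hq4 (dvd_trans (by
      rw [hOA, hq3, pow_add]; exact ⟨c.f, by ring⟩) (Subgroup.card_subgroup_dvd_card O)) hcard
    rw [hOA, hq3, ← pow_mul, show 3 ^ n * c.f * 3 ^ A = c.f * 3 ^ (n + A) by rw [pow_add]; ring] at h1
    have h3' := (Nat.Coprime.pow_left _ (Nat.prime_three.coprime_iff_not_dvd.2 f3)).dvd_of_dvd_mul_left h1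
    rw [Nat.pow_dvd_pow_iff_le_right (by norm_num)] at h3'
    rw [hq3, ← pow_mul]
    congr 1
    omega
  have hOc : Nat.card O = c.q ^ 3 * c.f := by rw [hOA, hA2]; ring
  set B := normalizer (Q : Set G) with hB
  have htO' : c.t ∉ O := fun h => by
    have := hO.of_dvd_nat (Subgroup.orderOf_dvd_natCard _ h)
    rw [c.ht] at this
    exact absurd this (by decide)
  have hBcard : Nat.card B = c.q ^ 3 * (c.q - 1) := by
    let F : Bool × O → B := fun a => ⟨(bif a.1 then c.t else 1) * a.2, by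
      cases a.1
      · simpa using hON a.2.2
      · exact mul_mem ht (hON a.2.2)⟩
    rw [← Nat.card_eq_of_bijective F ⟨?_, ?_⟩, Nat.card_prod, Nat.card_eq_fintype_card (α := Bool), Fintype.card_bool,
      hOc, show c.q - 1 = 2 * c.f by omega]
    · ring
    · rintro ⟨b, k⟩ ⟨b', k'⟩ e
      have e' := congrArg Subtype.val e
      simp only [F] at e'
      cases b <;> cases b' <;> simp only [cond_true, cond_false, one_mul] at e'
      · exact Prod.ext rfl (Subtype.ext e')
      · exact absurd (by rw [show c.t = (k : G) * (k' : G)⁻¹ by rw [e']; group]; exact mul_mem k.2 (inv_mem k'.2)) htO'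
      · exact absurd (by rw [show c.t = (k' : G) * (k : G)⁻¹ by rw [← e']; group]; exact mul_mem k'.2 (inv_mem k.2)) htO'
      · exact Prod.ext rfl (Subtype.ext (mul_left_cancel e'))
    · rintro ⟨h, hh⟩
      rcases hcases h hh with e | e
      · exact ⟨(false, ⟨h, e⟩), Subtype.ext (one_mul _)⟩
      · exact ⟨(true, ⟨c.t * h, e⟩), Subtype.ext (by
          show c.t * (c.t * h) = h
          rw [← mul_assoc, c.tt, one_mul])⟩
  have hidx : B.index = c.q ^ 3 + 1 := by
    have h := B.card_mul_index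
    rw [hBcard, hcard, show c.q ^ 3 * (c.q ^ 3 + 1) * (c.q - 1) = c.q ^ 3 * (c.q - 1) * (c.q ^ 3 + 1) by ring] at h
    refine Nat.eq_of_mul_eq_mul_left ?_ h
    have := c.f_odd.pos
    exact Nat.mul_pos (pow_pos c.q_odd.pos 3) (by omega)
  -- the 3-elements of `B`
  have hthree : ∀ x ∈ B, (∃ j : ℕ, x ^ 3 ^ j = 1) → x ∈ Q := by
    intro x hx hj
    obtain ⟨j, hj⟩ := hj
    have hxp : IsPGroup 3 (zpowers x) := by
      obtain ⟨k, -, hk⟩ := (Nat.dvd_prime_pow Nat.prime_three).1 (orderOf_dvd_of_pow_eq_one hj)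
      exact IsPGroup.of_card (n := k) (by rw [Nat.card_zpowers, hk])
    have hsup : IsPGroup 3 (zpowers x ⊔ Q : Subgroup G) := hxp.to_sup_of_normal_right' h3 (zpowers_le.2 hx)
    obtain ⟨m, hm⟩ := hsup.exists_card_eq
    have hle : m ≤ 3 * n := c.three_part_dvd hq3 hq4 (hm ▸ Subgroup.card_subgroup_dvd_card _) hcard
    have heq : Q = zpowers x ⊔ Q := by
      refine Subgroup.eq_of_le_of_card_ge le_sup_right ?_
      rw [hm, hQi, hq3, ← pow_mul, mul_comm n 3]
      exact Nat.pow_le_pow_right (by norm_num) hle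
    rw [heq]
    exact mem_sup_left (mem_zpowers x)
  -- an involution of `C(t)` outside `B`
  obtain ⟨i, hi2, -⟩ := T.inverter_T
  set w := c.ι i with hw
  have hw2 : orderOf w = 2 := (c.orderOf_ι i).trans hi2
  have hwt : w * c.t = c.t * w := c.t_ι i
  have hwinv : w⁻¹ = w := inv_of_two hw2
  have hQne : Q ≠ ⊥ := fun e => by
    have h := hUQ (mem_map_of_mem c.ι T.plus_mem)
    rw [e, mem_bot] at h
    exact T.plus_ne (c.inj (by rw [h, map_one]))
  have hwB : w ∉ B := fun h => hQne (hfour Q h3 c.t w c.ht hw2 (fun e => c.tnot ⟨i, e.symm⟩) hwt.symm ht h)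
  have hinter : ∀ x ∈ Q, w * x * w⁻¹ ∈ Q → x = 1 := by
    set D := Q ⊓ Q.comap (MulAut.conj w).toMonoidHom with hD
    have hmemD : ∀ {x}, x ∈ D ↔ x ∈ Q ∧ w * x * w⁻¹ ∈ Q := by
      intro x; simp [hD, mem_comap]
    have htD : c.t ∈ normalizer (D : Set G) := by
      have key : ∀ x, c.t * x * c.t⁻¹ ∈ Q ↔ x ∈ Q := fun x => ((mem_normalizer_iff.1 ht) x).symm
      have hww : ∀ x, w * (c.t * x * c.t⁻¹) * w⁻¹ = c.t * (w * x * w⁻¹) * c.t⁻¹ := fun x => by
        rw [show w * (c.t * x * c.t⁻¹) * w⁻¹ = (w * c.t) * x * (w * c.t)⁻¹ by group, hwt]; group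
      refine mem_normalizer_iff.2 fun x => ?_
      rw [hmemD, hmemD, hww, key, key]
    have hwD : w ∈ normalizer (D : Set G) := by
      have hww : ∀ x, w * (w * x * w⁻¹) * w⁻¹ = x := fun x => by
        rw [show w * (w * x * w⁻¹) * w⁻¹ = (w * w) * x * (w * w)⁻¹ by group, mul_self_of_two hw2, one_mul, inv_one,
          mul_one]
      refine mem_normalizer_iff.2 fun x => ?_
      rw [hmemD, hmemD, hww]
      exact and_comm
    have hD0 := hfour D (h3.to_le inf_le_left) c.t w c.ht hw2 (fun e => c.tnot ⟨i, e.symm⟩) hwt.symm htD hwD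
    intro x hx hwx
    have : x ∈ D := hmemD.2 ⟨hx, hwx⟩
    rwa [hD0, mem_bot] at this
  -- the orbit of `Q`
  let F : Option Q → G ⧸ B := fun a => a.elim (QuotientGroup.mk 1) fun a => QuotientGroup.mk ((a : G) * w)
  have hFne : ∀ a : Q, QuotientGroup.mk ((a : G) * w) ≠ (QuotientGroup.mk 1 : G ⧸ B) := fun a e => hwB (by
    have := QuotientGroup.eq.1 e.symm
    rw [inv_one, one_mul] at this
    exact (B.mul_mem_cancel_left (Subgroup.le_normalizer a.2)).1 this)
  have hFeq : ∀ a b : Q, (QuotientGroup.mk ((a : G) * w) : G ⧸ B) = QuotientGroup.mk ((b : G) * w) → a = b := by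
    intro a b e
    have hm := QuotientGroup.eq.1 e
    rw [show ((a : G) * w)⁻¹ * ((b : G) * w) = w⁻¹ * ((a : G)⁻¹ * b) * w by group] at hm
    set z : G := (a : G)⁻¹ * b with hz
    have hzQ : z ∈ Q := mul_mem (inv_mem a.2) b.2
    obtain ⟨j, hj⟩ := h3 ⟨z, hzQ⟩
    have hzz : z ^ 3 ^ j = 1 := congrArg Subtype.val hj
    have hin := hthree _ hm ⟨j, by rw [show w⁻¹ * z * w = w⁻¹ * z * w⁻¹⁻¹ by group, conj_pow, hzz]; group⟩
    have h1 := hinter z hzQ (by rwa [hwinv, ← inv_eq_iff_eq_inv.2 hwinv.symm] at hin ⊢)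
    exact Subtype.ext (inv_mul_eq_one.1 h1)
  have hFinj : Function.Injective F := by
    rintro (_ | a) (_ | b) e
    · rfl
    · exact absurd e.symm (hFne b)
    · exact absurd e (hFne a)
    · exact congrArg some (hFeq a b e)
  have hFsurj : Function.Surjective F := by
    haveI := Fintype.ofFinite Q
    haveI := Fintype.ofFinite (G ⧸ B)
    refine ((Fintype.bijective_iff_injective_and_card F).2 ⟨hFinj, ?_⟩).2
    rw [Fintype.card_option, ← Nat.card_eq_fintype_card, ← Nat.card_eq_fintype_card, hQi, ← Subgroup.index_eq_card, hidx]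
  have hcover : ∀ g, g ∉ B → ∃ a ∈ Q, (a * w)⁻¹ * g ∈ B := by
    intro g hg
    obtain ⟨o, ho⟩ := hFsurj (QuotientGroup.mk g)
    rcases o with _ | a
    · exact absurd (by simpa using QuotientGroup.eq.1 ho) hg
    · exact ⟨a, a.2, QuotientGroup.eq.1 ho⟩
  have hti : ∀ g, g ∉ B → ∀ x ∈ Q, g * x * g⁻¹ ∈ Q → x = 1 := by
    intro g hg x hx hgx
    obtain ⟨a, ha, hb⟩ := hcover g hg
    set b := (a * w)⁻¹ * g with hbdef
    have hbx : b * x * b⁻¹ ∈ Q := (mem_normalizer_iff.1 hb x).1 hx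
    have h1 : w * (b * x * b⁻¹) * w⁻¹ ∈ Q := by
      have := mul_mem (mul_mem (inv_mem ha) hgx) ha
      rwa [show a⁻¹ * (g * x * g⁻¹) * a = w * (b * x * b⁻¹) * w⁻¹ by rw [hbdef]; group] at this
    exact conj_eq_one_iff.1 (hinter _ hbx h1)
  have hfixed : Nat.card {s : G ⧸ B // c.t • s = s} = c.q + 1 := by
    have hone : c.t • (QuotientGroup.mk 1 : G ⧸ B) = QuotientGroup.mk 1 := by
      rw [MulAction.Quotient.smul_mk]
      exact QuotientGroup.eq.2 (by simpa using ht)
    have hsm : ∀ a : Q, c.t • (QuotientGroup.mk ((a : G) * w) : G ⧸ B) =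
        QuotientGroup.mk ((c.t * a * c.t⁻¹) * w) := fun a => by
      rw [MulAction.Quotient.smul_mk]
      refine QuotientGroup.eq.2 ?_
      rw [show (c.t • ((a : G) * w))⁻¹ * (c.t * a * c.t⁻¹ * w) = w⁻¹ * c.t⁻¹ * w by simp only [smul_eq_mul]; group,
        show w⁻¹ * c.t⁻¹ * w = (w⁻¹ * c.t * w)⁻¹ by group, mul_assoc, ← hwt, inv_mul_cancel_left]
      exact inv_mem ht
    have hmemfix : ∀ a : Q, c.t • (QuotientGroup.mk ((a : G) * w) : G ⧸ B) = QuotientGroup.mk ((a : G) * w) ↔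
        (a : G) ∈ Q ⊓ centralizer ({c.t} : Set G) := fun a => by
      rw [hsm]
      constructor
      · intro e
        have := congrArg Subtype.val (hFeq ⟨_, (mem_normalizer_iff.1 ht _).1 a.2⟩ a e)
        exact ⟨a.2, mem_centralizer_singleton_iff.2 (mul_inv_eq_iff_eq_mul.1 this).symm⟩
      · rintro ⟨-, h⟩
        rw [mul_inv_eq_iff_eq_mul.2 (mem_centralizer_singleton_iff.1 h).symm]
    let C := (Q ⊓ centralizer ({c.t} : Set G) : Subgroup G)
    let Φ : Option C → {s : G ⧸ B // c.t • s = s} := fun o => match o with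
      | none => ⟨_, hone⟩
      | some a => ⟨_, (hmemfix ⟨a, a.2.1⟩).2 a.2⟩
    rw [← Nat.card_eq_of_bijective Φ ⟨?_, ?_⟩]
    · haveI := Fintype.ofFinite C
      rw [Nat.card_eq_fintype_card, Fintype.card_option, ← Nat.card_eq_fintype_card]
      show Nat.card C + 1 = c.q + 1
      rw [show C = T.U.map c.ι from hQC, Subgroup.card_map_of_injective c.inj, T.card_U]; rfl
    · rintro (_ | a) (_ | b) e
      · rfl
      · exact absurd (congrArg Subtype.val e).symm (hFne ⟨b, b.2.1⟩)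
      · exact absurd (congrArg Subtype.val e) (hFne ⟨a, a.2.1⟩)
      · have := hFeq ⟨a, a.2.1⟩ ⟨b, b.2.1⟩ (congrArg Subtype.val e)
        exact congrArg some (Subtype.ext (Subtype.mk.inj this))
    · rintro ⟨s, hs⟩
      obtain ⟨o, rfl⟩ := hFsurj s
      rcases o with _ | a
      · exact ⟨none, rfl⟩
      · exact ⟨some ⟨a, (hmemfix a).1 hs⟩, rfl⟩
  exact ⟨{
    Q := Q
    B := B
    w := w
    B_eq := rfl
    Q_three := h3
    card_Q := hQi
    card_B := hBcard
    index_B := hidx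
    t_mem := ht
    card_cent := by rw [hQC, Subgroup.card_map_of_injective c.inj, T.card_U]; rfl
    w_two := hw2
    w_t := hwt
    w_not := hwB
    three_mem := hthree
    inter_w := hinter
    cover := hcover
    ti := hti
    card_fixed := hfixed }⟩

end Ctx

end CfsgLib.Recog.JankoThompson
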