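import Cfsg.Agent.Lib.Recog.JankoThompson.Ward.Ree
import Cfsg.Agent.Lib.Recog.Walter.List
import Cfsg.Agent.Lib.LocalEven.GoldList.Classify

/-!
Owner: helper22. The simple groups all of whose Sylow subgroups are abelian, from the list of simple groups with
abelian Sylow 2-subgroups.
-/

set_option autoImplicit false
set_option linter.all false

namespace CfsgLib.Recog.JankoThompson

universe u

/-- **S2554** from the list -/
theorem all_sylow_abelian_of_list (hL : CfsgLib.Walter.WalterList.{u}) {G : Type u} [Group G] [Finite G]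
    [IsSimpleGroup G] (hna : ¬ IsMulCommutative G)
    (hA : ∀ (p : ℕ), p.Prime → ∀ (P : Sylow p G), IsMulCommutative ↥P) :
    Cfsg.Spor.IsoJ1 G ∨
      ∃ (F : Type) (_ : Field F) (_ : Fintype F), 3 < Fintype.card F ∧
        (Fintype.card F % 8 = 0 ∨ Fintype.card F % 8 = 3 ∨ Fintype.card F % 8 = 5) ∧
        Nonempty (G ≃* Matrix.ProjectiveSpecialLinearGroup (Fin 2) F) := by
  have hab : CfsgLib.AbelianSolvCent.AbSylow G := fun P => hA 2 Nat.prime_two P
  rcases hL G hna hab with ⟨n, hn, F, iF, iFt, hF, ⟨e⟩⟩ | ⟨F, iF, iFt, h5, h8, e⟩ | hJ | ⟨F, iF, iFt, -, ⟨d⟩⟩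
  · rcases hn.lt_or_eq with h | h
    · refine Or.inr ⟨F, iF, iFt, ?_, Or.inl ?_, ⟨e⟩⟩
      · rw [hF]
        exact lt_of_lt_of_le (by norm_num) (Nat.pow_le_pow_right (show 0 < 2 by norm_num) hn)
      · rw [hF]
        obtain ⟨k, rfl⟩ : ∃ k, n = 3 + k := ⟨n - 3, by omega⟩
        rw [pow_add]
        omega
    · haveI : Fact (Nat.Prime 5) := ⟨by norm_num⟩
      obtain ⟨e₄⟩ := CfsgLib.Classical.Dickson.psl_four_five_equiv (K := F) (Or.inl (by rw [hF, ← h]; norm_num))
      obtain ⟨e₅⟩ := CfsgLib.Classical.Dickson.psl_four_five_equiv (K := ZMod 5) (Or.inr (ZMod.card 5))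
      exact Or.inr ⟨ZMod 5, inferInstance, inferInstance, by rw [ZMod.card]; norm_num,
        Or.inr (Or.inr (by rw [ZMod.card])), ⟨(e.trans e₄.symm).trans e₅⟩⟩
  · exact Or.inr ⟨F, iF, iFt, by omega, Or.inr h8, e⟩
  · exact Or.inl (CfsgLib.LocalEven.GoldList.isoJ1_of_isJ1 hJ)
  · obtain ⟨P, hP⟩ := exists_nonabelian_sylow_three (fun P a b => (hab P).is_comm.comm a b) d
    exact absurd (hA 3 Nat.prime_three P) hP

end CfsgLib.Recog.JankoThompson
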