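import Cfsg.Agent.Lib.Recog.JankoThompson.Pattern

/-!
Owner: helper22. Groups of Janko–Thompson type, for the Sylow 3-subgroups: the characters with `χ(t) ≠ 0` when
`q ≡ 3 (mod 4)`.
-/

set_option autoImplicit false
set_option linter.all false
set_option maxHeartbeats 800000

namespace CfsgLib.Recog.JankoThompson.Cols

variable {ι L J : Type*} [Fintype ι] [Fintype L] [Fintype J] [DecidableEq ι] {K : Cols ι L J}

/-- `u, w, v` and the four constituents of `Δ`, with their degrees -/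
structure ReeData (K : Cols ι L J) where
  u : ι
  w : ι
  v : ι
  four : Finset ι
  uo : u ≠ K.o
  wo : w ≠ K.o
  vo : v ≠ K.o
  uw : u ≠ w
  uv : u ≠ v
  wv : w ≠ v
  A_sq : K.A u * K.A u = 1 ∧ K.A w * K.A w = 1 ∧ K.A v * K.A v = 1
  A_cases : ∀ χ, K.A χ ≠ 0 → χ = K.o ∨ χ = u ∨ χ = w ∨ χ = v
  tau : K.τ u = K.A u ∧ K.τ w = K.A w * K.q ∧ K.τ v = K.A v * K.q
  deg : K.A u * K.deg u = -(K.q ^ 2 - K.q + 1) ∧ K.A w * K.deg w = -(K.q * (K.q ^ 2 - K.q + 1)) ∧
    K.A v * K.deg v = K.q ^ 3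
  rest : ∀ χ, χ ≠ K.o → χ ∉ four → (∀ j, K.C j χ = 0) →
    K.τ χ ^ 2 * (K.q ^ 2 - K.q + 1) ^ 2 ≤ 9 * K.deg χ ^ 2
  rest_dvd : ∀ χ, χ ≠ K.o → χ ≠ v → χ ∉ four → (∀ j, K.C j χ = 0) → K.τ χ ≠ 0 → K.q ^ 2 - K.q + 1 ∣ K.deg χ
  o_four : K.o ∉ four
  v_four : v ∉ four
  four_tau : ∀ χ ∈ four, K.τ χ ^ 2 = K.f ^ 2
  four_root : ∀ χ ∈ four, ∃ a : ℤ, (a = K.deg χ ∨ a = -K.deg χ) ∧
    12 * a ^ 2 - 12 * K.q * (K.q - 1) * a = K.q * (K.q - 1) ^ 2 * (K.q ^ 2 - K.q + 1)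
  four_sum : ∑ χ ∈ four, (K.τ χ : ℚ) ^ 4 / (K.deg χ : ℚ) ^ 2 =
    3 * ((K.q : ℚ) - 1) ^ 2 * (K.q ^ 2 + 5 * K.q + 1) / (K.q * (K.q ^ 2 - K.q + 1) ^ 2)

/-- the constituents of `C j` -/
theorem tau_C (K : Cols ι L J) {j : J} {χ : ι} (h : K.C j χ ≠ 0) :
    K.τ χ = -(4 * K.ε * K.e * K.C j χ) := by
  classical
  obtain ⟨hA, hP, -, hB, -⟩ := K.C_ne_facts h
  have hoth : ∀ i, i ≠ j → i ≠ K.jinv j → K.C i χ = 0 := fun i h1 h2 => by
    by_contra hne
    rcases K.C_only h hne with e | e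
    exacts [h1 e, h2 e]
  rw [K.tau_eq, Finset.sum_eq_zero (fun m _ => hB m), hA, hP,
    ← Finset.sum_subset (Finset.subset_univ ({j, K.jinv j} : Finset J)) (fun i _ hi => by
      simp only [Finset.mem_insert, Finset.mem_singleton, not_or] at hi; exact hoth i hi.1 hi.2),
    Finset.sum_pair (K.jinv_ne j).symm, K.C_inv]
  ring

theorem Quad.tau_sq_le {l : L} (R : K.Quad l) {x : ι} (h : R.Mem x) : K.τ x ^ 2 ≤ 36 * K.f ^ 2 := by
  obtain ⟨t1, t2, t3, t4⟩ := R.tau_values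
  have h1 : K.τ x ^ 2 = 4 * K.f ^ 2 ∨ K.τ x ^ 2 = 36 * K.f ^ 2 := by
    have hs : R.s * R.s = 1 := by rcases R.hs with e | e <;> rw [e] <;> norm_num
    rcases h with e | e | e | e <;> rw [e]
    · left; rw [t1]; linear_combination (4 * K.f ^ 2 * K.ε * K.ε) * hs + 4 * K.f ^ 2 * K.eps_sq
    · left; rw [t2]; linear_combination (4 * K.f ^ 2 * K.ε * K.ε) * hs + 4 * K.f ^ 2 * K.eps_sq
    · left; rw [t3]; linear_combination (4 * K.f ^ 2 * K.ε * K.ε) * hs + 4 * K.f ^ 2 * K.eps_sq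
    · right; rw [t4]; linear_combination (36 * K.f ^ 2 * K.ε * K.ε) * hs + 36 * K.f ^ 2 * K.eps_sq
  rcases h1 with e | e <;> rw [e] <;> linarith [sq_nonneg K.f]

theorem v_bound {q : ℤ} (hq : 1 ≤ q) : q ^ 2 * (q ^ 2 - q + 1) ^ 2 ≤ 9 * (q ^ 3) ^ 2 := by
  have h : (q ^ 2 - q + 1) ^ 2 ≤ (q ^ 2) ^ 2 := pow_le_pow_left₀ (by nlinarith) (by linarith) 2
  calc q ^ 2 * (q ^ 2 - q + 1) ^ 2 ≤ q ^ 2 * (q ^ 2) ^ 2 := mul_le_mul_of_nonneg_left h (sq_nonneg q)
    _ ≤ 9 * (q ^ 3) ^ 2 := by nlinarith [sq_nonneg (q ^ 3)]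

theorem exists_reeData (K : Cols ι L J) (hε : K.ε = -1) : Nonempty (ReeData K) := by
  obtain ⟨l, Q, l', hl, h⟩ := K.exists_ree
  have lA := Q.linA hl
  have lP := Q.linP hl
  have lD := Q.linΔ hl
  have lG := Q.linG hl
  have qA := Q.quadA hl
  have qP := Q.quadP hl
  have qD := Q.quadΔ hl
  have qG := Q.quadG hl
  have hfe : ((K.f : ℚ) - 2 * K.e) ^ 2 = 1 := by
    exact_mod_cast (by rw [K.f_sub, pow_two, K.eps_sq] : (K.f - 2 * K.e) ^ 2 = 1)
  have hqf : (K.f : ℚ) + 2 * K.e = K.q := by exact_mod_cast (by rw [K.hq, K.hf]; ring : K.f + 2 * K.e = K.q)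
  have hnq : (-(K.f : ℚ) - 2 * K.e) ^ 2 = (K.q : ℚ) ^ 2 := by rw [← hqf]; ring
  simp only [patRee, List.map_eq_cons_iff, List.map_eq_nil_iff] at h
  obtain ⟨x1, _, rfl, r1, x2, _, rfl, r2, x3, _, rfl, r3, x4, _, rfl, r4, x5, _, rfl, r5, x6, _, rfl, r6, x7, _, rfl, r7, rfl⟩ := h
  simp only [List.map_cons, List.map_nil, List.sum_cons, List.sum_nil, r1, r2, r3, r4, r5, r6, r7] at lA lP lD lG qA qP qD qG
  norm_num at lA lP lD lG qA qP qD qG
  simp only [hnq, hfe] at qA qP qG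
  obtain ⟨hD, hu, hw, hv, hS, hS', hP, hP'⟩ := ree_values K.hε K.he K.hq K.hf (u := Q.F x7) (v := Q.F x5) (w := Q.F x6)
    (A := Q.F x1) (B := Q.F x2) (A' := Q.F x3) (B' := Q.F x4) (D := Q.D) (Q.F_ne x7) (Q.F_ne x5) (Q.F_ne x6) (Q.F_ne x1)
    (Q.F_ne x2) (Q.F_ne x3) (Q.F_ne x4) Q.D_ne (by linarith) (by linarith) (by linarith) (by linarith)
    (by linear_combination qG) (by linear_combination qA) (by linear_combination qP) (by linear_combination qD)
  have hq27 : 27 ≤ K.q := by rw [K.hq, hε]; linarith [K.he]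
  have hnd : [x1, x2, x3, x4, x5, x6, x7].Nodup := hl.nodup_iff.2 Q.supp.nodup_toList
  simp only [List.nodup_cons, List.mem_cons, List.not_mem_nil, or_false, not_or, List.nodup_nil] at hnd
  obtain ⟨⟨n12, n13, n14, n15, n16, n17⟩, ⟨n23, n24, n25, n26, n27⟩, ⟨n34, n35, n36, n37⟩, ⟨n45, n46, n47⟩,
    ⟨n56, n57⟩, n67, -⟩ := hnd
  have hmem : ∀ x, x ∈ [x1, x2, x3, x4, x5, x6, x7] ↔ x ∈ Q.supp := fun x =>
    hl.mem_iff.trans Finset.mem_toList
  have hno : ∀ x, x ∈ [x1, x2, x3, x4, x5, x6, x7] → x ≠ K.o := fun x hx e => by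
    have := (hmem x).1 hx
    rw [e] at this
    simp [Quad.supp] at this
  have rowA : ∀ x (a : ℤ), (Q.row x).1 = a → K.A x = Q.sgn x * a := fun x a e => by
    rw [← e, Quad.row]; linear_combination -(K.A x) * Q.sgn_sq x
  have rowtau : ∀ x, x ∈ [x1, x2, x3, x4, x5, x6, x7] →
      K.τ x = K.ε * Q.sgn x * (K.f * (Q.row x).2.1 - 2 * K.e * (Q.row x).1) := fun x hx => Q.tau_row ((hmem x).1 hx)
  have eF : ∀ x, Q.F x = Q.sgn x * K.deg x := fun _ => rfl
  have a5 := rowA x5 1 (by rw [r5])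
  have a6 := rowA x6 1 (by rw [r6])
  have a7 := rowA x7 1 (by rw [r7])
  have t5 := rowtau x5 (by simp)
  have t6 := rowtau x6 (by simp)
  have t7 := rowtau x7 (by simp)
  simp only [r5] at t5
  simp only [r6] at t6
  simp only [r7] at t7
  rw [hε] at hD hu hw hv hS hP
  have hf2 : 2 * K.f = K.q - 1 := by rw [K.hf, K.hq, hε]; ring
  have hT7 : (K.f * 1 - 2 * K.e * 1) ^ 2 = 1 := by rw [K.hf, hε]; ring
  have hT6 : (K.f * -1 - 2 * K.e * 1) ^ 2 = K.q ^ 2 := by rw [K.hf, K.hq, hε]; ring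
  have hT5 := hT6
  have hΦ : 0 < K.q ^ 2 - K.q + 1 := by nlinarith
  have rho : ∀ x, K.A x ≠ 0 → x ≠ K.o → x = x7 ∨ x = x6 ∨ x = x5 := by
    intro x hx hxo
    have hxl : x ∈ [x1, x2, x3, x4, x5, x6, x7] := (hmem x).2 (by simp [Quad.supp, hxo, hx])
    simp only [List.mem_cons, List.not_mem_nil, or_false] at hxl
    have z : ∀ y, (Q.row y).1 = 0 → x ≠ y := fun y hy e => hx (by rw [e, rowA y 0 hy, mul_zero])
    rcases hxl with e | e | e | e | e | e | e
    · exact absurd e (z x1 (by rw [r1]))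
    · exact absurd e (z x2 (by rw [r2]))
    · exact absurd e (z x3 (by rw [r3]))
    · exact absurd e (z x4 (by rw [r4]))
    all_goals simp [e]
  refine ⟨{
    u := x7
    w := x6
    v := x5
    four := {x1, x2, x3, x4}
    uo := hno x7 (by simp)
    wo := hno x6 (by simp)
    vo := hno x5 (by simp)
    uw := Ne.symm n67
    uv := Ne.symm n57
    wv := Ne.symm n56
    A_sq := ⟨?_, ?_, ?_⟩
    A_cases := fun x hx => by
      by_cases hxo : x = K.o
      · exact Or.inl hxo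
      · exact Or.inr (rho x hx hxo)
    tau := ⟨?_, ?_, ?_⟩
    deg := ⟨?_, ?_, ?_⟩
    rest := ?_
    rest_dvd := ?_
    o_four := ?_
    v_four := ?_
    four_tau := ?_
    four_root := ?_
    four_sum := ?_ }⟩
  · rw [a7]; linear_combination Q.sgn_sq x7
  · rw [a6]; linear_combination Q.sgn_sq x6
  · rw [a5]; linear_combination Q.sgn_sq x5
  · rw [t7, a7, K.hf, hε]; ring
  · rw [t6, a6, K.hf, hε, K.hq, hε]; ring
  · rw [t5, a5, K.hf, hε, K.hq, hε]; ring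
  · rw [eF] at hu; rw [a7]; linear_combination hu
  · rw [eF] at hw; rw [a6]; linear_combination hw
  · rw [eF] at hv; rw [a5]; linear_combination hv
  · intro x hxo hx4 hC
    simp only [Finset.mem_insert, Finset.mem_singleton, not_or] at hx4
    by_cases hB : ∃ m, K.B m x ≠ 0
    · obtain ⟨m, hm⟩ := hB
      obtain ⟨R⟩ := K.exists_quad m
      have hR := K.orbit_rot hm R
      have hDR : R.D = Q.D := by
        have h := R.N_eq.symm.trans Q.N_eq
        refine mul_left_cancel₀ ?_ h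
        have : 0 < K.q ^ 3 := pow_pos (by linarith) 3
        exact mul_ne_zero (mul_ne_zero (by rw [hε]; norm_num) (by linarith [K.he])) this.ne'
      have hdeg : K.deg x ^ 2 = R.D ^ 2 := by
        rw [R.deg_mem hR, Quad.D]; rcases R.hs with e | e <;> rw [e] <;> ring
      have htau : K.τ x ^ 2 ≤ 9 * (K.q - 1) ^ 2 := (R.tau_sq_le hR).trans (le_of_eq (by rw [← hf2]; ring))
      rw [hdeg, hDR, hD]
      exact (mul_le_mul_of_nonneg_right htau (sq_nonneg (K.q ^ 2 - K.q + 1))).trans (le_of_eq (by ring))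
    · push Not at hB
      have hfree : K.Free x := ⟨hB, hC⟩
      by_cases hA : K.A x = 0
      · by_cases hP : K.P x = 0
        · rw [hfree.tau, hA, hP]
          simp
          positivity
        exfalso
        have hxl : x ∈ [x1, x2, x3, x4, x5, x6, x7] := (hmem x).2 (by simp [Quad.supp, hxo, hP])
        have hz : ∀ y, (Q.row y).1 = 1 → x ≠ y := fun y hy e => by
          have := rowA y 1 hy
          rw [← e, hA] at this
          rcases Q.sgn_cases x with e' | e' <;> rw [e'] at this <;> omega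
        simp only [List.mem_cons, List.not_mem_nil, or_false] at hxl
        rcases hxl with e | e | e | e | e | e | e
        exacts [hx4.1 e, hx4.2.1 e, hx4.2.2.1 e, hx4.2.2.2 e, hz x5 (by rw [r5]) e, hz x6 (by rw [r6]) e,
          hz x7 (by rw [r7]) e]
      · have sq : ∀ y, K.deg y ^ 2 = Q.F y ^ 2 := fun y => by
          rw [eF]; linear_combination -(K.deg y ^ 2) * Q.sgn_sq y
        have ts : ∀ y (T : ℤ), K.τ y = K.ε * Q.sgn y * T → K.τ y ^ 2 = T ^ 2 := fun y T e => by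
          rw [e, hε]; linear_combination T ^ 2 * Q.sgn_sq y
        rcases rho x hA hxo with rfl | rfl | rfl
        · rw [sq, hu, ts _ _ t7, hT7]
          linarith [sq_nonneg (K.q ^ 2 - K.q + 1)]
        · rw [sq, hw, ts _ _ t6, hT6]
          linarith [sq_nonneg (K.q * (K.q ^ 2 - K.q + 1)), mul_pow K.q (K.q ^ 2 - K.q + 1) 2]
        · rw [sq, hv, ts _ _ t5, hT5]
          exact (v_bound (by linarith)).trans (le_of_eq (by ring))
  · intro x hxo hxv hx4 hC ht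
    simp only [Finset.mem_insert, Finset.mem_singleton, not_or] at hx4
    have sdeg : ∀ y (E : ℤ), Q.F y = E → K.q ^ 2 - K.q + 1 ∣ E → K.q ^ 2 - K.q + 1 ∣ K.deg y := fun y E e h => by
      rw [eF] at e
      have : K.deg y = Q.sgn y * E := by rw [← e]; linear_combination -(K.deg y) * Q.sgn_sq y
      rw [this]; exact h.mul_left _
    by_cases hB : ∃ m, K.B m x ≠ 0
    · obtain ⟨m, hm⟩ := hB
      obtain ⟨R⟩ := K.exists_quad m
      have hR := K.orbit_rot hm R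
      have hDR : R.D = Q.D := by
        have h := R.N_eq.symm.trans Q.N_eq
        refine mul_left_cancel₀ ?_ h
        have : 0 < K.q ^ 3 := pow_pos (by linarith) 3
        exact mul_ne_zero (mul_ne_zero (by rw [hε]; norm_num) (by linarith [K.he])) this.ne'
      have hdeg : K.deg x = R.s * R.D := by
        rw [R.deg_mem hR, Quad.D]; rcases R.hs with e | e <;> rw [e] <;> ring
      rw [hdeg, hDR, hD]
      exact Dvd.intro_left (R.s * (-1 * K.q + 1)) (by ring)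
    · push Not at hB
      by_cases hA : K.A x = 0
      · exfalso
        by_cases hP : K.P x = 0
        · exact ht (by rw [Free.tau ⟨hB, hC⟩, hA, hP]; ring)
        have hxl : x ∈ [x1, x2, x3, x4, x5, x6, x7] := (hmem x).2 (by simp [Quad.supp, hxo, hP])
        have hz : ∀ y, (Q.row y).1 = 1 → x ≠ y := fun y hy e => by
          have := rowA y 1 hy
          rw [← e, hA] at this
          rcases Q.sgn_cases x with e' | e' <;> rw [e'] at this <;> omega
        simp only [List.mem_cons, List.not_mem_nil, or_false] at hxl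
        rcases hxl with e | e | e | e | e | e | e
        exacts [hx4.1 e, hx4.2.1 e, hx4.2.2.1 e, hx4.2.2.2 e, hz x5 (by rw [r5]) e, hz x6 (by rw [r6]) e,
          hz x7 (by rw [r7]) e]
      · rcases rho x hA hxo with rfl | rfl | rfl
        · exact sdeg _ _ hu ⟨-1, by ring⟩
        · exact sdeg _ _ hw ⟨-K.q, by ring⟩
        · exact absurd rfl hxv
  · simp only [Finset.mem_insert, Finset.mem_singleton, not_or]
    exact ⟨(hno x1 (by simp)).symm, (hno x2 (by simp)).symm, (hno x3 (by simp)).symm, (hno x4 (by simp)).symm⟩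
  · simp only [Finset.mem_insert, Finset.mem_singleton, not_or]
    exact ⟨Ne.symm n15, Ne.symm n25, Ne.symm n35, Ne.symm n45⟩
  · intro x hx
    have hrow : x ∈ [x1, x2, x3, x4, x5, x6, x7] ∧ (Q.row x).1 = 0 ∧ (Q.row x).2.1 = 1 := by
      simp only [Finset.mem_insert, Finset.mem_singleton] at hx
      rcases hx with e | e | e | e <;> rw [e]
      exacts [⟨by simp, by rw [r1], by rw [r1]⟩, ⟨by simp, by rw [r2], by rw [r2]⟩, ⟨by simp, by rw [r3], by rw [r3]⟩,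
        ⟨by simp, by rw [r4], by rw [r4]⟩]
    rw [rowtau x hrow.1, hrow.2.1, hrow.2.2, hε]
    rcases Q.sgn_cases x with e | e <;> rw [e] <;> ring
  · intro x hx
    refine ⟨Q.F x, ?_, ?_⟩
    · rw [eF]; rcases Q.sgn_cases x with e | e <;> rw [e] <;> [left; right] <;> ring
    · simp only [Finset.mem_insert, Finset.mem_singleton] at hx
      rcases hx with e | e | e | e <;> rw [e]
      · linear_combination (12 * Q.F x1) * hS - hP
      · linear_combination (12 * Q.F x2) * hS - hP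
      · linear_combination (12 * Q.F x3) * hS + (12 * Q.F x3) * hS' - hP - 12 * hP'
      · linear_combination (12 * Q.F x4) * hS + (12 * Q.F x4) * hS' - hP - 12 * hP'
  · rw [Finset.sum_insert (by simp [n12, n13, n14]), Finset.sum_insert (by simp [n23, n24]),
      Finset.sum_insert (by simp [n34]), Finset.sum_singleton]
    have term : ∀ x, x ∈ [x1, x2, x3, x4, x5, x6, x7] → (Q.row x).1 = 0 → (Q.row x).2.1 = 1 →
        (K.τ x : ℚ) ^ 4 / (K.deg x : ℚ) ^ 2 = (K.f : ℚ) ^ 4 / (Q.F x : ℚ) ^ 2 := fun x hx h0 h1 => by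
      rw [rowtau x hx, h0, h1, eF, hε]
      rcases Q.sgn_cases x with e | e <;> rw [e] <;> push_cast <;> ring
    rw [term x1 (by simp) (by rw [r1]) (by rw [r1]), term x2 (by simp) (by rw [r2]) (by rw [r2]),
      term x3 (by simp) (by rw [r3]) (by rw [r3]), term x4 (by simp) (by rw [r4]) (by rw [r4])]
    have hf2' : (K.f : ℚ) = ((K.q : ℚ) - 1) / 2 := by
      rw [eq_div_iff two_ne_zero]; exact_mod_cast (by rw [K.hf, K.hq, hε]; ring : K.f * 2 = K.q - 1)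
    have hqQ : (27 : ℚ) ≤ K.q := by exact_mod_cast hq27
    have hS1 : (Q.F x1 : ℚ) + Q.F x2 = K.q * (K.q - 1) := by exact_mod_cast (by rw [hS]; ring : Q.F x1 + Q.F x2 = K.q * (K.q - 1))
    have hP1 : (12 : ℚ) * (Q.F x1 * Q.F x2) = -(K.q * (K.q - 1) ^ 2 * (K.q ^ 2 - K.q + 1)) := by
      exact_mod_cast (by rw [hP]; ring : 12 * (Q.F x1 * Q.F x2) = -(K.q * (K.q - 1) ^ 2 * (K.q ^ 2 - K.q + 1)))
    have hS2 : (Q.F x3 : ℚ) + Q.F x4 = Q.F x1 + Q.F x2 := by exact_mod_cast hS'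
    have hP2 : (Q.F x3 : ℚ) * Q.F x4 = Q.F x1 * Q.F x2 := by exact_mod_cast hP'
    have ne : ∀ x, (Q.F x : ℚ) ≠ 0 := fun x => by exact_mod_cast Q.F_ne x
    have inv2 : ∀ a b : ℚ, a ≠ 0 → b ≠ 0 → 1 / a ^ 2 + 1 / b ^ 2 = ((a + b) ^ 2 - 2 * (a * b)) / (a * b) ^ 2 :=
      fun a b ha hb => by field_simp; ring
    have e12 := inv2 _ _ (ne x1) (ne x2)
    have e34 := inv2 _ _ (ne x3) (ne x4)
    rw [hS2, hP2, ← e12] at e34
    rw [show (K.f : ℚ) ^ 4 / (Q.F x1 : ℚ) ^ 2 + ((K.f : ℚ) ^ 4 / (Q.F x2 : ℚ) ^ 2 +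
        ((K.f : ℚ) ^ 4 / (Q.F x3 : ℚ) ^ 2 + (K.f : ℚ) ^ 4 / (Q.F x4 : ℚ) ^ 2)) =
      (K.f : ℚ) ^ 4 * ((1 / (Q.F x1 : ℚ) ^ 2 + 1 / (Q.F x2 : ℚ) ^ 2) + (1 / (Q.F x3 : ℚ) ^ 2 + 1 / (Q.F x4 : ℚ) ^ 2)) by ring,
      e34, e12, hS1, show (Q.F x1 : ℚ) * Q.F x2 = -(K.q * (K.q - 1) ^ 2 * (K.q ^ 2 - K.q + 1)) / 12 by
        rw [eq_div_iff (by norm_num : (12 : ℚ) ≠ 0)]; linarith, hf2']
    have z1 : (K.q : ℚ) ≠ 0 := by linarith
    have z2 : (K.q : ℚ) - 1 ≠ 0 := by linarith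
    have z3 : (K.q : ℚ) ^ 2 - K.q + 1 ≠ 0 := by nlinarith
    field_simp
    ring

end CfsgLib.Recog.JankoThompson.Cols
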