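import Cfsg.Agent.Lib.Recog.JankoThompson.Ward.Data

/-!
Owner: helper22. Groups of Ree type: the degrees of the constituents of the columns of the torus `T`, from the
restrictions to `T` (section 3 of `notes/S2554_ward_pencil_helper22.md`), abstractly.
-/

set_option autoImplicit false
set_option linter.all false
set_option maxHeartbeats 800000

namespace CfsgLib.Recog.JankoThompson

/-- the minimum of `n ∑ M² - (∑ M)²` over the functions with a given parity split -/
theorem split_min {α : Type*} [Fintype α] [DecidableEq α] (M : α → ℤ) (O : Finset α)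
    (hpar : ∀ a ∈ O, ∀ b ∉ O, M a ≠ M b) :
    (O.card : ℤ) * (Fintype.card α - O.card) ≤ Fintype.card α * (∑ a, M a ^ 2) - (∑ a, M a) ^ 2 ∧
      (Fintype.card α * (∑ a, M a ^ 2) - (∑ a, M a) ^ 2 = (O.card : ℤ) * (Fintype.card α - O.card) →
        ∀ a b, ((a ∈ O ↔ b ∈ O) → M a = M b) ∧ (¬(a ∈ O ↔ b ∈ O) → M a - M b = 1 ∨ M a - M b = -1)) := by
  let x : α → ℤ := fun a => if a ∈ O then 1 else 0
  let F : α → α → ℤ := fun a b => (M a - M b) ^ 2 - (x a + x b - 2 * (x a * x b))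
  have hx : ∑ a, x a = O.card := by simp [x]
  have hnn : ∀ a b, 0 ≤ F a b := by
    intro a b
    simp only [F, x]
    by_cases ha : a ∈ O <;> by_cases hb : b ∈ O <;> simp only [ha, hb, if_true, if_false]
    · linarith [sq_nonneg (M a - M b)]
    · have h : M a - M b ≠ 0 := sub_ne_zero.2 (hpar a ha b hb)
      have := Int.add_one_le_iff.2 (lt_of_le_of_ne (sq_nonneg (M a - M b)) (Ne.symm (pow_ne_zero 2 h)))
      linarith
    · have h : M a - M b ≠ 0 := sub_ne_zero.2 (hpar b hb a ha).symm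
      have := Int.add_one_le_iff.2 (lt_of_le_of_ne (sq_nonneg (M a - M b)) (Ne.symm (pow_ne_zero 2 h)))
      linarith
    · linarith [sq_nonneg (M a - M b)]
  have hsum : ∑ a, ∑ b, F a b =
      2 * (Fintype.card α * (∑ a, M a ^ 2) - (∑ a, M a) ^ 2) - 2 * ((O.card : ℤ) * (Fintype.card α - O.card)) := by
    simp only [F, sub_sq, Finset.sum_sub_distrib, Finset.sum_add_distrib, Finset.sum_const, Finset.card_univ,
      nsmul_eq_mul, ← Finset.mul_sum, ← Finset.sum_mul, hx]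
    ring
  have h0 : 0 ≤ ∑ a, ∑ b, F a b := Finset.sum_nonneg fun a _ => Finset.sum_nonneg fun b _ => hnn a b
  refine ⟨by linarith, fun he a b => ?_⟩
  have hzero : F a b = 0 := by
    have h1 := (Finset.sum_eq_zero_iff_of_nonneg fun a _ => Finset.sum_nonneg fun b _ => hnn a b).1
      (by rw [hsum, he]; ring) a (Finset.mem_univ a)
    exact (Finset.sum_eq_zero_iff_of_nonneg fun b _ => hnn a b).1 h1 b (Finset.mem_univ b)
  simp only [F, x] at hzero
  constructor
  · intro h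
    by_cases ha : a ∈ O
    · simp only [ha, h.1 ha, if_true] at hzero
      exact sub_eq_zero.1 (pow_eq_zero_iff two_ne_zero |>.1 (by linarith))
    · simp only [ha, mt h.2 ha, if_false] at hzero
      exact sub_eq_zero.1 (pow_eq_zero_iff two_ne_zero |>.1 (by linarith))
  · intro h
    have h1 : (M a - M b) ^ 2 = 1 := by
      by_cases ha : a ∈ O <;> by_cases hb : b ∈ O <;> simp only [ha, hb, if_true, if_false] at hzero h <;>
        first | linarith | exact absurd trivial h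
    exact sq_eq_one_iff.1 h1

namespace Cols

variable {ι L Λ : Type*} [Fintype ι] [DecidableEq ι] [Fintype L] [Fintype Λ] [DecidableEq Λ] [One Λ]
  [Fintype {j : Λ // j ≠ 1}] {K : Cols ι L {j : Λ // j ≠ 1}}

/-- the degree of the constituents of the columns of `T` -/
theorem member_deg (R : ReeData K) (hε : K.ε = -1) (hΛ : (Fintype.card Λ : ℤ) = K.f) (M : ι → Λ → ℤ)
    (hpar : ∀ χ l, 2 ∣ (if h : l = 1 then K.A χ else K.C ⟨l, h⟩ χ) + K.W χ - M χ l)
    (hsq : ∑ χ, (K.f * (∑ l, M χ l ^ 2) - (∑ l, M χ l) ^ 2) = 2 * K.f * (K.f - 1))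
    (horth : ∀ l, ∑ χ, K.A χ * M χ l = 0)
    (hone : ∀ j : {j : Λ // j ≠ 1}, M K.o 1 - M K.o j.1 = 1)
    (hpair : ∀ j : {j : Λ // j ≠ 1}, ∑ χ, (K.τ χ : ℚ) ^ 2 * ((M χ 1 - M χ j.1 : ℤ) : ℚ) / (K.deg χ : ℚ) =
      ((K.q : ℚ) + 1) * ((K.q : ℚ) - 1) ^ 2 / ((K.q : ℚ) * ((K.q : ℚ) ^ 2 - K.q + 1)))
    {χ : ι} {j : {j : Λ // j ≠ 1}} (hj : K.C j χ ≠ 0) :
    K.deg χ = K.q ^ 3 + 1 ∧ K.τ χ ^ 2 = (K.q + 1) ^ 2 := by
  classical
  let col : ι → Λ → ℤ := fun x l => if h : l = 1 then K.A x else K.C ⟨l, h⟩ x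
  have col_one : ∀ x, col x 1 = K.A x := fun x => dif_pos rfl
  have col_j : ∀ x (i : {j : Λ // j ≠ 1}), col x i.1 = K.C i x := fun x i => dif_neg i.2
  have hCb : ∀ i x, K.C i x = 0 ∨ K.C i x = 1 ∨ K.C i x = -1 := fun i x => by
    obtain ⟨a, b, -, ha, hb, h0⟩ := exists_two (K.CC i)
    by_cases e1 : x = a
    · exact Or.inr (e1 ▸ ha)
    by_cases e2 : x = b
    · exact Or.inr (e2 ▸ hb)
    exact Or.inl (h0 x e1 e2)
  have hAb : ∀ x, K.A x = 0 ∨ K.A x = 1 ∨ K.A x = -1 := fun x => by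
    by_cases h : K.A x = 0
    · exact Or.inl h
    refine Or.inr (sq_eq_one_iff.1 ?_)
    rcases R.A_cases x h with e | e | e | e <;> rw [e, pow_two]
    exacts [by rw [K.o_A]; norm_num, R.A_sq.1, R.A_sq.2.1, R.A_sq.2.2]
  have colb : ∀ x l, col x l = 0 ∨ col x l = 1 ∨ col x l = -1 := fun x l => by
    by_cases h : l = 1
    · rw [h, col_one]; exact hAb x
    · rw [col_j x ⟨l, h⟩]; exact hCb _ x
  let O : ι → Finset Λ := fun x => Finset.univ.filter fun l => col x l ≠ 0
  have hsep : ∀ x, ∀ a ∈ O x, ∀ b ∉ O x, M x a ≠ M x b := fun x a ha b hb e => by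
    have hb0 : col x b = 0 := by simpa [O] using hb
    have ha0 : col x a ≠ 0 := by simpa [O] using ha
    have h1 : 2 ∣ col x a + K.W x - M x a := hpar x a
    have h2 : 2 ∣ col x b + K.W x - M x b := hpar x b
    rcases colb x a with h | h | h
    · exact ha0 h
    all_goals rw [h] at h1; rw [hb0, ← e] at h2; omega
  have hlb : ∀ x, ((O x).card : ℤ) * (K.f - (O x).card) =
      (K.f - 1) * (K.A x * K.A x) + (K.f - 2) * ∑ i, K.C i x * K.C i x := by
    intro x
    by_cases hA : K.A x = 0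
    · by_cases hC0 : ∀ i, K.C i x = 0
      · have : O x = ∅ := Finset.filter_eq_empty_iff.2 fun l _ => by
          by_cases h : l = 1
          · rw [h, col_one, hA]; simp
          · rw [col_j x ⟨l, h⟩, hC0]; simp
        rw [this, hA]
        simp [hC0]
      · push Not at hC0
        obtain ⟨i, hi⟩ := hC0
        have hii : K.C (K.jinv i) x ≠ 0 := by rw [K.C_inv]; exact hi
        have hO : O x = {i.1, (K.jinv i).1} := by
          ext l
          simp only [O, Finset.mem_filter, Finset.mem_univ, true_and, Finset.mem_insert, Finset.mem_singleton]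
          constructor
          · intro h
            by_cases hl : l = 1
            · rw [hl, col_one, hA] at h; exact absurd rfl h
            · rw [col_j x ⟨l, hl⟩] at h
              exact (K.C_only hi h).imp (fun e => congrArg Subtype.val e) (fun e => congrArg Subtype.val e)
          · rintro (rfl | rfl)
            · rw [col_j]; exact hi
            · rw [col_j]; exact hii
        have hne : i.1 ≠ (K.jinv i).1 := fun e => K.jinv_ne i (Subtype.ext e.symm)
        rw [hO, Finset.card_pair hne, hA, ← Finset.sum_subset (Finset.subset_univ ({i, K.jinv i} : Finset _))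
          (fun k _ hk => by
            by_contra h
            simp only [Finset.mem_insert, Finset.mem_singleton, not_or] at hk
            rcases K.C_only hi (fun e => h (by rw [e, mul_zero])) with e | e
            exacts [hk.1 e, hk.2 e]),
          Finset.sum_pair (K.jinv_ne i).symm, K.C_inv]
        rcases hCb i x with e | e | e
        · exact absurd e hi
        all_goals rw [e]; push_cast; ring
    · have hfree := (K.free_of (Or.inl hA)).2
      have hO : O x = {1} := by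
        ext l
        simp only [O, Finset.mem_filter, Finset.mem_univ, true_and, Finset.mem_singleton]
        constructor
        · intro h
          by_contra hl
          rw [col_j x ⟨l, hl⟩] at h
          exact h (hfree _)
        · rintro rfl; rw [col_one]; exact hA
      rw [hO, Finset.card_singleton]
      simp only [hfree, mul_zero, Finset.sum_const_zero, add_zero]
      rcases hAb x with e | e | e
      · exact absurd e hA
      all_goals rw [e]; push_cast; ring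
  have hJ : (Fintype.card {j : Λ // j ≠ 1} : ℤ) = K.f - 1 := by
    have h := Fintype.card_subtype_compl fun l : Λ => l = 1
    have h1 : 1 ≤ Fintype.card Λ := Fintype.card_pos_iff.2 ⟨1⟩
    rw [Fintype.card_subtype_eq] at h
    have h2 : Fintype.card {j : Λ // j ≠ 1} = Fintype.card Λ - 1 := by
      rw [← h]
    rw [h2, Nat.cast_sub h1, hΛ, Nat.cast_one]
  have hlbsum : ∑ x, ((O x).card : ℤ) * (K.f - (O x).card) = 2 * K.f * (K.f - 1) := by
    simp only [hlb, Finset.sum_add_distrib, ← Finset.mul_sum]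
    rw [K.AA, Finset.sum_comm, Finset.sum_congr rfl fun i _ => K.CC i, Finset.sum_const, Finset.card_univ,
      nsmul_eq_mul, hJ]
    ring
  have hmin := fun x => split_min (M x) (O x) (hsep x)
  simp only [hΛ] at hmin
  have heq := (Finset.sum_eq_sum_iff_of_le fun x _ => (hmin x).1).1 (hlbsum.trans hsq.symm)
  have hdiff : ∀ x a b, ((a ∈ O x ↔ b ∈ O x) → M x a = M x b) ∧
      (¬(a ∈ O x ↔ b ∈ O x) → M x a - M x b = 1 ∨ M x a - M x b = -1) :=
    fun x => (hmin x).2 (heq x (Finset.mem_univ x)).symm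
  have memO : ∀ x l, l ∈ O x ↔ col x l ≠ 0 := fun x l => by simp [O]
  let D : ι → ℤ := fun x => M x 1 - M x j.1
  have Dz : ∀ x, K.A x = 0 → K.C j x = 0 → D x = 0 := fun x h1 h2 => sub_eq_zero.2 ((hdiff x 1 j.1).1 (by
    simp [memO, col_one, col_j, h1, h2]))
  have DA : ∀ x, K.A x ≠ 0 → D x = 1 ∨ D x = -1 := fun x h1 => (hdiff x 1 j.1).2 (by
    simp [memO, col_one, col_j, h1, (K.free_of (Or.inl h1)).2 j])
  have DC : ∀ x, K.A x = 0 → K.C j x ≠ 0 → D x = 1 ∨ D x = -1 := fun x h1 h2 => (hdiff x 1 j.1).2 (by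
    simp [memO, col_one, col_j, h1, h2])
  have unz : ∀ {x : ι}, K.A x * K.A x = 1 → K.A x ≠ 0 := fun h e => by rw [e] at h; norm_num at h
  have hu0 := unz R.A_sq.1
  have hw0 := unz R.A_sq.2.1
  have hv0 := unz R.A_sq.2.2
  -- orthogonality to the column `A`
  have hA4 : ∀ (g : ι → ℤ), ∑ x, K.A x * g x = g K.o + K.A R.u * g R.u + K.A R.w * g R.w + K.A R.v * g R.v := by
    intro g
    rw [← Finset.sum_subset (Finset.subset_univ ({K.o, R.u, R.w, R.v} : Finset ι)) (fun x _ hx => by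
      simp only [Finset.mem_insert, Finset.mem_singleton, not_or] at hx
      by_contra h
      rcases R.A_cases x (fun e => h (by rw [e, zero_mul])) with e | e | e | e
      exacts [hx.1 e, hx.2.1 e, hx.2.2.1 e, hx.2.2.2 e])]
    rw [Finset.sum_insert (by simp [Ne.symm R.uo, Ne.symm R.wo, Ne.symm R.vo]),
      Finset.sum_insert (by simp [R.uw, R.uv]), Finset.sum_insert (by simp [R.wv]), Finset.sum_singleton, K.o_A]
    ring
  have hsumA : D K.o + K.A R.u * D R.u + K.A R.w * D R.w + K.A R.v * D R.v = 0 := by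
    rw [← hA4]
    simp only [D, mul_sub, Finset.sum_sub_distrib, horth, sub_zero]
  have hDo : D K.o = 1 := hone j
  -- the two constituents of the column
  obtain ⟨a, b, hab, ha, hb, h0⟩ := exists_two (K.CC j)
  obtain ⟨hopp, hdeg⟩ := K.opposite hab ha hb h0 (K.degC j)
  have hja : K.C j a ≠ 0 := by rcases ha with e | e <;> rw [e] <;> norm_num
  have hjb : K.C j b ≠ 0 := by rcases hb with e | e <;> rw [e] <;> norm_num
  have hAa := (K.C_ne_facts hja).1
  have hAb' := (K.C_ne_facts hjb).1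
  have htau : ∀ x, K.C j x ≠ 0 → K.τ x ^ 2 = (K.q + 1) ^ 2 := fun x hx => by
    have hC1 : K.C j x * K.C j x = 1 := by
      rcases hCb j x with e | e | e
      · exact absurd e hx
      all_goals rw [e]; norm_num
    rw [K.tau_C hx, K.hq, hε]; linear_combination 16 * K.e ^ 2 * hC1
  have hχab : χ = a ∨ χ = b := by
    by_contra h
    rw [not_or] at h
    exact hj (h0 χ h.1 h.2)
  have hχd : K.deg χ = K.deg a := by rcases hχab with e | e <;> rw [e]; exact hdeg
  have hne : ∀ {x y : ι}, K.A x = 0 → K.A y ≠ 0 → x ≠ y := fun h1 h2 e => h2 (e ▸ h1)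
  have oA : K.A K.o ≠ 0 := by rw [K.o_A]; norm_num
  have hexp := hpair j
  rw [← Finset.sum_subset (Finset.subset_univ ({K.o, R.u, R.w, R.v, a, b} : Finset ι)) (fun x _ hx => by
      simp only [Finset.mem_insert, Finset.mem_singleton, not_or] at hx
      have hA : K.A x = 0 := by
        by_contra h
        rcases R.A_cases x h with e | e | e | e
        exacts [hx.1 e, hx.2.1 e, hx.2.2.1 e, hx.2.2.2.1 e]
      rw [show M x 1 - M x j.1 = 0 from Dz x hA (h0 x hx.2.2.2.2.1 hx.2.2.2.2.2)]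
      simp),
    Finset.sum_insert (by
      simp [Ne.symm R.uo, Ne.symm R.wo, Ne.symm R.vo, (hne hAa oA).symm, (hne hAb' oA).symm]),
    Finset.sum_insert (by simp [R.uw, R.uv, (hne hAa hu0).symm, (hne hAb' hu0).symm]),
    Finset.sum_insert (by simp [R.wv, (hne hAa hw0).symm, (hne hAb' hw0).symm]),
    Finset.sum_insert (by simp [(hne hAa hv0).symm, (hne hAb' hv0).symm]),
    Finset.sum_pair hab, hdeg] at hexp
  simp only [show ∀ x, M x 1 - M x j.1 = D x from fun _ => rfl] at hexp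
  have tauo : K.τ K.o = 1 := by
    rw [K.tau_eq, K.o_P, K.o_A, Finset.sum_eq_zero (fun l _ => K.o_B l), Finset.sum_eq_zero (fun i _ => K.o_C i)]
    linear_combination K.ε * K.f_sub + K.eps_sq
  have t1 : ((K.τ K.o : ℤ) : ℚ) ^ 2 = 1 := by rw [tauo]; norm_num
  have castsq : ∀ {z w : ℤ}, z ^ 2 = w → ((z : ℚ)) ^ 2 = (w : ℚ) := fun h => by exact_mod_cast h
  have tu : (K.τ R.u : ℚ) ^ 2 = 1 := by
    have := castsq (show K.τ R.u ^ 2 = 1 by rw [R.tau.1, pow_two]; exact R.A_sq.1)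
    rw [this]; norm_num
  have tw : (K.τ R.w : ℚ) ^ 2 = (K.q : ℚ) ^ 2 := by
    have := castsq (show K.τ R.w ^ 2 = K.q ^ 2 by rw [R.tau.2.1]; linear_combination K.q ^ 2 * R.A_sq.2.1)
    rw [this]; norm_num
  have tv : (K.τ R.v : ℚ) ^ 2 = (K.q : ℚ) ^ 2 := by
    have := castsq (show K.τ R.v ^ 2 = K.q ^ 2 by rw [R.tau.2.2]; linear_combination K.q ^ 2 * R.A_sq.2.2)
    rw [this]; norm_num
  have ta : (K.τ a : ℚ) ^ 2 = ((K.q : ℚ) + 1) ^ 2 := by rw [castsq (htau a hja)]; push_cast; ring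
  have tb : (K.τ b : ℚ) ^ 2 = ((K.q : ℚ) + 1) ^ 2 := by rw [castsq (htau b hjb)]; push_cast; ring
  have hq : 27 ≤ K.q := by rw [K.hq, hε]; linarith [K.he]
  have hqQ : (27 : ℚ) ≤ (K.q : ℚ) := by exact_mod_cast hq
  set Φ : ℤ := K.q ^ 2 - K.q + 1 with hΦ
  have hΦpos : 0 < Φ := by rw [hΦ]; nlinarith
  obtain ⟨d1, d2, d3⟩ := R.deg
  set U := K.A R.u * D R.u with hU
  set W := K.A R.w * D R.w with hW
  set V := K.A R.v * D R.v with hV
  have hz : (K.q : ℚ) ≠ 0 := by linarith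
  have hΦQ : ((Φ : ℤ) : ℚ) = (K.q : ℚ) ^ 2 - K.q + 1 := by rw [hΦ]; push_cast; ring
  have hΦne : (K.q : ℚ) ^ 2 - K.q + 1 ≠ 0 := by nlinarith
  have degne : ∀ x, (K.deg x : ℚ) ≠ 0 := fun x => by exact_mod_cast K.deg_ne x
  have frac : ∀ (x : ι) (E : ℤ), K.A x * K.deg x = E → K.A x * K.A x = 1 →
      (D x : ℚ) / (K.deg x : ℚ) = ((K.A x * D x : ℤ) : ℚ) / (E : ℚ) := fun x E hE hA => by
    rw [← hE]
    push_cast
    have hA0 : (K.A x : ℚ) ≠ 0 := by exact_mod_cast unz hA
    field_simp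
  rw [t1, tu, tw, tv, ta, tb, hDo, K.deg_o, one_mul, one_mul, mul_div_assoc, mul_div_assoc,
    frac _ _ d1 R.A_sq.1, frac _ _ d2 R.A_sq.2.1, frac _ _ d3 R.A_sq.2.2, ← hU, ← hW, ← hV] at hexp
  push_cast at hexp
  -- cleared
  have hX : (K.q + 1) ^ 2 * (D a + D b) * (K.q * Φ) =
      K.deg a * ((K.q + 1) * (K.q - 1) ^ 2 - K.q * Φ + K.q * U + K.q ^ 2 * W - Φ * V) := by
    have h1 : (((K.q + 1) ^ 2 * (D a + D b) * (K.q * Φ) : ℤ) : ℚ) =
        ((K.deg a * ((K.q + 1) * (K.q - 1) ^ 2 - K.q * Φ + K.q * U + K.q ^ 2 * W - Φ * V) : ℤ) : ℚ) := by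
      have hne1 : -((K.q : ℚ) ^ 2 - K.q + 1) ≠ 0 := neg_ne_zero.2 hΦne
      have hda := degne a
      push_cast
      rw [hΦQ]
      obtain ⟨φ, hφ, hφne⟩ : ∃ φ : ℚ, φ = (K.q : ℚ) ^ 2 - K.q + 1 ∧ φ ≠ 0 := ⟨_, rfl, hΦne⟩
      rw [← hφ] at hexp ⊢
      linear_combination (norm := (field_simp; ring)) ((K.q : ℚ) * φ * (K.deg a : ℚ)) * hexp
    exact_mod_cast h1
  have hUc : U = 1 ∨ U = -1 := by
    rcases hAb R.u with e | e | e
    · exact absurd e hu0
    all_goals rcases DA R.u hu0 with e' | e' <;> rw [hU, e, e'] <;> norm_num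
  have hWc : W = 1 ∨ W = -1 := by
    rcases hAb R.w with e | e | e
    · exact absurd e hw0
    all_goals rcases DA R.w hw0 with e' | e' <;> rw [hW, e, e'] <;> norm_num
  have hVc : V = 1 ∨ V = -1 := by
    rcases hAb R.v with e | e | e
    · exact absurd e hv0
    all_goals rcases DA R.v hv0 with e' | e' <;> rw [hV, e, e'] <;> norm_num
  set X : ℤ := (K.q + 1) * (K.q - 1) ^ 2 - K.q * Φ + K.q * U + K.q ^ 2 * W - Φ * V with hXdef
  have hdiv : ¬ (K.q - 1) ∣ (K.q + 1) ^ 2 * (K.q * Φ) := fun h => by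
    have h2 : (K.q - 1) ∣ 4 := by
      have h3 := dvd_sub h (dvd_mul_right (K.q - 1) (K.q ^ 4 + 2 * K.q ^ 3 + 2 * K.q ^ 2 + 3 * K.q + 4))
      rw [hΦ] at h3
      exact h3.trans (dvd_of_eq (by ring))
    have := Int.le_of_dvd (by norm_num) h2
    linarith
  have hDa := DC a hAa hja
  have hDb := DC b hAb' hjb
  have hsum2 : D a + D b = 0 ∨ D a + D b = 2 ∨ D a + D b = -2 := by omega
  have hs : U + W + V = -1 := by rw [hDo] at hsumA; linarith
  have hda := K.deg_pos a
  have hq1 : (0 : ℤ) < K.q + 1 := by linarith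
  refine ⟨?_, htau χ hj⟩
  rw [hχd]
  have hrhs : K.q ^ 3 + 1 = (K.q + 1) * Φ := by rw [hΦ]; ring
  rw [hrhs]
  rcases hUc with eu | eu <;> rcases hWc with ew | ew <;> rcases hVc with ev | ev <;>
    rw [eu, ew, ev] at hs <;> norm_num at hs
  · have eX : X = -2 * (K.q - 1) := by rw [hXdef, eu, ew, ev, hΦ]; ring
    rw [eX] at hX
    rcases hsum2 with e | e | e <;> rw [e] at hX
    · exact absurd ((mul_eq_zero.1 (show K.deg a * (-2 * (K.q - 1)) = 0 by linarith)).resolve_left hda.ne') (by linarith)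
    · exact absurd ⟨-(K.deg a), by linarith⟩ hdiv
    · exact absurd ⟨K.deg a, by linarith⟩ hdiv
  · have eX : X = 2 * (K.q - 1) ^ 2 := by rw [hXdef, eu, ew, ev, hΦ]; ring
    rw [eX] at hX
    rcases hsum2 with e | e | e <;> rw [e] at hX
    · have hz : (K.q - 1) ^ 2 = 0 :=
        (mul_eq_zero.1 (show K.deg a * (K.q - 1) ^ 2 = 0 by linarith)).resolve_left hda.ne'
      have := pow_eq_zero_iff two_ne_zero |>.1 hz
      linarith
    · exact absurd ⟨K.deg a * (K.q - 1), by linarith⟩ hdiv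
    · exact absurd ⟨-(K.deg a * (K.q - 1)), by linarith⟩ hdiv
  · have eX : X = -(2 * K.q * (K.q + 1)) := by rw [hXdef, eu, ew, ev, hΦ]; ring
    rw [eX] at hX
    have hne : K.q * (K.q + 1) ≠ 0 := mul_ne_zero (by linarith) hq1.ne'
    have hd0 : 0 < (K.q + 1) * Φ := mul_pos hq1 hΦpos
    rcases hsum2 with e | e | e <;> rw [e] at hX
    · exact absurd ((mul_eq_zero.1 (show K.deg a * (K.q * (K.q + 1)) = 0 by linarith)).resolve_left hda.ne') hne
    · have h2 : K.q * (K.q + 1) * ((K.q + 1) * Φ + K.deg a) = 0 := by linarith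
      linarith [(mul_eq_zero.1 h2).resolve_left hne]
    · have h2 : K.q * (K.q + 1) * ((K.q + 1) * Φ - K.deg a) = 0 := by linarith
      linarith [(mul_eq_zero.1 h2).resolve_left hne]

/-- the constituents of the columns of `T` satisfy the bound of the rest -/
theorem torus_bound (R : ReeData K) (hε : K.ε = -1) (hΛ : (Fintype.card Λ : ℤ) = K.f) (M : ι → Λ → ℤ)
    (hpar : ∀ χ l, 2 ∣ (if h : l = 1 then K.A χ else K.C ⟨l, h⟩ χ) + K.W χ - M χ l)
    (hsq : ∑ χ, (K.f * (∑ l, M χ l ^ 2) - (∑ l, M χ l) ^ 2) = 2 * K.f * (K.f - 1))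
    (horth : ∀ l, ∑ χ, K.A χ * M χ l = 0)
    (hone : ∀ j : {j : Λ // j ≠ 1}, M K.o 1 - M K.o j.1 = 1)
    (hpair : ∀ j : {j : Λ // j ≠ 1}, ∑ χ, (K.τ χ : ℚ) ^ 2 * ((M χ 1 - M χ j.1 : ℤ) : ℚ) / (K.deg χ : ℚ) =
      ((K.q : ℚ) + 1) * ((K.q : ℚ) - 1) ^ 2 / ((K.q : ℚ) * ((K.q : ℚ) ^ 2 - K.q + 1)))
    {χ : ι} (hχo : χ ≠ K.o) (hχ4 : χ ∉ R.four) :
    K.τ χ ^ 2 * (K.q ^ 2 - K.q + 1) ^ 2 ≤ 9 * K.deg χ ^ 2 := by
  by_cases hC : ∀ j, K.C j χ = 0
  · exact R.rest χ hχo hχ4 hC
  push Not at hC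
  obtain ⟨j, hj⟩ := hC
  obtain ⟨hd, ht⟩ := K.member_deg R hε hΛ M hpar hsq horth hone hpair hj
  rw [hd, ht, ← mul_pow, show (K.q + 1) * (K.q ^ 2 - K.q + 1) = K.q ^ 3 + 1 by ring]
  linarith [sq_nonneg (K.q ^ 3 + 1)]

end Cols

end CfsgLib.Recog.JankoThompson
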