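import Cfsg.Agent.Lib.Recog.JankoThompson.Ward.Bound

/-!
Owner: helper22. Groups of Ree type have non-abelian Sylow 3-subgroups
(section 4 of `notes/S2554_ward_pencil_helper22.md`).
-/

set_option autoImplicit false
set_option linter.all false
set_option maxHeartbeats 800000

namespace CfsgLib.Recog.JankoThompson

open Subgroup CfsgLib.Char
open scoped ComplexConjugate

universe u v

variable {G : Type u} [Group G] {Fq : Type v} [Field Fq] [Fintype Fq]

/-- a nonnegative class function weighed along the conjugacy classes -/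
theorem sum_le_of_classes [Fintype G] (I : Finset G) (w b : G → ℝ) (hb : ∀ y, 0 ≤ b y)
    (h : ∀ x ∈ I, ∀ m : ℕ, m ≤ Nat.card {x' : G // x' ∈ I ∧ IsConj x x'} →
      (m : ℝ) * w x * Nat.card (centralizer ({x} : Set G)) ≤ b x)
    (hbc : ∀ x y, IsConj x y → b x = b y) (hwc : ∀ x y, IsConj x y → w x = w y) :
    (Nat.card G : ℝ) * ∑ x ∈ I, w x ≤ ∑ y, b y := by
  classical
  rw [← Finset.sum_fiberwise Finset.univ ConjClasses.mk b, ← Finset.sum_fiberwise I ConjClasses.mk w, Finset.mul_sum]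
  refine Finset.sum_le_sum fun C _ => ?_
  by_cases hC : (I.filter fun x => ConjClasses.mk x = C) = ∅
  · rw [hC, Finset.sum_empty, mul_zero]
    exact Finset.sum_nonneg fun y _ => hb y
  obtain ⟨x, hx⟩ := Finset.nonempty_iff_ne_empty.2 hC
  obtain ⟨hxI, rfl⟩ := Finset.mem_filter.1 hx
  have hw : ∀ y, ConjClasses.mk y = ConjClasses.mk x → w y = w x ∧ b y = b x := fun y hy =>
    ⟨hwc _ _ (ConjClasses.mk_eq_mk_iff_isConj.1 hy), hbc _ _ (ConjClasses.mk_eq_mk_iff_isConj.1 hy)⟩
  rw [Finset.sum_congr rfl fun y hy => (hw y (Finset.mem_filter.1 hy).2).1,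
    Finset.sum_congr rfl fun y hy => (hw y (Finset.mem_filter.1 hy).2).2, Finset.sum_const, Finset.sum_const,
    nsmul_eq_mul, nsmul_eq_mul]
  have hm : (I.filter fun y => ConjClasses.mk y = ConjClasses.mk x).card =
      Nat.card {x' : G // x' ∈ I ∧ IsConj x x'} := by
    rw [Nat.card_eq_fintype_card, Fintype.card_subtype]
    congr 1
    ext y
    simp only [Finset.mem_filter, Finset.mem_univ, true_and, ConjClasses.mk_eq_mk_iff_isConj]
    exact and_congr_right fun _ => isConj_comm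
  have hcl : (Finset.univ.filter fun y : G => ConjClasses.mk y = ConjClasses.mk x).card *
      Nat.card (centralizer ({x} : Set G)) = Nat.card G := by
    have h1 : (Finset.univ.filter fun y : G => ConjClasses.mk y = ConjClasses.mk x).card =
        Nat.card (ConjClasses.mk x).carrier := by
      rw [Nat.card_coe_set_eq, ← Set.ncard_coe_finset]
      congr 1
      ext y
      simp [ConjClasses.mem_carrier_iff_mk_eq]
    rw [h1, card_carrier_eq_index, Subgroup.index_mul_card]
  have h2 := mul_le_mul_of_nonneg_left (h x hxI _ hm.le)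
    (Nat.cast_nonneg (α := ℝ) (Finset.univ.filter fun y : G => ConjClasses.mk y = ConjClasses.mk x).card)
  calc (Nat.card G : ℝ) * (((I.filter fun y => ConjClasses.mk y = ConjClasses.mk x).card : ℝ) * w x)
      = ((Finset.univ.filter fun y : G => ConjClasses.mk y = ConjClasses.mk x).card : ℝ) *
        (((I.filter fun y => ConjClasses.mk y = ConjClasses.mk x).card : ℝ) * w x *
          Nat.card (centralizer ({x} : Set G))) := by
        rw [← hcl]; push_cast; ring
    _ ≤ _ := h2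

/-- the final estimate -/
theorem ward_absurd {q : ℝ} (hq : 27 ≤ q)
    (h : (q - 1) * (q ^ 2 - 1) / q ^ 3 ≤
      3 * (q - 1) ^ 2 * (q ^ 2 + 5 * q + 1) / (q * (q ^ 2 - q + 1) ^ 2) + 9 * (q ^ 3 - q) / (q ^ 2 - q + 1) ^ 2) :
    False := by
  have h0 : 0 < q := by linarith
  have hΦ : 0 < q ^ 2 - q + 1 := by nlinarith
  rw [div_add_div _ _ (by positivity) (by positivity), div_le_div_iff₀ (by positivity) (by positivity)] at h
  obtain ⟨s, hs, rfl⟩ : ∃ s, 0 ≤ s ∧ q = 27 + s := ⟨q - 27, by linarith, by ring⟩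
  have key : 0 < ((27 + s) ^ 2 - 1) * ((27 + s) ^ 2 - (27 + s) + 1) ^ 2 -
      3 * ((27 + s) - 1) * (27 + s) ^ 2 * ((27 + s) ^ 2 + 5 * (27 + s) + 1) - 9 * (27 + s) ^ 4 * ((27 + s) + 1) := by
    ring_nf
    positivity
  have h2 := mul_pos key (show (0 : ℝ) < ((27 + s) - 1) * ((27 + s) * ((27 + s) ^ 2 - (27 + s) + 1) ^ 2) from
    mul_pos (by linarith) (mul_pos (by linarith) (pow_pos hΦ 2)))
  linarith

namespace Ctx

variable (c : Ctx G Fq) {p : ℕ} (T : Tori Fq c.w p c.e c.f)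

include c T in
/-- Ward: the Sylow 3-subgroups are not abelian -/
theorem not_abelian_sylow_three [Fintype G] {n : ℕ} (hq3 : c.q = 3 ^ n) (hq4 : c.q % 4 = 3)
    (hcard : Nat.card G = c.q ^ 3 * (c.q ^ 3 + 1) * (c.q - 1))
    (hab3 : ∀ P : Sylow 3 G, IsMulCommutative (P : Subgroup G)) : False := by
  classical
  haveI : Fintype (Cfsg.IrrCharacter G) := Fintype.ofFinite _
  have hq27 : 27 ≤ c.q := by
    rcases le_or_gt 3 n with h | h
    · rw [hq3]; exact le_trans (by norm_num) (Nat.pow_le_pow_right (by norm_num) h)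
    · have h1 := c.hbig
      have h9 : c.q ≤ 9 := by rw [hq3]; exact le_trans (Nat.pow_le_pow_right (by norm_num) (Nat.le_of_lt_succ h)) (by norm_num)
      have h2 : c.q = Fintype.card Fq := rfl
      omega
  obtain ⟨I, hIcard, hI⟩ := c.exists_inv_part T hq3 hq4 hab3 hcard
  obtain ⟨τ, deg, four, hτ, hd, hdpos, hbound, hfour⟩ := c.exists_bound T hq3 hq4 hcard
  obtain ⟨-, -, -, he4, hf2⟩ := c.three_facts hq3 hq4
  have hqR : (27 : ℝ) ≤ (c.q : ℝ) := by exact_mod_cast hq27
  set q : ℝ := (c.q : ℝ) with hq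
  set Φ : ℝ := q ^ 2 - q + 1 with hΦ
  have hΦpos : 0 < Φ := by rw [hΦ]; nlinarith
  set r : ℝ := (q ^ 2 - 1) / (q * Φ) with hr
  let coef : Cfsg.IrrCharacter G → ℝ := fun χ => (τ χ : ℝ) ^ 2 / (deg χ : ℝ)
  let φ : G → ℂ := fun y => ∑ χ ∈ Finset.univ.erase (trivChar G), (coef χ : ℂ) * (χ : G → ℂ) y
  let b : G → ℝ := fun y => Complex.normSq (φ y)
  -- the values of `φ`
  have hN : (0 : ℝ) < (Nat.card G : ℝ) := Nat.cast_pos.2 Nat.card_pos
  have hφ : ∀ y, φ y = ((r * c.pairs y - 1 : ℝ) : ℂ) := by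
    intro y
    have hτo : τ (trivChar G) = 1 := by exact_mod_cast (hτ _).trans (trivChar_apply c.t)
    have hdo : deg (trivChar G) = 1 := by exact_mod_cast (hd _).trans (trivChar_apply 1)
    have hw := c.weight_pairs y
    have hsum : ∑ χ : Cfsg.IrrCharacter G,
        (χ : G → ℂ) c.t * (χ : G → ℂ) c.t * (χ : G → ℂ) y / (χ : G → ℂ) 1 = φ y + 1 := by
      rw [← Finset.sum_erase_add _ _ (Finset.mem_univ (trivChar G))]
      simp only [φ, coef, trivChar_apply]
      congr 1
      · refine Finset.sum_congr rfl fun χ _ => ?_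
        rw [← hτ, ← hd]; push_cast; ring
      · norm_num
    rw [weight, hsum] at hw
    have hr' : (r : ℝ) * Nat.card G = ((8 * c.e * c.f * c.q : ℕ) : ℝ) ^ 2 := by
      rw [hcard, show c.q - 1 = 2 * c.f by omega, hr, hΦ]
      have e4 : (4 : ℝ) * c.e = q + 1 := by rw [hq]; exact_mod_cast he4.symm
      have e2 : (2 : ℝ) * c.f = q - 1 := by rw [hq, hf2]; push_cast; ring
      push_cast
      rw [← hq, e2, show (8 : ℝ) * c.e * c.f * q = (q + 1) * (q - 1) * q by rw [← e4, ← e2]; ring]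
      have hq0 : q ≠ 0 := by linarith
      rw [show q ^ 3 + 1 = (q + 1) * (q ^ 2 - q + 1) by ring]
      have hP : q ^ 2 - q + 1 ≠ 0 := hΦpos.ne'
      generalize q ^ 2 - q + 1 = φ at hP ⊢
      field_simp
      ring
    have hN' : (Nat.card G : ℂ) ≠ 0 := Nat.cast_ne_zero.2 Nat.card_pos.ne'
    apply mul_left_cancel₀ hN'
    have hr'' : (r : ℂ) * (Nat.card G : ℂ) = ((8 * c.e * c.f * c.q : ℕ) : ℂ) ^ 2 := by exact_mod_cast hr'
    push_cast
    linear_combination hw - (c.pairs y : ℂ) * hr''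
  have hφc : ∀ x y, IsConj x y → φ x = φ y := fun x y h => by
    simp only [φ, CharDegree.apply_eq_of_isConj _ h]
  have hrpos : 0 < r := by rw [hr]; exact div_pos (by nlinarith) (mul_pos (by linarith) hΦpos)
  have hpc : ∀ x y, IsConj x y → c.pairs x = c.pairs y := fun x y h => by
    have e := hφc x y h
    rw [hφ, hφ] at e
    have e' : r * (c.pairs x : ℝ) - 1 = r * (c.pairs y : ℝ) - 1 := Complex.ofReal_inj.1 e
    exact_mod_cast mul_left_cancel₀ hrpos.ne' (sub_left_inj.1 e')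
  -- the norm of `φ`
  have hnorm : ∑ y, b y = (Nat.card G : ℝ) * ∑ χ ∈ Finset.univ.erase (trivChar G), coef χ ^ 2 := by
    apply Complex.ofReal_injective
    push_cast
    simp only [b, Complex.normSq_eq_conj_mul_self, φ, map_sum, map_mul, Complex.conj_ofReal, Finset.sum_mul,
      Finset.mul_sum]
    rw [Finset.sum_comm]
    refine Finset.sum_congr rfl fun χ hχ => ?_
    rw [Finset.sum_comm]
    have horth : ∀ ψ : Cfsg.IrrCharacter G, ∑ g : G, (χ : G → ℂ) g * conj ((ψ : G → ℂ) g) =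
        if χ = ψ then (Nat.card G : ℂ) else 0 := fun ψ => by
      have h := classInner_irr χ ψ
      rw [Cfsg.classInner, inv_mul_eq_iff_eq_mul₀ (Nat.cast_ne_zero.2 Nat.card_pos.ne')] at h
      rw [h]; split_ifs <;> simp
    have h : ∀ (ψ : Cfsg.IrrCharacter G) (g : G), (coef ψ : ℂ) * conj ((ψ : G → ℂ) g) *
        ((coef χ : ℂ) * (χ : G → ℂ) g) = (coef ψ : ℂ) * (coef χ : ℂ) * ((χ : G → ℂ) g * conj ((ψ : G → ℂ) g)) :=
      fun ψ g => by ring
    simp only [h, ← Finset.mul_sum, horth, mul_ite, mul_zero, Finset.sum_ite_eq, hχ, if_true]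
    ring
  -- the upper bound
  have hupper : ∑ χ ∈ Finset.univ.erase (trivChar G), coef χ ^ 2 ≤
      3 * (q - 1) ^ 2 * (q ^ 2 + 5 * q + 1) / (q * Φ ^ 2) + 9 * (q ^ 3 - q) / Φ ^ 2 := by
    have hfour' : ∑ χ ∈ four, coef χ ^ 2 = 3 * (q - 1) ^ 2 * (q ^ 2 + 5 * q + 1) / (q * Φ ^ 2) := by
      have h := congrArg (fun z : ℚ => (z : ℝ)) hfour
      push_cast at h
      rw [hΦ, hq, ← h]
      exact Finset.sum_congr rfl fun χ _ => by simp only [coef]; ring
    have hτsum : ∑ χ : Cfsg.IrrCharacter G, (τ χ : ℝ) ^ 2 = q ^ 3 - q := by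
      apply Complex.ofReal_injective
      push_cast
      have h := column_orthogonality (G := G) c.t c.t
      rw [if_pos (IsConj.refl _), c.card_Ct] at h
      simp only [← hτ, map_intCast, ← pow_two] at h
      rw [h, hq]
      have e4 : (4 : ℂ) * c.e = (c.q : ℂ) + 1 := by exact_mod_cast he4.symm
      have e2 : (2 : ℂ) * c.f = (c.q : ℂ) - 1 := by rw [hf2]; push_cast; ring
      push_cast
      linear_combination (2 * (c.f : ℂ) * c.q) * e4 + ((c.q : ℂ) + 1) * c.q * e2
    rw [← Finset.sum_inter_add_sum_sdiff (Finset.univ.erase (trivChar G)) four]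
    refine add_le_add ?_ ?_
    · rw [← hfour']
      exact Finset.sum_le_sum_of_subset_of_nonneg Finset.inter_subset_right fun χ _ _ => sq_nonneg _
    · have hle : ∀ χ ∈ (Finset.univ.erase (trivChar G)) \ four, coef χ ^ 2 ≤ 9 / Φ ^ 2 * (τ χ : ℝ) ^ 2 := by
        intro χ hχ
        obtain ⟨h1, h4⟩ := Finset.mem_sdiff.1 hχ
        have h := hbound χ (Finset.mem_erase.1 h1).1 h4
        have h' : (τ χ : ℝ) ^ 2 * Φ ^ 2 ≤ 9 * (deg χ : ℝ) ^ 2 := by
          rw [hΦ, hq]; exact_mod_cast h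
        have hd0 : (0 : ℝ) < (deg χ : ℝ) := by exact_mod_cast hdpos χ
        simp only [coef]
        rw [div_pow, div_mul_eq_mul_div, div_le_div_iff₀ (by positivity) (by positivity)]
        nlinarith [mul_le_mul_of_nonneg_left h' (sq_nonneg (τ χ : ℝ))]
      refine (Finset.sum_le_sum hle).trans ?_
      rw [← Finset.mul_sum]
      calc 9 / Φ ^ 2 * ∑ χ ∈ (Finset.univ.erase (trivChar G)) \ four, (τ χ : ℝ) ^ 2
          ≤ 9 / Φ ^ 2 * ∑ χ, (τ χ : ℝ) ^ 2 := mul_le_mul_of_nonneg_left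
            (Finset.sum_le_univ_sum_of_nonneg fun χ => sq_nonneg _) (by positivity)
        _ = 9 * (q ^ 3 - q) / Φ ^ 2 := by rw [hτsum]; ring
  -- the lower bound
  set Q : ℝ := q * (q - 1) with hQ
  have hQpos : 0 < Q := mul_pos (by linarith) (by linarith)
  have hle := sum_le_of_classes I (fun x => b x / (c.pairs x * Q)) b (fun y => Complex.normSq_nonneg _) ?_
    (fun x y h => by simp only [b, hφc x y h]) (fun x y h => by simp only [b, hφc x y h, hpc x y h])
  swap
  · intro x hx m hm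
    obtain ⟨hxinv, -⟩ := hI x hx
    have hmul := c.pairs_mul_AK T hq3 hq4 hxinv
    have horb := c.orbit_le T hq3 hq4 hxinv
    have hapos : 0 < c.pairs x := by
      rcases Nat.eq_zero_or_pos (c.pairs x) with e | e
      · rw [e, zero_mul] at hmul; exact absurd hmul.symm Nat.card_pos.ne'
      · exact e
    have hm' : m * Nat.card (c.AK x) ≤ c.q * (c.q - 1) := by
      refine le_trans (Nat.mul_le_mul_right _ (hm.trans ?_)) horb
      exact Nat.card_le_card_of_injective
        (fun z : {x' : G // x' ∈ I ∧ IsConj x x'} => (⟨z.1, (hI z.1 z.2.1).1, z.2.2⟩ :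
          {x' : G // c.IsInv T x' ∧ IsConj x x'}))
        (fun y z e => Subtype.ext (by simpa using e))
    have hm'' : (m : ℝ) * Nat.card (c.AK x) ≤ Q := by
      rw [hQ, hq]
      have : ((m * Nat.card (c.AK x) : ℕ) : ℝ) ≤ ((c.q * (c.q - 1) : ℕ) : ℝ) := Nat.cast_le.2 hm'
      rw [Nat.cast_mul, Nat.cast_mul, Nat.cast_sub (by omega)] at this
      simpa using this
    have ha : (0 : ℝ) < c.pairs x := Nat.cast_pos.2 hapos
    rw [← hmul, Nat.cast_mul]
    calc (m : ℝ) * (b x / (c.pairs x * Q)) * ((c.pairs x : ℝ) * Nat.card (c.AK x))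
        = b x * ((m : ℝ) * Nat.card (c.AK x) / Q) := by field_simp
      _ ≤ b x * 1 := mul_le_mul_of_nonneg_left ((div_le_one hQpos).2 hm'') (Complex.normSq_nonneg _)
      _ = _ := mul_one _
  rw [hnorm] at hle
  have hle' := le_of_mul_le_mul_left hle hN
  have hlow : ∀ x ∈ I, (q - 1) / (q ^ 3) ≤ b x / (c.pairs x * Q) := by
    intro x hx
    obtain ⟨hxinv, hdvd⟩ := hI x hx
    have hmul := c.pairs_mul_AK T hq3 hq4 hxinv
    have ha1 : c.q ^ 2 ≤ c.pairs x := Nat.le_of_dvd (by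
      rcases Nat.eq_zero_or_pos (c.pairs x) with e | e
      · rw [e, zero_mul] at hmul; exact absurd hmul.symm Nat.card_pos.ne'
      · exact e) (c.pairs_dvd T hq3 hq4 hxinv hdvd)
    have ha : q ^ 2 ≤ (c.pairs x : ℝ) := by rw [hq]; exact_mod_cast ha1
    set a : ℝ := (c.pairs x : ℝ) with ha'
    have hbx : b x = (r * a - 1) ^ 2 := by
      simp only [b]; rw [hφ, Complex.normSq_ofReal]; ring
    have hrq : q ≤ r * q ^ 2 := by
      rw [hr, div_mul_eq_mul_div, le_div_iff₀ (mul_pos (by linarith) hΦpos), hΦ]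
      nlinarith
    have hq2 : 0 < q ^ 2 := by nlinarith
    have hstep : (q - 1) ^ 2 / q ^ 2 ≤ (r * a - 1) ^ 2 / a := by
      have h1 : (q - 1) ^ 2 / q ^ 2 ≤ (r * q ^ 2 - 1) ^ 2 / q ^ 2 :=
        div_le_div_of_nonneg_right (pow_le_pow_left₀ (by linarith) (by linarith) 2) hq2.le
      refine h1.trans ?_
      rw [div_le_div_iff₀ hq2 (by linarith)]
      have h2 : 1 ≤ r ^ 2 * a * q ^ 2 := by
        have : q * q ≤ (r * q ^ 2) * (r * q ^ 2) := mul_self_le_mul_self (by linarith) hrq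
        nlinarith [mul_le_mul_of_nonneg_left ha (mul_nonneg (sq_nonneg r) hq2.le)]
      nlinarith [mul_nonneg (sub_nonneg.2 ha) (sub_nonneg.2 h2)]
    calc (q - 1) / q ^ 3 = (q - 1) ^ 2 / q ^ 2 / Q := by
          rw [hQ]
          have : q - 1 ≠ 0 := by linarith
          have : q ≠ 0 := by linarith
          field_simp
      _ ≤ (r * a - 1) ^ 2 / a / Q := div_le_div_of_nonneg_right hstep hQpos.le
      _ = b x / (a * Q) := by rw [hbx, div_div]
  have hcardI : (I.card : ℝ) = q ^ 2 - 1 := by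
    rw [hq, eq_sub_iff_add_eq]; exact_mod_cast hIcard
  have h1 := Finset.card_nsmul_le_sum I _ _ hlow
  rw [nsmul_eq_mul, hcardI] at h1
  refine ward_absurd hqR ?_
  rw [← hΦ]
  calc (q - 1) * (q ^ 2 - 1) / q ^ 3 = (q ^ 2 - 1) * ((q - 1) / q ^ 3) := by ring
    _ ≤ _ := (h1.trans hle').trans hupper

end Ctx

end CfsgLib.Recog.JankoThompson
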