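import Cfsg.Agent.Lib.Recog.JankoThompson.CharsPairs
import Cfsg.Agent.Lib.Core.Coprime
import Cfsg.Agent.Lib.Classical.PSLTwoSimple

/-!
Owner: helper22. Groups of Janko–Thompson type with abelian Sylow 3-subgroups: the inverted part of a Sylow
3-subgroup through the root group (section 1 of `notes/S2554_ward_pencil_helper22.md`).
-/

set_option autoImplicit false
set_option linter.all false
set_option maxHeartbeats 1600000

namespace CfsgLib.Recog.JankoThompson

open Subgroup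

universe u v

theorem eq_one_of_coprime {H : Type*} [Group H] {x : H} {a b : ℕ} (h : Nat.Coprime a b) (ha : orderOf x ∣ a)
    (hb : orderOf x ∣ b) : x = 1 :=
  orderOf_eq_one_iff.1 (Nat.eq_one_of_dvd_coprimes h ha hb)

/-- an involutive permutation with a fixed point on a finite type of even order has another one -/
theorem exists_other_fixed {α : Type*} [Finite α] (g : α → α) (hg : ∀ a, g (g a) = a) (heven : Even (Nat.card α))
    {a₀ : α} (h₀ : g a₀ = a₀) : ∃ a, a ≠ a₀ ∧ g a = a := by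
  classical
  haveI := Fintype.ofFinite α
  haveI : Fact (Nat.Prime 2) := ⟨Nat.prime_two⟩
  let π : Equiv.Perm α := ⟨g, g, hg, hg⟩
  have h2 : π ^ 2 ^ 1 = 1 := Equiv.ext fun a => hg a
  have h := Equiv.Perm.card_compl_support_modEq (p := 2) (n := 1) h2
  have hmem : a₀ ∈ π.supportᶜ := by rw [Finset.mem_compl, Equiv.Perm.notMem_support]; exact h₀
  by_contra hno
  push Not at hno
  have hone : π.supportᶜ = {a₀} := Finset.eq_singleton_iff_unique_mem.2 ⟨hmem, fun a ha => by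
    rw [Finset.mem_compl, Equiv.Perm.notMem_support] at ha
    by_contra hne
    exact hno a hne ha⟩
  rw [hone, Finset.card_singleton, ← Nat.card_eq_fintype_card, Nat.ModEq] at h
  obtain ⟨k, hk⟩ := heven
  omega

variable {G : Type u} [Group G] {Fq : Type v} [Field Fq] [Fintype Fq] [Finite G]

namespace Ctx

variable (c : Ctx G Fq) {p : ℕ} (T : Tori Fq c.w p c.e c.f)

theorem comm_of_two {a b : G} (ha : a * a = 1) (hb : b * b = 1) (hab : a * b * (a * b) = 1) : a * b = b * a :=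
  calc a * b = (a * b)⁻¹ := (inv_eq_of_mul_eq_one_right hab).symm
    _ = _ := by rw [mul_inv_rev, inv_eq_of_mul_eq_one_right ha, inv_eq_of_mul_eq_one_right hb]

/-- a subgroup through `t` meeting `K` in odd order has an odd subgroup of index two -/
theorem split_odd {H : Subgroup G} (htH : c.t ∈ H) (hodd : ∀ k : P2 Fq, c.ι k ∈ H → Odd (orderOf k)) :
    ∃ M : Subgroup G, M ≤ H ∧ Odd (Nat.card M) ∧ H ≤ normalizer (M : Set G) ∧
      (∀ h ∈ H, h ∈ M ∨ c.t * h ∈ M) ∧ ∀ h ∈ H, Odd (orderOf h) → h ∈ M := by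
  haveI : Fact (Nat.Prime 2) := ⟨Nat.prime_two⟩
  have h2 : IsPGroup 2 (zpowers (⟨c.t, htH⟩ : H)) := IsPGroup.of_card (n := 1) (by
    rw [Nat.card_zpowers, pow_one, ← Subgroup.orderOf_coe]; exact c.ht)
  obtain ⟨P, hP⟩ := h2.exists_le_sylow
  have htP : (⟨c.t, htH⟩ : H) ∈ (P : Subgroup H) := hP (mem_zpowers _)
  have hsq : ∀ z ∈ (P : Subgroup H), (z : G) * z = 1 := fun z hz => by
    obtain ⟨k, hk⟩ := P.isPGroup' ⟨z, hz⟩
    exact c.two_sq z ⟨k, congrArg (fun y : (P : Subgroup H) => ((y : H) : G)) hk⟩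
  have hPmem : ∀ z ∈ (P : Subgroup H), z = 1 ∨ z = ⟨c.t, htH⟩ := by
    intro z hz
    have hzt : (z : G) * c.t = c.t * z := comm_of_two (hsq z hz) c.tt (hsq _ (mul_mem hz htP))
    have key : ∀ k : P2 Fq, c.ι k ∈ H → c.ι k * c.ι k = 1 → k = 1 := fun k hk hk2 =>
      eq_one_of_coprime (Nat.coprime_two_left.2 (hodd k hk)) (orderOf_dvd_of_pow_eq_one (c.inj (by
        rw [map_pow, map_one, pow_two, hk2]))) dvd_rfl
    rcases (c.hC _).1 hzt with ⟨k, hk⟩ | ⟨k, hk⟩
    · refine Or.inl (Subtype.ext ?_)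
      rw [← hk, key k (hk ▸ z.2) (by rw [hk]; exact hsq z hz), map_one]; rfl
    · refine Or.inr (Subtype.ext ?_)
      have h1 : k = 1 := key k (hk ▸ H.mul_mem htH z.2) (by rw [hk]; exact hsq _ (mul_mem htP hz))
      rw [h1, map_one] at hk
      exact (eq_inv_of_mul_eq_one_right hk.symm).trans (inv_eq_of_mul_eq_one_right c.tt)
  have hN : normalizer ((P : Subgroup H) : Set H) ≤ centralizer ((P : Subgroup H) : Set H) := by
    intro g hg
    refine mem_centralizer_iff.2 fun z hz => ?_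
    rcases hPmem z hz with rfl | rfl
    · rw [one_mul, mul_one]
    · have hgt := (mem_normalizer_iff.1 hg _).1 htP
      rcases hPmem _ hgt with e | e
      · exact absurd (congrArg Subtype.val (conj_eq_one_iff.1 e)) c.t_ne
      · exact (mul_inv_eq_iff_eq_mul.1 e).symm
  have hcomp := MonoidHom.ker_transferSylow_isComplement' P hN
  obtain ⟨K, hK, hcomp⟩ : ∃ K : Subgroup H, K = (MonoidHom.transferSylow P hN).ker ∧ K.IsComplement' (P : Subgroup H) :=
    ⟨_, rfl, hcomp⟩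
  have hKn : K.Normal := hK ▸ MonoidHom.normal_ker _
  have hKodd : Odd (Nat.card K) := by
    rw [← hcomp.index_eq_card, Nat.odd_iff]
    have := P.not_dvd_index
    omega
  refine ⟨K.map H.subtype, map_subtype_le _, ?_, ?_, ?_, ?_⟩
  · rw [Subgroup.card_map_of_injective H.subtype_injective]; exact hKodd
  · intro h hh
    rw [mem_normalizer_iff]
    intro y
    constructor
    · rintro ⟨y, hy, rfl⟩
      exact ⟨⟨h, hh⟩ * y * ⟨h, hh⟩⁻¹, hKn.conj_mem y hy _, by simp⟩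
    · rintro ⟨y', hy', e⟩
      refine ⟨⟨h, hh⟩⁻¹ * y' * ⟨h, hh⟩, hKn.conj_mem' y' hy' _, ?_⟩
      show h⁻¹ * H.subtype y' * h = y
      rw [e]; group
  · intro h hh
    obtain ⟨⟨k, s⟩, hks⟩ := hcomp.2 ⟨h, hh⟩
    have e : (k : H) * (s : H) = ⟨h, hh⟩ := hks
    rcases hPmem _ (SetLike.mem_coe.1 s.2) with hs | hs
    · exact Or.inl ⟨k, k.2, by rw [← show ((k : H) : G) * ((s : H) : G) = h from congrArg Subtype.val e, hs]; simp⟩
    · refine Or.inr ⟨⟨c.t, htH⟩ * (k : H) * ⟨c.t, htH⟩⁻¹, hKn.conj_mem _ k.2 _, ?_⟩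
      rw [← show ((k : H) : G) * ((s : H) : G) = h from congrArg Subtype.val e, hs]
      show c.t * ((k : H) : G) * c.t⁻¹ = _
      rw [inv_eq_of_mul_eq_one_right c.tt, mul_assoc]
  · intro h hh ho
    refine ⟨⟨h, hh⟩, ?_, rfl⟩
    obtain ⟨n, hn⟩ := ho
    have h1 : (⟨h, hh⟩ : H) ^ (2 * n + 1) = 1 := by rw [← hn]; exact Subtype.ext (by rw [SubmonoidClass.coe_pow]; exact pow_orderOf_eq_one h)
    obtain ⟨⟨k, s⟩, hks⟩ := hcomp.2 ⟨h, hh⟩
    have e : (k : H) * (s : H) = ⟨h, hh⟩ := hks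
    have hs2 : (s : H) * s = 1 := Subtype.ext (hsq _ (SetLike.mem_coe.1 s.2))
    set π := MonoidHom.transferSylow P hN
    have hk1 : π (k : H) = 1 := MonoidHom.mem_ker.1 (hK ▸ k.2)
    have hπ : π ⟨h, hh⟩ = π (s : H) := by rw [← e, map_mul, hk1, one_mul]
    show (⟨h, hh⟩ : H) ∈ K
    rw [hK, MonoidHom.mem_ker, hπ]
    have h3 := congrArg π h1
    rw [map_pow, hπ, map_one, pow_succ, pow_mul, pow_two, ← map_mul, hs2, map_one, one_pow, one_mul] at h3
    exact h3

theorem cent_root {u : P2 Fq} (hu : u ∈ T.U) (hu1 : u ≠ 1) {k : P2 Fq}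
    (hk : c.ι k ∈ centralizer ({c.ι u} : Set G)) : k ∈ T.U := by
  rw [mem_centralizer_singleton_iff, ← map_mul, ← map_mul] at hk
  exact (T.cent_U u hu hu1 k).1 (c.inj hk)

variable {n : ℕ} (hq3 : c.q = 3 ^ n) (hq4 : c.q % 4 = 3)

/-- the properties of the elements of the inverted part -/
def IsInv (x : G) : Prop :=
  x ≠ 1 ∧ (∃ j : ℕ, orderOf x ∣ 3 ^ j) ∧ c.t * x * c.t = x⁻¹ ∧ ∀ u ∈ T.U, x * c.ι u = c.ι u * x

include hq3 in
theorem U_isPGroup : IsPGroup 3 T.U := IsPGroup.of_card (n := n) (by rw [T.card_U]; exact hq3)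

include hq4 in
theorem n_pos' (hq3 : c.q = 3 ^ n) : 0 < n := Nat.pos_of_ne_zero fun h => by
  rw [h, pow_zero] at hq3; omega

include hq3 hq4 in
theorem three_facts : ¬ 3 ∣ c.e ∧ ¬ 3 ∣ c.f ∧ Nat.Coprime c.e c.f ∧ c.q + 1 = 4 * c.e ∧ c.q = 2 * c.f + 1 := by
  have h3 : 3 ∣ c.q := hq3 ▸ dvd_pow_self 3 (c.n_pos' hq4 hq3).ne'
  have he : c.q + 1 = 4 * c.e := by unfold Ctx.e; rw [if_neg (by omega)]; omega
  have hf : c.q = 2 * c.f + 1 := by unfold Ctx.f; rw [if_neg (by omega)]; omega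
  refine ⟨by omega, by omega, ?_, he, hf⟩
  rw [Nat.coprime_iff_gcd_eq_one]
  have hd : Nat.gcd c.e c.f ∣ 2 := by
    have h1 : Nat.gcd c.e c.f ∣ 4 * c.e := (Nat.gcd_dvd_left _ _).mul_left 4
    have h2 : Nat.gcd c.e c.f ∣ 2 * c.f := (Nat.gcd_dvd_right _ _).mul_left 2
    have := Nat.dvd_sub h1 h2
    rwa [show 4 * c.e - 2 * c.f = 2 by omega] at this
  exact Nat.eq_one_of_dvd_coprimes (Nat.coprime_two_left.2 c.e_odd) hd (Nat.gcd_dvd_left _ _)

include hq4 in
theorem root_not_real {k i : P2 Fq} (hi : orderOf i = 2) {h : P2 Fq} (hh : h * k * h⁻¹ ∈ T.U) (hk : k ≠ 1)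
    (hinv : i * k * i⁻¹ = k⁻¹) : False := by
  have h0 := T.inv_U _ hh (fun e => hk (conj_eq_one_iff.1 e))
  rw [if_neg (show ¬ Fintype.card Fq % 4 = 1 by rw [show Fintype.card Fq = c.q from rfl]; omega)] at h0
  refine (Nat.card_eq_zero.1 h0).elim (fun h1 => h1.elim' ⟨h * i * h⁻¹, ?_, ?_⟩) (fun h1 => ?_)
  · rw [← MulAut.conj_apply, MulEquiv.orderOf_eq]; exact hi
  · rw [show h * i * h⁻¹ * (h * k * h⁻¹) * (h * i * h⁻¹)⁻¹ = h * (i * k * i⁻¹) * h⁻¹ by group, hinv]; group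
  · exact absurd h1 (not_infinite_iff_finite.2 inferInstance)

include hq3 hq4 T in
/-- a 3-element of `C(t)` is not inverted by an involution of `C(t)` -/
theorem three_not_inverted {y s : G} (hy : y * c.t = c.t * y) (hy3 : ∃ j : ℕ, orderOf y ∣ 3 ^ j) (hy1 : y ≠ 1)
    (hs : s * c.t = c.t * s) (hs2 : s * s = 1) (hinv : s * y * s⁻¹ = y⁻¹) : False := by
  obtain ⟨j, hj⟩ := hy3
  have hyodd : Odd (orderOf y) := Odd.of_dvd_nat (Odd.pow (by decide)) hj
  obtain ⟨k, rfl⟩ := c.mem_range_of_odd hy hyodd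
  rw [c.orderOf_ι] at hj hyodd
  have hk1 : k ≠ 1 := fun e => hy1 (by rw [e, map_one])
  obtain ⟨i, hi2, hik⟩ : ∃ i, i * i = 1 ∧ i * k * i⁻¹ = k⁻¹ := by
    rcases (c.hC s).1 hs with ⟨i, rfl⟩ | ⟨i, hi⟩
    · exact ⟨i, c.inj (by rw [map_mul, map_one]; exact hs2), c.inj (by rw [map_mul, map_mul, map_inv, hinv, map_inv])⟩
    · refine ⟨i, c.inj ?_, c.inj ?_⟩
      · rw [map_mul, map_one, hi, mul_assoc, ← mul_assoc s, hs, mul_assoc c.t s, hs2, mul_one, c.tt]
      · rw [map_mul, map_mul, map_inv, hi, show c.t * s * c.ι k * (c.t * s)⁻¹ = c.t * (s * c.ι k * s⁻¹) * c.t⁻¹ by group,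
          hinv, map_inv]
        exact mul_inv_eq_iff_eq_mul.2 ((show Commute (c.ι k) c.t from c.t_ι k).inv_left).symm
  have hi : orderOf i = 2 := orderOf_two hi2 fun e => by
    rw [e, one_mul, inv_one, mul_one] at hik
    exact sq_ne hyodd hk1 (mul_eq_one_iff_eq_inv.2 hik)
  obtain ⟨e3, f3, -, -, -⟩ := c.three_facts hq3 hq4
  have hne : ∀ {m : ℕ}, ¬ 3 ∣ m → ∀ h : P2 Fq, orderOf (h * k * h⁻¹) ∣ m → False := by
    intro m hm h hd
    rw [← MulAut.conj_apply, MulEquiv.orderOf_eq] at hd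
    exact hk1 (eq_one_of_coprime (Nat.Coprime.pow_left j (Nat.prime_three.coprime_iff_not_dvd.2 hm)) hj hd)
  obtain ⟨h, hh | hh | hh⟩ := T.cover k hyodd
  · exact hne e3 h (T.card_R ▸ Subgroup.orderOf_dvd_natCard _ hh)
  · exact hne f3 h (T.card_T ▸ Subgroup.orderOf_dvd_natCard _ hh)
  · exact c.root_not_real T hq4 hi hh hk1 hik

include hq3 hq4 in
theorem odd_cent {x : G} (hx : c.IsInv T x) : Odd (Nat.card (centralizer ({x} : Set G))) := by
  obtain ⟨hx1, hx3, hxt, -⟩ := hx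
  by_contra he
  rw [Nat.not_odd_iff_even] at he
  have hmem : ∀ z, z ∈ centralizer ({x} : Set G) ↔ z * x = x * z := fun z => mem_centralizer_singleton_iff
  set C := centralizer ({x} : Set G) with hC
  have hconj : ∀ z ∈ C, c.t * z * c.t ∈ C := fun z hz => by
    have hz' : Commute z x⁻¹ := Commute.inv_right ((hmem z).1 hz)
    rw [hmem]
    calc c.t * z * c.t * x = c.t * z * (c.t * x * c.t) * c.t := by
          rw [mul_assoc _ (c.t * x * c.t) c.t, mul_assoc (c.t * x) c.t c.t, c.tt]; group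
      _ = c.t * (x⁻¹ * z) * c.t := by rw [hxt, mul_assoc c.t z, hz'.eq]
      _ = (c.t * x⁻¹ * c.t) * (c.t * z * c.t) := by
          rw [show (c.t * x⁻¹ * c.t) * (c.t * z * c.t) = c.t * x⁻¹ * (c.t * c.t) * (z * c.t) by group, c.tt]; group
      _ = _ := by rw [← hxt, show c.t * (c.t * x * c.t) * c.t = (c.t * c.t) * x * (c.t * c.t) by group, c.tt,
            one_mul, mul_one]
  have hS : Even (Nat.card {z : C // z * z = 1}) := by
    by_contra hodd
    rw [Nat.not_even_iff_odd] at hodd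
    classical
    haveI := Fintype.ofFinite C
    haveI : Fact (Nat.Prime 2) := ⟨Nat.prime_two⟩
    let π : Equiv.Perm C := Equiv.inv C
    have h2 : π ^ 2 ^ 1 = 1 := Equiv.ext fun a => inv_inv a
    have h := Equiv.Perm.card_compl_support_modEq (p := 2) (n := 1) h2
    have hc : π.supportᶜ.card = Nat.card {z : C // z * z = 1} := by
      rw [Nat.card_eq_fintype_card, Fintype.card_subtype]
      congr 1
      ext z
      simp [π, Equiv.Perm.notMem_support, mul_eq_one_iff_inv_eq, inv_eq_iff_eq_inv]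
    rw [hc, ← Nat.card_eq_fintype_card, Nat.ModEq] at h
    rw [Nat.odd_iff] at hodd
    rw [Nat.even_iff] at he
    omega
  obtain ⟨⟨⟨s, hsC⟩, hs⟩, hs1, hfix⟩ := exists_other_fixed
    (fun z : {z : C // z * z = 1} => (⟨⟨c.t * z.1.1 * c.t, hconj _ z.1.2⟩, Subtype.ext (by
      show c.t * z.1.1 * c.t * (c.t * z.1.1 * c.t) = 1
      rw [show c.t * z.1.1 * c.t * (c.t * z.1.1 * c.t) = c.t * z.1.1 * (c.t * c.t) * z.1.1 * c.t by group, c.tt,
        mul_one, mul_assoc c.t, show (z.1.1 * z.1.1 : G) = 1 from congrArg Subtype.val z.2, mul_one, c.tt])⟩ : {z : C // z * z = 1}))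
    (fun z => Subtype.ext (Subtype.ext (by
      show c.t * (c.t * z.1.1 * c.t) * c.t = z.1.1
      rw [show c.t * (c.t * z.1.1 * c.t) * c.t = (c.t * c.t) * z.1.1 * (c.t * c.t) by group, c.tt, one_mul, mul_one])))
    hS (a₀ := ⟨1, one_mul 1⟩) (Subtype.ext (Subtype.ext (by show c.t * 1 * c.t = 1; rw [mul_one, c.tt])))
  have hs' : s ≠ 1 := fun e => hs1 (Subtype.ext (Subtype.ext e))
  have hss : s * s = 1 := congrArg Subtype.val hs
  have hst : c.t * s = s * c.t := by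
    have e : c.t * s * c.t = s := congrArg (fun z : {z : C // z * z = 1} => z.1.1) hfix
    nth_rewrite 2 [← e]
    rw [mul_assoc _ c.t c.t, c.tt, mul_one]
  obtain ⟨g, hg⟩ := isConj_iff.1 (c.one_class s (orderOf_two hss hs'))
  refine c.three_not_inverted T hq3 hq4 (y := g⁻¹ * x * g) (s := g⁻¹ * c.t * g) ?_ ?_ ?_ ?_ ?_ ?_
  · calc g⁻¹ * x * g * c.t = g⁻¹ * (x * (g * c.t * g⁻¹)) * g := by group
      _ = g⁻¹ * ((g * c.t * g⁻¹) * x) * g := by rw [hg, ← (hmem s).1 hsC]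
      _ = _ := by group
  · obtain ⟨j, hj⟩ := hx3
    exact ⟨j, by rw [show g⁻¹ * x * g = MulAut.conj g⁻¹ x by simp, MulEquiv.orderOf_eq]; exact hj⟩
  · intro e
    exact hx1 (by rw [show x = g * (g⁻¹ * x * g) * g⁻¹ by group, e]; group)
  · calc g⁻¹ * c.t * g * c.t = g⁻¹ * (c.t * (g * c.t * g⁻¹)) * g := by group
      _ = g⁻¹ * ((g * c.t * g⁻¹) * c.t) * g := by rw [hg, hst]
      _ = _ := by group
  · rw [show g⁻¹ * c.t * g * (g⁻¹ * c.t * g) = g⁻¹ * (c.t * c.t) * g by group, c.tt]; group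
  · rw [show g⁻¹ * c.t * g * (g⁻¹ * x * g) * (g⁻¹ * c.t * g)⁻¹ = g⁻¹ * (c.t * x * c.t⁻¹) * g by group,
      inv_eq_of_mul_eq_one_right c.tt, hxt]
    group

/-- `C_K(x)` -/
def AK (x : G) : Subgroup (P2 Fq) := (centralizer ({x} : Set G)).comap c.ι

include hq3 hq4 in
theorem AK_odd {x : G} (hx : c.IsInv T x) : Odd (Nat.card (c.AK x)) :=
  (c.odd_cent T hq3 hq4 hx).of_dvd_nat (Subgroup.card_comap_dvd_of_injective _ _ c.inj)

theorem U_le_AK {x : G} (hx : c.IsInv T x) : T.U ≤ c.AK x := fun u hu =>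
  mem_centralizer_singleton_iff.2 (hx.2.2.2 u hu).symm

/-- the root groups are trivial intersection sets -/
theorem root_TI {u : P2 Fq} {g : P2 Fq} (hu : u ∈ T.U) (hu1 : u ≠ 1) (hg : g * u * g⁻¹ ∈ T.U) :
    g ∈ normalizer (T.U : Set (P2 Fq)) := by
  have hgu1 : g * u * g⁻¹ ≠ 1 := fun e => hu1 (conj_eq_one_iff.1 e)
  rw [mem_normalizer_iff]
  intro z
  constructor
  · intro hz
    refine (T.cent_U _ hg hgu1 _).1 ?_
    rw [conj_mul, conj_mul, T.U_comm z hz u hu]
  · intro hz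
    refine (T.cent_U u hu hu1 z).1 ?_
    have h := T.U_comm _ hz _ hg
    rw [conj_mul, conj_mul] at h
    exact mul_left_cancel (mul_right_cancel h)

/-- `|N_K(U)| = q (q - 1) / 2` -/
theorem card_normalizer_U :
    2 * Nat.card (normalizer (T.U : Set (P2 Fq))) = c.q * (c.q - 1) := by
  classical
  set N := normalizer (T.U : Set (P2 Fq)) with hN
  let f : N → {u : T.U // IsConj T.plus (u : P2 Fq)} := fun g =>
    ⟨⟨g.1 * T.plus * g.1⁻¹, (mem_normalizer_iff.1 g.2 _).1 T.plus_mem⟩, isConj_iff.2 ⟨g.1, rfl⟩⟩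
  have hfib : ∀ b, Nat.card {g : N // f g = b} = Nat.card T.U := by
    rintro ⟨⟨u, hu⟩, hconj⟩
    obtain ⟨g₀, hg₀⟩ := isConj_iff.1 hconj
    have hg₀N : g₀ ∈ N := c.root_TI T T.plus_mem T.plus_ne (by rw [hg₀]; exact hu)
    refine Nat.card_congr
      { toFun := fun g => ⟨g₀⁻¹ * g.1.1, ?_⟩
        invFun := fun z => ⟨⟨g₀ * z.1, N.mul_mem hg₀N (Subgroup.le_normalizer z.2)⟩, ?_⟩
        left_inv := fun g => Subtype.ext (Subtype.ext (mul_inv_cancel_left _ _))
        right_inv := fun z => Subtype.ext (inv_mul_cancel_left _ _) }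
    · have hg : g.1.1 * T.plus * g.1.1⁻¹ = u := congrArg (fun b : {u : T.U // IsConj T.plus (u : P2 Fq)} => b.1.1) g.2
      refine (T.cent_U _ T.plus_mem T.plus_ne _).1 ?_
      rw [← mul_inv_eq_iff_eq_mul, mul_inv_rev, inv_inv,
        show g₀⁻¹ * g.1.1 * T.plus * (g.1.1⁻¹ * g₀) = g₀⁻¹ * (g.1.1 * T.plus * g.1.1⁻¹) * g₀ by group, hg,
        ← (show g₀ * T.plus * g₀⁻¹ = u from hg₀)]
      group
    · refine Subtype.ext (Subtype.ext ?_)
      show g₀ * z.1 * T.plus * (g₀ * z.1)⁻¹ = u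
      rw [show g₀ * z.1 * T.plus * (g₀ * z.1)⁻¹ = g₀ * (z.1 * T.plus * z.1⁻¹) * g₀⁻¹ by group,
        (T.cent_U _ T.plus_mem T.plus_ne z.1).2 z.2, mul_inv_cancel_right, hg₀]
  rw [← Nat.card_congr (Equiv.sigmaFiberEquiv f), Nat.card_sigma]
  simp only [hfib, Finset.sum_const, Finset.card_univ, smul_eq_mul, T.card_U, ← Nat.card_eq_fintype_card]
  have h := T.card_plus
  rw [show c.q = Fintype.card Fq from rfl, Nat.card_eq_fintype_card (α := Fq)]
  rw [show Fintype.card Fq - 1 = 2 * Nat.card {u : T.U // IsConj T.plus (u : P2 Fq)} by omega]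
  ring

/-- `U` acts semiregularly on the other root groups -/
theorem root_stab {u g : P2 Fq} (hq3 : c.q = 3 ^ n) (hu : u ∈ T.U)
    (hnorm : ∀ z ∈ T.U, u * (g * z * g⁻¹) * u⁻¹ ∈ T.U.map (MulAut.conj g).toMonoidHom)
    (hg : g ∉ normalizer (T.U : Set (P2 Fq))) : u = 1 := by
  classical
  haveI : Fact (Nat.Prime 3) := ⟨Nat.prime_three⟩
  by_contra hu1
  have hmapmem : ∀ {w}, w ∈ T.U.map (MulAut.conj g).toMonoidHom ↔ g⁻¹ * w * g ∈ T.U := by
    intro w
    constructor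
    · rintro ⟨z, hz, rfl⟩
      rwa [show g⁻¹ * (MulAut.conj g).toMonoidHom z * g = z by simp [mul_assoc]]
    · intro h
      exact ⟨_, h, by simp [mul_assoc]⟩
  let v := g⁻¹ * u * g
  have hv : ∀ z ∈ T.U, v * z * v⁻¹ ∈ T.U := fun z hz => by
    have := hmapmem.1 (hnorm z hz)
    rwa [show g⁻¹ * (u * (g * z * g⁻¹) * u⁻¹) * g = v * z * v⁻¹ by simp only [v]; group] at this
  have hvN : v ∈ normalizer (T.U : Set (P2 Fq)) := c.root_TI T T.plus_mem T.plus_ne (hv _ T.plus_mem)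
  have hv3 : IsPGroup 3 (zpowers v) := fun y => by
    obtain ⟨y, j, rfl⟩ := y
    refine ⟨n, Subtype.ext ?_⟩
    show (v ^ j) ^ 3 ^ n = 1
    have : v ^ 3 ^ n = 1 := by
      rw [show v = MulAut.conj g⁻¹ u by simp [v], ← map_pow,
        show u ^ 3 ^ n = 1 by
          rw [← orderOf_dvd_iff_pow_eq_one, ← hq3, show c.q = Nat.card T.U from T.card_U.symm]
          exact Subgroup.orderOf_dvd_natCard _ hu, map_one]
    rw [← zpow_natCast, ← zpow_mul, mul_comm, zpow_mul, zpow_natCast, this, one_zpow]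
  have hX : IsPGroup 3 (zpowers v ⊔ T.U : Subgroup (P2 Fq)) :=
    hv3.to_sup_of_normal_right' (c.U_isPGroup T hq3) (zpowers_le.2 hvN)
  set X := (zpowers v ⊔ T.U : Subgroup (P2 Fq)) with hXdef
  have hXN : X ≤ normalizer (T.U : Set (P2 Fq)) := sup_le (zpowers_le.2 hvN) Subgroup.le_normalizer
  haveI : (T.U.subgroupOf X).Normal := normal_subgroupOf_of_le_normalizer hXN
  have hne : T.U.subgroupOf X ≠ ⊥ := fun e => T.plus_ne (by
    have hm : (⟨T.plus, mem_sup_right T.plus_mem⟩ : X) ∈ T.U.subgroupOf X := mem_subgroupOf.2 T.plus_mem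
    rw [e, mem_bot] at hm
    exact congrArg Subtype.val hm)
  haveI : Finite X := Subtype.finite
  obtain ⟨⟨z, hzU, hzc⟩, hz1⟩ :=
    Subgroup.ne_bot_iff_exists_ne_one.1 (CfsgLib.PGroups.inf_center_ne_bot hX hne)
  have hz1' : (z : P2 Fq) ≠ 1 := fun e => hz1 (Subtype.ext (Subtype.ext e))
  have hvU : v ∈ T.U := (T.cent_U _ (mem_subgroupOf.1 hzU) hz1' v).1
    (congrArg Subtype.val (Subgroup.mem_center_iff.1 hzc ⟨v, mem_sup_left (mem_zpowers v)⟩))
  refine hg (c.root_TI T (u := v) hvU (fun e => hu1 ?_) ?_)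
  · rw [show u = g * v * g⁻¹ by simp only [v]; group, e]; group
  · rw [show g * v * g⁻¹ = u by simp only [v]; group]; exact hu

/-- an odd subgroup of `K` containing `U` normalises it -/
theorem odd_le_normalizer (hq3 : c.q = 3 ^ n) (hq4 : c.q % 4 = 3) {A : Subgroup (P2 Fq)} (hA : Odd (Nat.card A))
    (hUA : T.U ≤ A) : A ≤ normalizer (T.U : Set (P2 Fq)) := by
  classical
  obtain ⟨-, -, -, he4, hf2⟩ := c.three_facts hq3 hq4
  intro a ha
  by_contra hna
  set N := normalizer (T.U : Set (P2 Fq)) with hN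
  -- the index of the normaliser
  have hidx : N.index = c.q + 1 := by
    have h1 := N.card_mul_index
    rw [c.card_P2] at h1
    have h2 := c.card_normalizer_U T
    rw [← hN, hf2, show 2 * c.f + 1 - 1 = 2 * c.f by omega] at h2
    have h3 : Nat.card N = c.q * c.f := by
      have : 2 * Nat.card N = 2 * (c.q * c.f) := by rw [h2, ← hf2]; ring
      omega
    rw [h3, show 4 * c.e * c.f * c.q = c.q * c.f * (4 * c.e) by ring, ← he4] at h1
    exact Nat.eq_of_mul_eq_mul_left (Nat.mul_pos c.q_odd.pos c.f_odd.pos) h1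
  -- all cosets of the normaliser meet `A`
  let o : P2 Fq ⧸ N := QuotientGroup.mk 1
  let f : Option T.U → P2 Fq ⧸ N := fun u => u.elim o fun u => QuotientGroup.mk ((u : P2 Fq) * a)
  have hfinj : Function.Injective f := by
    have ho : ∀ u : T.U, QuotientGroup.mk ((u : P2 Fq) * a) ≠ o := fun u e => hna (by
      have := QuotientGroup.eq.1 e.symm
      rw [inv_one, one_mul] at this
      exact (N.mul_mem_cancel_left (Subgroup.le_normalizer u.2)).1 this)
    rintro (_ | u) (_ | v) e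
    · rfl
    · exact absurd e.symm (ho v)
    · exact absurd e (ho u)
    · have hm : a⁻¹ * ((u : P2 Fq)⁻¹ * v) * a ∈ N := by
        have := QuotientGroup.eq.1 (show QuotientGroup.mk ((u : P2 Fq) * a) = QuotientGroup.mk ((v : P2 Fq) * a) from e)
        rwa [show ((u : P2 Fq) * a)⁻¹ * ((v : P2 Fq) * a) = a⁻¹ * ((u : P2 Fq)⁻¹ * v) * a by group] at this
      have h1 : (u : P2 Fq)⁻¹ * v = 1 := c.root_stab T hq3 (T.U.mul_mem (T.U.inv_mem u.2) v.2)
        (g := a) (fun z hz => by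
          refine ⟨_, (mem_normalizer_iff.1 hm z).1 hz, ?_⟩
          simp only [MulEquiv.coe_toMonoidHom, MulAut.conj_apply]
          group) hna
      exact congrArg some (Subtype.ext (inv_mul_eq_one.1 h1))
  have hsurj : Function.Surjective f := by
    haveI := Fintype.ofFinite T.U
    haveI := Fintype.ofFinite (P2 Fq ⧸ N)
    refine ((Fintype.bijective_iff_injective_and_card f).2 ⟨hfinj, ?_⟩).2
    rw [Fintype.card_option, ← Nat.card_eq_fintype_card, ← Nat.card_eq_fintype_card, T.card_U]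
    exact hidx.symm
  -- hence `A` contains every root group
  have hall : Subgroup.normalClosure (T.U : Set (P2 Fq)) ≤ A := by
    refine (Subgroup.closure_le _).2 fun y hy => ?_
    obtain ⟨z, hz, hzy⟩ := Group.mem_conjugatesOfSet_iff.1 hy
    obtain ⟨g, rfl⟩ := isConj_iff.1 hzy
    obtain ⟨u, hu⟩ := hsurj (QuotientGroup.mk g)
    have key : ∀ b ∈ A, QuotientGroup.mk b = (QuotientGroup.mk g : P2 Fq ⧸ N) → g * z * g⁻¹ ∈ A := by
      intro b hb e
      have hm := QuotientGroup.eq.1 e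
      have h1 := hUA ((mem_normalizer_iff.1 hm z).1 hz)
      have h2 := A.mul_mem (A.mul_mem hb h1) (A.inv_mem hb)
      rwa [show b * (b⁻¹ * g * z * (b⁻¹ * g)⁻¹) * b⁻¹ = g * z * g⁻¹ by group] at h2
    rcases u with _ | u
    · exact key 1 A.one_mem hu
    · exact key _ (A.mul_mem (hUA u.2) ha) hu
  haveI := CfsgLib.Classical.isSimpleGroup_PSL_two (F := Fq) (by have := c.hbig; omega)
  have htop : Subgroup.normalClosure (T.U : Set (P2 Fq)) = ⊤ :=
    (Subgroup.normalClosure_normal.eq_bot_or_eq_top).resolve_left fun e => T.plus_ne (by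
      have := Subgroup.subset_normalClosure T.plus_mem
      rw [e] at this
      exact mem_bot.1 this)
  rw [htop, top_le_iff] at hall
  rw [hall, Subgroup.card_top, c.card_P2] at hA
  exact Nat.not_even_iff_odd.2 hA ⟨2 * c.e * c.f * c.q, by ring⟩

include hq3 hq4 in
/-- the conjugates of `x` in the inverted part -/
theorem orbit_le {x : G} (hx : c.IsInv T x) :
    Nat.card {x' : G // c.IsInv T x' ∧ IsConj x x'} * Nat.card (c.AK x) ≤ c.q * (c.q - 1) := by
  classical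
  set N := normalizer (T.U : Set (P2 Fq)) with hN
  have key : ∀ x' : {x' : G // c.IsInv T x' ∧ IsConj x x'}, ∃ b : Bool × N,
      c.ι b.2 * x * (c.ι b.2)⁻¹ = bif b.1 then (x' : G)⁻¹ else x' := by
    rintro ⟨x', hx', hc⟩
    obtain ⟨g, hg⟩ := isConj_iff.1 hc
    have hCodd := c.odd_cent T hq3 hq4 hx'
    set s := g * c.t * g⁻¹ with hs
    have hss : s * s = 1 := by rw [hs, conj_mul, c.tt]; group
    have hsx : s * x' * s = x'⁻¹ := by
      rw [← hg, hs, show g * c.t * g⁻¹ * (g * x * g⁻¹) * (g * c.t * g⁻¹) = g * (c.t * x * c.t) * g⁻¹ by group,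
        hx.2.2.1]
      group
    set d := s * c.t with hd
    have hdC : d ∈ centralizer ({x'} : Set G) := by
      rw [mem_centralizer_singleton_iff]
      have ht' : c.t * x' = x'⁻¹ * c.t := by rw [← hx'.2.2.1, mul_assoc _ c.t c.t, c.tt, mul_one]
      have hs' : s * x'⁻¹ = x' * s := by
        rw [← hsx, show s * (s * x' * s) = (s * s) * (x' * s) by group, hss, one_mul]
      rw [hd, mul_assoc, ht', ← mul_assoc, hs', mul_assoc]
    obtain ⟨j, hj⟩ : Odd (orderOf d) := hCodd.of_dvd_nat (Subgroup.orderOf_dvd_natCard _ hdC)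
    set b := d ^ (j + 1) with hb
    have hb2 : b * b = d := by
      rw [hb, ← pow_add, show j + 1 + (j + 1) = orderOf d + 1 by omega, pow_succ, pow_orderOf_eq_one, one_mul]
    have htd : c.t * d * c.t⁻¹ = d⁻¹ := by
      rw [hd, mul_inv_rev, inv_eq_of_mul_eq_one_right c.tt, inv_eq_of_mul_eq_one_right hss,
        show c.t * (s * c.t) * c.t = c.t * s * (c.t * c.t) by group, c.tt, mul_one]
    have htb : c.t * b * c.t⁻¹ = b⁻¹ := by rw [hb, ← conj_pow, htd, inv_pow]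
    have hbs : b * c.t * b⁻¹ = s := by
      rw [← htb, show b * c.t * (c.t * b * c.t⁻¹) = b * (c.t * c.t) * b * c.t⁻¹ by group, c.tt, mul_one, hb2,
        hd, mul_inv_cancel_right]
    have hbC : b ∈ centralizer ({x'} : Set G) := Subgroup.pow_mem _ hdC _
    have hcomm : b⁻¹ * g * c.t = c.t * (b⁻¹ * g) :=
      calc b⁻¹ * g * c.t = b⁻¹ * s * g := by rw [hs]; group
        _ = _ := by rw [← hbs]; group
    have hbx : b⁻¹ * x' * b = x' := by
      rw [mul_assoc, ← mem_centralizer_singleton_iff.1 hbC, inv_mul_cancel_left]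
    have hconj : b⁻¹ * g * x * (b⁻¹ * g)⁻¹ = x' := by
      rw [show b⁻¹ * g * x * (b⁻¹ * g)⁻¹ = b⁻¹ * (g * x * g⁻¹) * b by group, hg, hbx]
    obtain ⟨k, bb, hk⟩ : ∃ (k : P2 Fq) (bb : Bool), c.ι k * x * (c.ι k)⁻¹ = bif bb then x'⁻¹ else x' := by
      rcases (c.hC _).1 hcomm with ⟨k, hk⟩ | ⟨k, hk⟩
      · exact ⟨k, false, by rw [hk]; exact hconj⟩
      · refine ⟨k, true, ?_⟩
        rw [hk, show c.t * (b⁻¹ * g) * x * (c.t * (b⁻¹ * g))⁻¹ = c.t * (b⁻¹ * g * x * (b⁻¹ * g)⁻¹) * c.t⁻¹ by group,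
          hconj, inv_eq_of_mul_eq_one_right c.tt]
        exact hx'.2.2.1
    have hUk : k ∈ N := by
      refine c.root_TI T T.plus_mem T.plus_ne ?_
      have h1 : k * T.plus * k⁻¹ ∈ c.AK x' := by
        show c.ι (k * T.plus * k⁻¹) ∈ centralizer ({x'} : Set G)
        rw [mem_centralizer_singleton_iff]
        have h2 : Commute (c.ι (k * T.plus * k⁻¹)) (c.ι k * x * (c.ι k)⁻¹) := by
          show _ * _ = _ * _
          rw [map_mul, map_mul, map_inv, conj_mul, conj_mul, hx.2.2.2 _ T.plus_mem]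
        rw [hk] at h2
        cases bb <;> simp only [cond_true, cond_false] at h2
        · exact h2.eq
        · exact (inv_inv x' ▸ h2.inv_right).eq
      have hN' := c.odd_le_normalizer T hq3 hq4 (c.AK_odd T hq3 hq4 hx') (c.U_le_AK T hx') h1
      haveI : Fact (Nat.Prime 3) := ⟨Nat.prime_three⟩
      set v := k * T.plus * k⁻¹ with hv
      have hv3 : IsPGroup 3 (zpowers v) := fun y => by
        obtain ⟨y, i, rfl⟩ := y
        refine ⟨n, Subtype.ext ?_⟩
        show (v ^ i) ^ 3 ^ n = 1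
        have : v ^ 3 ^ n = 1 := by
          rw [hv, conj_pow, show T.plus ^ 3 ^ n = 1 by
            rw [← orderOf_dvd_iff_pow_eq_one, ← hq3, show c.q = Nat.card T.U from T.card_U.symm]
            exact Subgroup.orderOf_dvd_natCard _ T.plus_mem]
          group
        rw [← zpow_natCast, ← zpow_mul, mul_comm, zpow_mul, zpow_natCast, this, one_zpow]
      have hX : IsPGroup 3 (zpowers v ⊔ T.U : Subgroup (P2 Fq)) :=
        hv3.to_sup_of_normal_right' (c.U_isPGroup T hq3) (zpowers_le.2 hN')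
      obtain ⟨i, hi⟩ := hX.exists_card_eq
      have hle : Nat.card (zpowers v ⊔ T.U : Subgroup (P2 Fq)) ∣ 2 * Nat.card N :=
        (Subgroup.card_dvd_of_le (sup_le (zpowers_le.2 hN') Subgroup.le_normalizer)).mul_left 2
      rw [c.card_normalizer_U T, hi, hq3] at hle
      obtain ⟨-, -, -, -, hf2⟩ := c.three_facts hq3 hq4
      have h3f : Nat.Coprime (3 ^ i) (3 ^ n - 1) := Nat.Coprime.pow_left i
        (Nat.prime_three.coprime_iff_not_dvd.2 (by
          have := (c.three_facts hq3 hq4).2.1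
          rw [← hq3, hf2]; omega))
      have hin : 3 ^ i ∣ 3 ^ n := h3f.dvd_of_dvd_mul_right hle
      have heq : (zpowers v ⊔ T.U : Subgroup (P2 Fq)) = T.U := by
        refine (Subgroup.eq_of_le_of_card_ge le_sup_right ?_).symm
        rw [hi, T.card_U, show Fintype.card Fq = c.q from rfl, hq3]
        exact Nat.le_of_dvd (pow_pos (by norm_num) n) hin
      rw [← heq]
      exact mem_sup_left (mem_zpowers v)
    exact ⟨(bb, ⟨k, hUk⟩), hk⟩
  choose b hb using key
  have hA : ∀ α ∈ c.AK x, α ∈ N := c.odd_le_normalizer T hq3 hq4 (c.AK_odd T hq3 hq4 hx) (c.U_le_AK T hx)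
  let F : {x' : G // c.IsInv T x' ∧ IsConj x x'} × c.AK x → Bool × N := fun a =>
    ((b a.1).1, (b a.1).2 * ⟨a.2.1, hA _ a.2.2⟩)
  have hF : Function.Injective F := by
    rintro ⟨x1, ⟨α, hα⟩⟩ ⟨x2, ⟨β, hβ⟩⟩ e
    obtain ⟨e1, e2'⟩ := Prod.ext_iff.1 e
    have e2 : ((b x1).2 : P2 Fq) * α = (b x2).2 * β := congrArg Subtype.val e2'
    have h1 : ∀ (k α : P2 Fq), α ∈ c.AK x → c.ι (k * α) * x * (c.ι (k * α))⁻¹ = c.ι k * x * (c.ι k)⁻¹ := by
      intro k α hα
      have h2 : c.ι α * x * (c.ι α)⁻¹ = x := mul_inv_eq_iff_eq_mul.2 (mem_centralizer_singleton_iff.1 hα)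
      rw [map_mul, show c.ι k * c.ι α * x * (c.ι k * c.ι α)⁻¹ = c.ι k * (c.ι α * x * (c.ι α)⁻¹) * (c.ι k)⁻¹ by group, h2]
    have h3 := (h1 (b x1).2 α hα).trans (hb x1)
    rw [e2, h1 _ _ hβ, hb x2, show (b x1).1 = (b x2).1 from e1] at h3
    have hx12 : x1 = x2 := by
      refine Subtype.ext ?_
      cases h : (b x2).1 <;> simp only [h, cond_true, cond_false] at h3
      · exact h3.symm
      · exact (inv_inj.1 h3).symm
    subst hx12
    exact Prod.ext rfl (Subtype.ext (mul_left_cancel e2))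
  have h := Nat.card_le_card_of_injective F hF
  rw [Nat.card_prod, Nat.card_prod, Nat.card_eq_fintype_card (α := Bool), Fintype.card_bool,
    c.card_normalizer_U T] at h
  exact h

include hq3 hq4 in
/-- `|C(x)| = a(x) |C_K(x)|` -/
theorem pairs_mul_AK {x : G} (hx : c.IsInv T x) :
    c.pairs x * Nat.card (c.AK x) = Nat.card (centralizer ({x} : Set G)) := by
  classical
  have hCodd := c.odd_cent T hq3 hq4 hx
  set C := centralizer ({x} : Set G) with hC
  have hxx : x * x ≠ 1 := fun e => hx.1 (by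
    obtain ⟨j, hj⟩ := hx.2.1
    exact eq_one_of_coprime (Nat.Coprime.pow_left j (show Nat.Coprime 3 2 by norm_num)) hj
      (orderOf_dvd_of_pow_eq_one (by rw [pow_two, e])))
  have htx : c.t * x * c.t⁻¹ = x⁻¹ := by rw [inv_eq_of_mul_eq_one_right c.tt]; exact hx.2.2.1
  let f : C → {i : G // orderOf i = 2 ∧ orderOf (i⁻¹ * x⁻¹) = 2} := fun b =>
    ⟨(b : G) * c.t * (b : G)⁻¹, by
      have h2 : orderOf ((b : G) * c.t * (b : G)⁻¹) = 2 := by
        rw [← MulAut.conj_apply, MulEquiv.orderOf_eq]; exact c.ht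
      refine ⟨h2, (pair_iff h2 hxx).2 ?_⟩
      have hb := mem_centralizer_singleton_iff.1 b.2
      have hb' : (b : G) * x⁻¹ * (b : G)⁻¹ = x⁻¹ := by
        rw [← conj_inv, show (b : G) * x * (b : G)⁻¹ = x from mul_inv_eq_iff_eq_mul.2 hb]
      rw [show (b : G) * c.t * (b : G)⁻¹ * x * ((b : G) * c.t * (b : G)⁻¹)⁻¹ =
        (b : G) * (c.t * ((b : G)⁻¹ * (x * b)) * c.t⁻¹) * (b : G)⁻¹ by group, ← hb, inv_mul_cancel_left, htx, hb']⟩
  have hfib : ∀ i, Nat.card {b : C // f b = i} = Nat.card (c.AK x) := by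
    rintro ⟨i, hi2, hi⟩
    have hinv := (pair_iff hi2 hxx).1 hi
    set d := i * c.t with hd
    have hdC : d ∈ C := by
      rw [hC, mem_centralizer_singleton_iff, ← mul_inv_eq_iff_eq_mul, hd,
        show i * c.t * x * (i * c.t)⁻¹ = i * (c.t * x * c.t⁻¹) * i⁻¹ by group, htx, ← conj_inv, hinv, inv_inv]
    obtain ⟨j, hj⟩ : Odd (orderOf d) := hCodd.of_dvd_nat (Subgroup.orderOf_dvd_natCard _ hdC)
    set b := d ^ (j + 1) with hb
    have hb2 : b * b = d := by
      rw [hb, ← pow_add, show j + 1 + (j + 1) = orderOf d + 1 by omega, pow_succ, pow_orderOf_eq_one, one_mul]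
    have htd : c.t * d * c.t⁻¹ = d⁻¹ := by
      rw [hd, mul_inv_rev, inv_eq_of_mul_eq_one_right c.tt, inv_of_two hi2,
        show c.t * (i * c.t) * c.t = c.t * i * (c.t * c.t) by group, c.tt, mul_one]
    have htb : c.t * b * c.t⁻¹ = b⁻¹ := by rw [hb, ← conj_pow, htd, inv_pow]
    have hbs : b * c.t * b⁻¹ = i := by
      rw [← htb, show b * c.t * (c.t * b * c.t⁻¹) = b * (c.t * c.t) * b * c.t⁻¹ by group, c.tt, mul_one, hb2,
        hd, mul_inv_cancel_right]
    have hbC : b ∈ C := pow_mem hdC _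
    refine Nat.card_congr (Equiv.symm (Equiv.ofBijective (fun a : c.AK x => (⟨⟨b * c.ι a.1, mul_mem hbC a.2⟩,
      Subtype.ext ?_⟩ : {b' : C // f b' = ⟨i, hi2, hi⟩})) ⟨?_, ?_⟩))
    · show b * c.ι a.1 * c.t * (b * c.ι a.1)⁻¹ = i
      rw [show b * c.ι a.1 * c.t * (b * c.ι a.1)⁻¹ = b * (c.ι a.1 * c.t) * (c.ι a.1)⁻¹ * b⁻¹ by group, c.t_ι]
      rw [show b * (c.t * c.ι a.1) * (c.ι a.1)⁻¹ * b⁻¹ = b * c.t * b⁻¹ by group, hbs]
    · intro a a' e
      exact Subtype.ext (c.inj (mul_left_cancel (congrArg (fun z : {b' : C // f b' = ⟨i, hi2, hi⟩} => z.1.1) e)))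
    · rintro ⟨⟨b', hb'⟩, hfb⟩
      have e : b' * c.t * b'⁻¹ = i :=
        congrArg (fun z : {i : G // orderOf i = 2 ∧ orderOf (i⁻¹ * x⁻¹) = 2} => z.1) hfb
      have hcm : b⁻¹ * b' * c.t = c.t * (b⁻¹ * b') := by
        calc b⁻¹ * b' * c.t = b⁻¹ * (b' * c.t * b'⁻¹) * b' := by group
          _ = _ := by rw [e, ← hbs]; group
      have hC' : b⁻¹ * b' ∈ C := mul_mem (inv_mem hbC) hb'
      obtain ⟨k, hk⟩ := c.mem_range_of_odd hcm (hCodd.of_dvd_nat (Subgroup.orderOf_dvd_natCard _ hC'))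
      refine ⟨⟨k, show c.ι k ∈ C by rw [hk]; exact hC'⟩, Subtype.ext (Subtype.ext ?_)⟩
      show b * c.ι k = b'
      rw [hk, mul_inv_cancel_left]
  haveI := Fintype.ofFinite {i : G // orderOf i = 2 ∧ orderOf (i⁻¹ * x⁻¹) = 2}
  rw [← Nat.card_congr (Equiv.sigmaFiberEquiv f), Nat.card_sigma, Finset.sum_const_nat fun i _ => hfib i,
    Finset.card_univ, pairs, ← Nat.card_eq_fintype_card]

include hq3 hq4 in
theorem pairs_dvd {x : G} (hx : c.IsInv T x) (h : c.q ^ 3 ∣ Nat.card (centralizer ({x} : Set G))) :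
    c.q ^ 2 ∣ c.pairs x := by
  have hA : Nat.card (c.AK x) ∣ c.q * c.f := by
    have h1 := mul_dvd_mul_left 2 (Subgroup.card_dvd_of_le (c.odd_le_normalizer T hq3 hq4 (c.AK_odd T hq3 hq4 hx) (c.U_le_AK T hx)))
    rw [c.card_normalizer_U T, show c.q - 1 = 2 * c.f by have := (c.three_facts hq3 hq4).2.2.2.2; omega,
      show c.q * (2 * c.f) = 2 * (c.q * c.f) by ring] at h1
    exact Nat.dvd_of_mul_dvd_mul_left two_pos h1
  have h2 : c.q ^ 3 ∣ c.pairs x * c.f * c.q := by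
    rw [← c.pairs_mul_AK T hq3 hq4 hx] at h
    exact h.trans ((mul_dvd_mul_left (c.pairs x) hA).trans (dvd_of_eq (by ring)))
  rw [show c.q ^ 3 = c.q ^ 2 * c.q by ring] at h2
  refine (Nat.Coprime.dvd_of_dvd_mul_right ?_ (Nat.dvd_of_mul_dvd_mul_right c.q_odd.pos h2))
  exact Nat.Coprime.pow_left 2 (hq3 ▸ Nat.Coprime.pow_left n
    (Nat.prime_three.coprime_iff_not_dvd.2 (c.three_facts hq3 hq4).2.1))

include hq3 hq4 in
/-- the inverted part of a Sylow 3-subgroup through `U` -/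
theorem exists_inv_part (hab3 : ∀ P : Sylow 3 G, IsMulCommutative (P : Subgroup G))
    (hcard : Nat.card G = c.q ^ 3 * (c.q ^ 3 + 1) * (c.q - 1)) :
    ∃ I : Finset G, I.card + 1 = c.q ^ 2 ∧
      ∀ x ∈ I, c.IsInv T x ∧ c.q ^ 3 ∣ Nat.card (centralizer ({x} : Set G)) := by
  classical
  haveI : Fact (Nat.Prime 3) := ⟨Nat.prime_three⟩
  haveI := Fintype.ofFinite G
  obtain ⟨-, hf3, -, -, hf2⟩ := c.three_facts hq3 hq4
  have hS : ∀ P : Sylow 3 G, Nat.card (P : Subgroup G) = c.q ^ 3 := by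
    intro P
    rw [P.card_eq_multiplicity, hcard, hq3, ← pow_mul]
    have hr : ¬ 3 ∣ (3 ^ (n * 3) + 1) * (3 ^ n - 1) := by
      have h0 := c.n_pos' hq4 hq3
      have h1 : 3 ∣ 3 ^ n := dvd_pow_self 3 h0.ne'
      have h2 : 3 ∣ 3 ^ (n * 3) := dvd_pow_self 3 (by omega)
      have h3 : 1 ≤ 3 ^ n := Nat.one_le_pow _ _ (by norm_num)
      intro h
      rcases (Nat.Prime.dvd_mul Nat.prime_three).1 h with h | h <;> omega
    rw [mul_assoc, Nat.factorization_mul (by positivity) (fun e => hr (by rw [e]; exact dvd_zero 3)),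
      Finsupp.add_apply, Nat.Prime.factorization_pow Nat.prime_three, Finsupp.single_eq_same,
      Nat.factorization_eq_zero_of_not_dvd hr, add_zero]
  set u := c.ι T.plus with hu
  set H := centralizer ({u} : Set G) with hH
  have htH : c.t ∈ H := mem_centralizer_singleton_iff.2 (c.t_ι T.plus).symm
  obtain ⟨M, hMH, hModd, hMn, -, hMmem⟩ := c.split_odd htH fun k hk =>
    T.odd_orderOf_U c.q_odd (c.cent_root T T.plus_mem T.plus_ne hk)
  set U' := T.U.map c.ι with hU'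
  have hU'p : IsPGroup 3 U' := (c.U_isPGroup T hq3).map _
  have hUM : U' ≤ M := by
    rintro _ ⟨v, hv, rfl⟩
    refine hMmem _ (mem_centralizer_singleton_iff.2 ?_) (by rw [c.orderOf_ι]; exact T.odd_orderOf_U c.q_odd hv)
    rw [hu, ← map_mul, ← map_mul, T.U_comm v hv _ T.plus_mem]
  have htM : zpowers c.t ≤ normalizer (M : Set G) := zpowers_le.2 (hMn htH)
  obtain ⟨P0, hUP, hPt⟩ := CfsgLib.Core.exists_invariant_sylow_ge (p := 3) htM
    (by rw [Nat.card_zpowers, c.ht]; exact Nat.coprime_two_left.2 hModd)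
    (Or.inl (Group.isSolvable_of_comm fun a b => (IsMulCommutative.is_comm.comm a b : a * b = b * a)))
    hUM hU'p (zpowers_le.2 (by
      rw [mem_normalizer_iff]
      intro z
      have e : ∀ w ∈ U', c.t * w * c.t⁻¹ = w := by
        rintro _ ⟨v, -, rfl⟩
        exact mul_inv_eq_iff_eq_mul.2 (c.t_ι v).symm
      constructor
      · intro hz; rwa [e z hz]
      · intro hz
        have h := mul_left_cancel (mul_right_cancel (e _ hz))
        rwa [h] at hz))
  set P := (P0 : Subgroup M).map M.subtype with hP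
  have hPp : IsPGroup 3 P := P0.isPGroup'.map _
  obtain ⟨Q, hQ⟩ := hPp.exists_le_sylow
  have hQc := hab3 Q
  have hPcomm : ∀ a ∈ P, ∀ b ∈ P, a * b = b * a := fun a ha b hb =>
    congrArg Subtype.val (hQc.is_comm.comm ⟨a, hQ ha⟩ ⟨b, hQ hb⟩)
  have hQM : (Q : Subgroup G) ≤ M := fun z hz => by
    refine hMmem z (mem_centralizer_singleton_iff.2 ?_) ?_
    · exact congrArg Subtype.val (hQc.is_comm.comm ⟨z, hz⟩ ⟨u, hQ (hUP ⟨T.plus, T.plus_mem, rfl⟩)⟩)
    · have h := Subgroup.orderOf_dvd_natCard _ hz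
      rw [hS Q, hq3, ← pow_mul] at h
      exact Odd.of_dvd_nat (Odd.pow (by decide)) h
  have hPQ : P = Q := by
    refine le_antisymm hQ ?_
    have h1 : (P0 : Subgroup M) ≤ (Q : Subgroup G).subgroupOf M := fun z hz => mem_subgroupOf.2 (hQ ⟨z, hz, rfl⟩)
    have h2 := P0.is_maximal' (Q.isPGroup'.of_equiv (subgroupOfEquivOfLe hQM).symm) h1
    intro z hz
    exact ⟨⟨z, hQM hz⟩, h2.le (mem_subgroupOf.2 hz), rfl⟩
  have hPc : Nat.card P = c.q ^ 3 := by rw [hPQ]; exact hS Q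
  letI : CommGroup P := { (inferInstance : Group P) with mul_comm := fun a b => Subtype.ext (hPcomm a a.2 b b.2) }
  have htP : ∀ z ∈ P, c.t * z * c.t ∈ P := fun z hz => by
    have h := (mem_normalizer_iff.1 (hPt (mem_zpowers c.t)) z).1 hz
    rwa [inv_eq_of_mul_eq_one_right c.tt] at h
  have hinvol : ∀ z, c.t * (c.t * z * c.t) * c.t = z := fun z => by
    rw [show c.t * (c.t * z * c.t) * c.t = (c.t * c.t) * z * (c.t * c.t) by group, c.tt, one_mul, mul_one]
  let τ : MulAut P :=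
    { toFun := fun z => ⟨c.t * z * c.t, htP _ z.2⟩
      invFun := fun z => ⟨c.t * z * c.t, htP _ z.2⟩
      left_inv := fun z => Subtype.ext (hinvol _)
      right_inv := fun z => Subtype.ext (hinvol _)
      map_mul' := fun a b => Subtype.ext (by
        show c.t * ((a : G) * b) * c.t = c.t * a * c.t * (c.t * b * c.t)
        rw [show c.t * (a : G) * c.t * (c.t * b * c.t) = c.t * a * (c.t * c.t) * b * c.t by group, c.tt]; group) }
  have hsplit := card_split (V := P) (x := τ) (by rw [hPc]; exact c.q_odd.pow) (fun v => Subtype.ext (hinvol _)) ⊤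
    (fun _ _ => mem_top _)
  rw [top_inf_eq, top_inf_eq, Subgroup.card_top, hPc] at hsplit
  have hfix : Nat.card (autFix τ) = c.q := by
    have hcomm : ∀ z : P, z ∈ autFix τ ↔ (z : G) * c.t = c.t * z := fun z => by
      rw [mem_autFix]
      constructor
      · intro h
        have e : c.t * (z : G) * c.t = z := congrArg Subtype.val h
        nth_rewrite 1 [← e]
        rw [mul_assoc _ c.t c.t, c.tt, mul_one]
      · intro h
        refine Subtype.ext ?_
        show c.t * (z : G) * c.t = z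
        rw [← h, mul_assoc, c.tt, mul_one]
    have hU : ∀ z : P, z ∈ autFix τ → (z : G) ∈ U' := fun z hz => by
      obtain ⟨i, hi⟩ := IsPGroup.iff_orderOf.1 hPp z
      rw [← Subgroup.orderOf_coe] at hi
      obtain ⟨k, hk⟩ := c.mem_range_of_odd ((hcomm z).1 hz) (by rw [hi]; exact Odd.pow (by decide))
      exact ⟨k, c.cent_root T T.plus_mem T.plus_ne (mem_centralizer_singleton_iff.2
        (by rw [hk]; exact hPcomm _ z.2 u (hUP ⟨T.plus, T.plus_mem, rfl⟩))), hk⟩
    rw [show c.q = Nat.card U' by rw [hU', Subgroup.card_map_of_injective c.inj, T.card_U]; rfl]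
    exact Nat.card_congr
      { toFun := fun z => ⟨(z.1 : G), hU z.1 z.2⟩
        invFun := fun z => ⟨⟨z.1, hUP z.2⟩, (hcomm _).2 (by obtain ⟨v, -, hv⟩ := z.2; show z.1 * c.t = c.t * z.1; rw [← hv]; exact c.t_ι v)⟩
        left_inv := fun z => rfl
        right_inv := fun z => rfl }
  have hinv : Nat.card (autInv τ) = c.q ^ 2 := by
    rw [hfix, show c.q ^ 3 = c.q * c.q ^ 2 by ring] at hsplit
    exact Nat.eq_of_mul_eq_mul_left c.q_odd.pos hsplit
  let S : Finset P := Finset.univ.filter fun z => z ∈ autInv τ ∧ z ≠ 1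
  refine ⟨S.map ⟨Subtype.val, Subtype.val_injective⟩, ?_, ?_⟩
  · rw [Finset.card_map, ← hinv, Nat.card_eq_fintype_card, Fintype.card_subtype,
      show S = (Finset.univ.filter fun z => z ∈ autInv τ).erase 1 by ext z; simp [S, and_comm],
      Finset.card_erase_add_one (by simp)]
  · intro x hx
    obtain ⟨z, hz, rfl⟩ := Finset.mem_map.1 hx
    obtain ⟨-, hzI, hz1⟩ := Finset.mem_filter.1 hz
    show c.IsInv T (z : G) ∧ _ ∣ Nat.card (centralizer ({(z : G)} : Set G))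
    refine ⟨⟨fun e => hz1 (Subtype.ext e), ?_, congrArg Subtype.val (mem_autInv.1 hzI),
      fun v hv => hPcomm _ z.2 _ (hUP ⟨v, hv, rfl⟩)⟩, ?_⟩
    · obtain ⟨i, hi⟩ := IsPGroup.iff_orderOf.1 hPp z
      exact ⟨i, by rw [Subgroup.orderOf_coe, hi]⟩
    · rw [← hPc]
      exact Subgroup.card_dvd_of_le fun y hy => mem_centralizer_singleton_iff.2 (hPcomm y hy _ z.2)

end Ctx

end CfsgLib.Recog.JankoThompson
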