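import Cfsg.Agent.Lib.Recog.JankoThompson.Ward.BorelBase

/-!
Owner: helper22. Groups of Ree type: the torus of order `q + 1 ± 3 θ` is a trivial intersection set with normaliser
quotient of order six (section C of `notes/walter_field_helper22.md`).
-/

set_option autoImplicit false
set_option linter.all false
set_option maxHeartbeats 800000

namespace CfsgLib.Recog.JankoThompson

open Subgroup

universe u v

/-- a free action -/
theorem card_dvd_of_free {H : Type u} [Group H] [Finite H] {α : Type v} [MulAction H α] [Finite α]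
    (hfree : ∀ (h : H) (a : α), h • a = a → h = 1) : Nat.card H ∣ Nat.card α := by
  classical
  haveI := Fintype.ofFinite (MulAction.orbitRel.Quotient H α)
  have hstab : ∀ a : α, MulAction.stabilizer H a = ⊥ := fun a =>
    eq_bot_iff.2 fun h hh => mem_bot.2 (hfree h a hh)
  refine ⟨Nat.card (MulAction.orbitRel.Quotient H α), ?_⟩
  rw [Nat.card_congr (MulAction.selfEquivSigmaOrbitsQuotientStabilizer H α), Nat.card_sigma]
  have : ∀ a : α, Nat.card (H ⧸ MulAction.stabilizer H a) = Nat.card H := fun a => by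
    rw [hstab, ← Subgroup.index_eq_card, Subgroup.index_bot]
  simp only [this, Finset.sum_const, Finset.card_univ, smul_eq_mul, ← Nat.card_eq_fintype_card]
  rw [mul_comm]

/-- a torus `M` of order `u` inverted by `t`, with `|N(M) : M| = 6` and an element `c` of order three of `C(t)`
acting on it without fixed points -/
structure TorusData (G : Type u) [Group G] (u : ℕ) (t : G) where
  M : Subgroup G
  c : G
  card_M : Nat.card M = u
  comm : ∀ a ∈ M, ∀ b ∈ M, a * b = b * a
  inverted : ∀ a ∈ M, t * a * t⁻¹ = a⁻¹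
  cent : ∀ a ∈ M, a ≠ 1 → ∀ x, x * a = a * x → x ∈ M
  ti : ∀ g, g ∉ normalizer (M : Set G) → ∀ a ∈ M, g * a * g⁻¹ ∈ M → a = 1
  card_normalizer : Nat.card (normalizer (M : Set G)) = u * 6
  card_cent : Nat.card (normalizer (M : Set G) ⊓ centralizer ({t} : Set G) : Subgroup G) = 6
  c_order : orderOf c = 3
  c_t : c * t = t * c
  c_mem : c ∈ normalizer (M : Set G)
  c_rel : ∀ a ∈ M, a * (c * a * c⁻¹) * (c * (c * a * c⁻¹) * c⁻¹) = 1

variable {G : Type u} [Group G] {Fq : Type v} [Field Fq] [Fintype Fq] [Finite G]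

namespace Ctx

variable (c : Ctx G Fq) {k : ℕ}

/-- `u` is one of `q + 1 ± 3 ^ (k + 1)` -/
def IsTorusOrder (k u : ℕ) : Prop :=
  (u : ℤ) = (c.q : ℤ) + 1 + 3 ^ (k + 1) ∨ (u : ℤ) = (c.q : ℤ) + 1 - 3 ^ (k + 1)

theorem torus_unique {u u' r : ℕ} (hq3 : c.q = 3 ^ (2 * k + 1)) (hu : c.IsTorusOrder k u) (hu' : c.IsTorusOrder k u')
    (hr : r.Prime) (hru : r ∣ u) (hru' : r ∣ u') : u = u' := by
  by_contra hne
  have hr' : Prime (r : ℤ) := Nat.prime_iff_prime_int.1 hr
  have hs : (u : ℤ) + u' = 2 * ((c.q : ℤ) + 1) ∧ (u : ℤ) * u' = (c.q : ℤ) ^ 2 - c.q + 1 := by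
    have h9 : ((3 : ℤ) ^ (k + 1)) ^ 2 = 3 * c.q := by
      rw [hq3]; push_cast; rw [← pow_mul, ← pow_succ']; congr 1; ring
    rcases hu with e | e <;> rcases hu' with e' | e'
    · exact absurd (by exact_mod_cast e.trans e'.symm) hne
    · exact ⟨by rw [e, e']; ring, by rw [e, e']; linear_combination -h9⟩
    · exact ⟨by rw [e, e']; ring, by rw [e, e']; linear_combination -h9⟩
    · exact absurd (by exact_mod_cast e.trans e'.symm) hne
  have h1 : (r : ℤ) ∣ 2 * ((c.q : ℤ) + 1) := hs.1 ▸ dvd_add (by exact_mod_cast hru) (by exact_mod_cast hru')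
  have h2 : (r : ℤ) ∣ (c.q : ℤ) ^ 2 - c.q + 1 := hs.2 ▸ (Int.natCast_dvd_natCast.2 hru).mul_right _
  rcases hr'.dvd_mul.1 h1 with h | h
  · have hodd : ¬ (2 : ℤ) ∣ (c.q : ℤ) ^ 2 - c.q + 1 := by
      have h3 : (2 : ℤ) ∣ (c.q : ℤ) ^ 2 - c.q := by
        rw [show (c.q : ℤ) ^ 2 - c.q = ((c.q : ℤ) - 1) * c.q by ring]
        exact Int.even_iff.1 (by simpa using Int.even_mul_pred_self (c.q : ℤ)) |> fun h =>
          Int.dvd_of_emod_eq_zero (by rw [mul_comm]; exact h)
      intro h4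
      have := dvd_sub h4 h3
      norm_num at this
    have : r = 2 := (Nat.prime_dvd_prime_iff_eq hr Nat.prime_two).1 (by exact_mod_cast h)
    subst this
    exact hodd (by exact_mod_cast h2)
  · have h3 := dvd_sub h2 (h.mul_left ((c.q : ℤ) - 2))
    rw [show (c.q : ℤ) ^ 2 - c.q + 1 - ((c.q : ℤ) - 2) * ((c.q : ℤ) + 1) = 3 by ring] at h3
    have : r = 3 := (Nat.prime_dvd_prime_iff_eq hr Nat.prime_three).1 (by exact_mod_cast h3)
    subst this
    have h5 : (3 : ℤ) ∣ c.q := by rw [hq3]; push_cast; exact dvd_pow_self 3 (by omega)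
    have h6 := dvd_sub h h5
    norm_num at h6

/-- the torus through an element of prime order dividing `q ^ 2 - q + 1` -/
theorem exists_torus (hq3 : c.q = 3 ^ (2 * k + 1)) (hq27 : 27 ≤ c.q)
    (hcard : Nat.card G = c.q ^ 3 * (c.q ^ 3 + 1) * (c.q - 1))
    (hcent : ∀ (r : ℕ) (z : G), r.Prime → r ∣ c.q ^ 2 - c.q + 1 → orderOf z = r →
      ∃ (s : G) (u : ℕ), orderOf s = 2 ∧ c.IsTorusOrder k u ∧ r ∣ u ∧
        Nat.card (centralizer ({z} : Set G)) = u ∧ ∀ a ∈ centralizer ({z} : Set G), s * a * s⁻¹ = a⁻¹)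
    {p : ℕ} (hp : p.Prime) (hpΦ : p ∣ c.q ^ 2 - c.q + 1) :
    ∃ u : ℕ, c.IsTorusOrder k u ∧ p ∣ u ∧ u ∣ c.q ^ 2 - c.q + 1 ∧ Nonempty (TorusData G u c.t) := by
  classical
  haveI : Fact p.Prime := ⟨hp⟩
  have hq3' : c.q ^ 3 + 1 = (c.q + 1) * (c.q ^ 2 - c.q + 1) := by
    have h := Nat.le_self_pow two_ne_zero c.q
    zify [h]; ring
  have hΦG : c.q ^ 2 - c.q + 1 ∣ Nat.card G :=
    ⟨c.q ^ 3 * (c.q + 1) * (c.q - 1), by rw [hcard, hq3']; ring⟩
  obtain ⟨z0, hz0⟩ := exists_prime_orderOf_dvd_card' (G := G) p (hpΦ.trans hΦG)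
  obtain ⟨s0, u, hs0, hu, hpu, hcardu, hinv0⟩ := hcent p z0 hp hpΦ hz0
  obtain ⟨g, hg⟩ := isConj_iff.1 (c.one_class s0 hs0)
  set z := g⁻¹ * z0 * g with hz
  set M := centralizer ({z} : Set G) with hM
  have hmap : ∀ a, a ∈ M ↔ g * a * g⁻¹ ∈ centralizer ({z0} : Set G) := fun a => by
    rw [hM, mem_centralizer_singleton_iff, mem_centralizer_singleton_iff, hz]
    constructor
    · intro h
      calc g * a * g⁻¹ * z0 = g * (a * (g⁻¹ * z0 * g)) * g⁻¹ := by group
        _ = _ := by rw [h]; group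
    · intro h
      calc a * (g⁻¹ * z0 * g) = g⁻¹ * (g * a * g⁻¹ * z0) * g := by group
        _ = _ := by rw [h]; group
  have hMcard : Nat.card M = u := by
    rw [← hcardu]
    exact Nat.card_congr ((MulAut.conj g).toEquiv.subtypeEquiv fun a => by rw [hmap]; rfl)
  have hinv : ∀ a ∈ M, c.t * a * c.t⁻¹ = a⁻¹ := fun a ha => by
    have h := hinv0 _ ((hmap a).1 ha)
    rw [← hg] at h
    calc c.t * a * c.t⁻¹ = g⁻¹ * (g * c.t * g⁻¹ * (g * a * g⁻¹) * (g * c.t * g⁻¹)⁻¹) * g := by group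
      _ = _ := by rw [h]; group
  have hcomm : ∀ a ∈ M, ∀ b ∈ M, a * b = b * a := by
    intro a ha b hb
    have h := hinv _ (mul_mem ha hb)
    rw [← conj_mul, hinv a ha, hinv b hb, mul_inv_rev] at h
    have := congrArg (·⁻¹) h
    simp only [mul_inv_rev, inv_inv] at this
    exact this.symm
  have huΦ : u ∣ c.q ^ 2 - c.q + 1 := by
    have h9 : ((3 : ℤ) ^ (k + 1)) ^ 2 = 3 * c.q := by
      rw [hq3]; push_cast; rw [← pow_mul, ← pow_succ']; congr 1; ring
    rw [← Int.natCast_dvd_natCast]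
    push_cast [Nat.cast_sub (Nat.le_self_pow two_ne_zero c.q)]
    rcases hu with e | e <;> rw [e]
    · exact ⟨(c.q : ℤ) + 1 - 3 ^ (k + 1), by linear_combination h9⟩
    · exact ⟨(c.q : ℤ) + 1 + 3 ^ (k + 1), by linear_combination h9⟩
  have hodd : Odd u := by
    refine Odd.of_dvd_nat ?_ huΦ
    have h1 : c.q ^ 2 - c.q = c.q * (c.q - 1) := by rw [pow_two, Nat.mul_sub, mul_one]
    rw [h1]
    exact (Nat.even_mul_pred_self c.q).add_one
  have hprimes : ∀ a ∈ M, a ≠ 1 → ∀ x, x * a = a * x → x ∈ M := by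
    intro a ha ha1 x hx
    obtain ⟨r, hr, hrd⟩ := Nat.exists_prime_and_dvd (fun e => ha1 (orderOf_eq_one_iff.1 e))
    set b := a ^ (orderOf a / r) with hb
    have hbr : orderOf b = r := orderOf_pow_orderOf_div (orderOf_pos a).ne' hrd
    have hru : r ∣ u := hrd.trans (hMcard ▸ Subgroup.orderOf_dvd_natCard _ ha)
    obtain ⟨-, u', -, hu', hru', hcard', -⟩ := hcent r b hr (hru.trans huΦ) hbr
    have heq : M = centralizer ({b} : Set G) := by
      refine Subgroup.eq_of_le_of_card_ge (fun y hy => mem_centralizer_singleton_iff.2 ?_) ?_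
      · exact hcomm y hy b (pow_mem ha _)
      · rw [hcard', hMcard, c.torus_unique hq3 hu hu' hr hru hru']
    rw [heq, mem_centralizer_singleton_iff]
    exact ((show Commute x a from hx).pow_right _).eq
  have hfix : ∀ a ∈ M, a * c.t = c.t * a → a = 1 := fun a ha h => by
    have h1 := hinv a ha
    rw [← h, mul_inv_cancel_right] at h1
    exact eq_one_of_coprime (Nat.coprime_two_left.2 (hodd.of_dvd_nat (hMcard ▸ Subgroup.orderOf_dvd_natCard _ ha)))
      (orderOf_dvd_of_pow_eq_one (by rw [pow_two, mul_eq_one_iff_eq_inv]; exact h1)) dvd_rfl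
  set N := normalizer (M : Set G) with hN
  have hti : ∀ x, x ∉ N → ∀ a ∈ M, x * a * x⁻¹ ∈ M → a = 1 := by
    intro x hx a ha hxa
    by_contra ha1
    have hsub : ∀ y ∈ M, x * y * x⁻¹ ∈ M := fun y hy =>
      hprimes _ hxa (fun e => ha1 (conj_eq_one_iff.1 e)) _ (by rw [conj_mul, conj_mul, hcomm y hy a ha])
    refine hx (mem_normalizer_iff.2 fun y => ⟨hsub y, fun hy => ?_⟩)
    refine hprimes a ha ha1 y ?_
    have h := hcomm _ hy _ hxa
    rw [conj_mul, conj_mul] at h
    exact mul_left_cancel (mul_right_cancel h)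
  set H := (N ⊓ centralizer ({c.t} : Set G) : Subgroup G) with hH
  have htN : c.t ∈ N := mem_normalizer_iff.2 fun y => by
    constructor
    · intro hy; rw [hinv y hy]; exact inv_mem hy
    · intro hy
      have h := hinv _ hy
      rw [inv_eq_of_mul_eq_one_right c.tt, show c.t * (c.t * y * c.t) * c.t = (c.t * c.t) * y * (c.t * c.t) by group,
        c.tt, one_mul, mul_one] at h
      rw [h, inv_eq_of_mul_eq_one_right c.tt] at *
      exact inv_mem hy
  have hHdvd : Nat.card H ∣ u - 1 := by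
    rw [← hMcard]
    refine card_dvd_sub_one H (M : Set G) M.one_mem (fun a ha s hs => (mem_normalizer_iff.1 ha.1 s).1 hs)
      fun a ha hl s hs hs1 he => ?_
    have ha' := hfix a (hprimes s hs hs1 a he) (mem_centralizer_singleton_iff.1 ha.2)
    rw [ha', orderOf_one] at hl
    exact Nat.not_prime_one hl
  let F : M × H → N := fun a => ⟨a.1 * a.2, mul_mem (Subgroup.le_normalizer a.1.2) a.2.2.1⟩
  have hFbij : Function.Bijective F := by
    constructor
    · rintro ⟨a, h⟩ ⟨a', h'⟩ e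
      have e' : (a : G) * h = a' * h' := congrArg Subtype.val e
      have h1 : (a' : G)⁻¹ * a = h' * (h : G)⁻¹ := by
        rw [eq_mul_inv_iff_mul_eq, mul_assoc, e', inv_mul_cancel_left]
      have h2 := hfix _ (mul_mem (inv_mem a'.2) a.2)
        (h1 ▸ mem_centralizer_singleton_iff.1 (Subgroup.mul_mem _ (mem_inf.1 h'.2).2 (Subgroup.inv_mem _ (mem_inf.1 h.2).2)))
      have ea : a' = a := Subtype.ext (inv_mul_eq_one.1 h2)
      subst ea
      exact Prod.ext rfl (Subtype.ext (mul_left_cancel e'))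
    · rintro ⟨x, hx⟩
      have hxi : ∀ y ∈ M, x * c.t * x⁻¹ * y * (x * c.t * x⁻¹)⁻¹ = y⁻¹ := fun y hy => by
        have h := hinv _ ((mem_normalizer_iff.1 hx (x⁻¹ * y * x)).2 (by rwa [show x * (x⁻¹ * y * x) * x⁻¹ = y by group]))
        rw [show x * c.t * x⁻¹ * y * (x * c.t * x⁻¹)⁻¹ = x * (c.t * (x⁻¹ * y * x) * c.t⁻¹) * x⁻¹ by group, h]
        group
      have hzM : z ∈ M := mem_centralizer_singleton_iff.2 rfl
      set m := c.t * (x * c.t * x⁻¹) with hm
      have hmM : m ∈ M := by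
        refine mem_centralizer_singleton_iff.2 (mul_inv_eq_iff_eq_mul.1 ?_)
        rw [hm, show c.t * (x * c.t * x⁻¹) * z * (c.t * (x * c.t * x⁻¹))⁻¹ =
          c.t * (x * c.t * x⁻¹ * z * (x * c.t * x⁻¹)⁻¹) * c.t⁻¹ by group, hxi z hzM,
          hinv _ (inv_mem hzM), inv_inv]
      obtain ⟨j, hj⟩ := hodd
      set b := (m⁻¹) ^ (j + 1) with hb
      have hbM : b ∈ M := pow_mem (inv_mem hmM) _
      have hb2 : b * b = m⁻¹ := by
        rw [hb, ← pow_add, show j + 1 + (j + 1) = u + 1 by omega, pow_succ, ← hMcard]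
        rw [show m⁻¹ ^ Nat.card M = 1 from orderOf_dvd_iff_pow_eq_one.1 (Subgroup.orderOf_dvd_natCard _ (inv_mem hmM)),
          one_mul]
      have hbt : b * c.t * b⁻¹ = x * c.t * x⁻¹ := by
        have h1 : b * c.t * b⁻¹ = b * b * c.t := by
          rw [← hinv b hbM]
          rw [show b * c.t * (c.t * b * c.t⁻¹) = b * (c.t * c.t) * b * c.t⁻¹ by group, c.tt, mul_one,
            inv_eq_of_mul_eq_one_right c.tt]
        rw [h1, hb2, hm, mul_inv_rev, inv_eq_of_mul_eq_one_right c.tt, mul_assoc, c.tt, mul_one]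
        rw [mul_inv_rev, mul_inv_rev, inv_inv, inv_eq_of_mul_eq_one_right c.tt]
        group
      refine ⟨(⟨b, hbM⟩, ⟨b⁻¹ * x, N.mul_mem (N.inv_mem (Subgroup.le_normalizer hbM)) hx, ?_⟩),
        Subtype.ext (mul_inv_cancel_left _ _)⟩
      refine mem_centralizer_singleton_iff.2 ?_
      calc b⁻¹ * x * c.t = b⁻¹ * (x * c.t * x⁻¹) * x := by group
        _ = _ := by rw [← hbt]; group
  have hNcard : Nat.card N = u * Nat.card H := by
    rw [← Nat.card_eq_of_bijective F hFbij, Nat.card_prod, hMcard]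
  have hcop : Nat.Coprime u (Nat.card H) := by
    refine Nat.Coprime.coprime_dvd_right hHdvd ?_
    have : 1 ≤ u := hMcard ▸ Nat.card_pos
    exact ((Nat.coprime_self_sub_left this).2 (Nat.coprime_one_left _)).symm
  have hidx : u ∣ N.index - 1 := by
    letI : MulAction M {s : G ⧸ N // s ≠ QuotientGroup.mk 1} :=
      { smul := fun a s => ⟨(a : G) • s.1, fun e => s.2 (by
          rw [← inv_smul_smul (a : G) s.1, e]
          exact QuotientGroup.eq.2 (by simpa using Subgroup.le_normalizer a.2))⟩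
        one_smul := fun s => Subtype.ext (one_smul G _)
        mul_smul := fun a b s => Subtype.ext (mul_smul (a : G) (b : G) _) }
    have hfree : ∀ (a : M) (s : {s : G ⧸ N // s ≠ QuotientGroup.mk 1}), a • s = s → a = 1 := by
      rintro a ⟨s, hs⟩ e
      induction s using QuotientGroup.induction_on with
      | H x =>
        have hxN : x ∉ N := fun h => hs (QuotientGroup.eq.2 (by simpa using h))
        have h1 : x⁻¹ * (a : G) * x ∈ N := by
          have := QuotientGroup.eq.1 (congrArg Subtype.val e).symm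
          simpa [mul_assoc] using this
        have h2 : x⁻¹ * (a : G) * x ∈ M := by
          set y := x⁻¹ * (a : G) * x with hy
          obtain ⟨⟨m, h⟩, hmh⟩ := hFbij.2 ⟨y, h1⟩
          have e' : (m : G) * h = y := congrArg Subtype.val hmh
          have hyu : y ^ u = 1 := by
            rw [hy, show x⁻¹ * (a : G) * x = x⁻¹ * (a : G) * x⁻¹⁻¹ by group, conj_pow,
              show (a : G) ^ u = 1 by rw [← hMcard]; exact congrArg Subtype.val (pow_card_eq_one' (x := a))]
            group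
          haveI : (M.subgroupOf N).Normal := normal_subgroupOf_of_le_normalizer le_rfl
          let π := QuotientGroup.mk' (M.subgroupOf N)
          have hq : π ⟨y, h1⟩ = 1 := by
            refine eq_one_of_coprime hcop ?_ ?_
            · exact orderOf_dvd_of_pow_eq_one (by rw [← map_pow, show (⟨y, h1⟩ : N) ^ u = 1 from Subtype.ext hyu, map_one])
            · have hh : π ⟨y, h1⟩ = π ⟨h, h.2.1⟩ := by
                rw [show (⟨y, h1⟩ : N) = ⟨m, Subgroup.le_normalizer m.2⟩ * ⟨h, h.2.1⟩ from Subtype.ext e'.symm,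
                  map_mul, show π ⟨m, Subgroup.le_normalizer m.2⟩ = 1 from
                    (QuotientGroup.eq_one_iff _).2 (mem_subgroupOf.2 m.2), one_mul]
              rw [hh]
              refine (orderOf_map_dvd π _).trans ?_
              rw [← Subgroup.orderOf_coe]
              exact Subgroup.orderOf_dvd_natCard _ h.2
          exact mem_subgroupOf.1 ((QuotientGroup.eq_one_iff _).1 hq)
        have h3 := hti x hxN _ h2 (by rw [show x * (x⁻¹ * (a : G) * x) * x⁻¹ = a by group]; exact a.2)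
        refine Subtype.ext ?_
        calc (a : G) = x * (x⁻¹ * a * x) * x⁻¹ := by group
          _ = 1 := by rw [h3]; group
    have h := card_dvd_of_free hfree
    rw [hMcard] at h
    have hsub : Nat.card {s : G ⧸ N // s ≠ QuotientGroup.mk 1} = N.index - 1 := by
      haveI := Fintype.ofFinite (G ⧸ N)
      rw [Subgroup.index_eq_card, Nat.card_eq_fintype_card, Nat.card_eq_fintype_card]
      simp
    rwa [hsub] at h
  -- `|N(M) : M| = 6`
  have hu19 : 19 ≤ u := by
    have hk : 1 ≤ k := Nat.pos_of_ne_zero fun e => by rw [e] at hq3; norm_num at hq3; omega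
    have h3 : 3 * 3 ^ (k + 1) ≤ c.q + 0 ∨ k = 0 := by
      left; rw [hq3, ← pow_succ', add_zero]; exact Nat.pow_le_pow_right (by norm_num) (by omega)
    have h3' : (3 : ℤ) * 3 ^ (k + 1) ≤ c.q := by
      rcases h3 with h | h
      · exact_mod_cast h
      · omega
    have h27 : (27 : ℤ) ≤ c.q := by exact_mod_cast hq27
    have hp0 : (0 : ℤ) < 3 ^ (k + 1) := by positivity
    have : (19 : ℤ) ≤ u := by rcases hu with e | e <;> rw [e] <;> linarith
    exact_mod_cast this
  have hH6 : Nat.card H = 6 := by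
    obtain ⟨s, hs, hs2⟩ : ∃ s : ℤ, (u : ℤ) = (c.q : ℤ) + 1 + s ∧ s ^ 2 = 3 * c.q := by
      have h9 : ((3 : ℤ) ^ (k + 1)) ^ 2 = 3 * c.q := by
        rw [hq3]; push_cast; rw [← pow_mul, ← pow_succ']; congr 1; ring
      rcases hu with e | e
      exacts [⟨_, e, h9⟩, ⟨-3 ^ (k + 1), by rw [e]; ring, by rw [neg_sq]; exact h9⟩]
    set Q : ℤ := (c.q : ℤ) with hQ
    set w : ℤ := Q + 1 - s with hw
    have hG : (Nat.card H : ℤ) * N.index = Q ^ 3 * (Q + 1) * (Q - 1) * w := by
      have h := N.card_mul_index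
      rw [hNcard, hcard, hq3'] at h
      have h' : (u : ℤ) * ((Nat.card H : ℤ) * N.index) = (u : ℤ) * (Q ^ 3 * (Q + 1) * (Q - 1) * w) := by
        have := congrArg (Nat.cast : ℕ → ℤ) h
        push_cast [Nat.cast_sub (Nat.le_self_pow two_ne_zero c.q), Nat.cast_sub (show 1 ≤ c.q by omega)] at this
        rw [← mul_assoc, this, hw, ← hQ, hs]
        linear_combination (Q ^ 3 * (Q + 1) * (Q - 1)) * hs2
      exact mul_left_cancel₀ (by exact_mod_cast (by omega : u ≠ 0)) h'
    have hmod : (u : ℤ) ∣ (N.index : ℤ) - 1 := by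
      have h := Int.natCast_dvd_natCast.2 hidx
      rwa [Nat.cast_sub (Nat.pos_of_ne_zero Subgroup.index_ne_zero_of_finite), Nat.cast_one] at h
    have hkey : (u : ℤ) ∣ Q ^ 3 * (Q + 1) * (Q - 1) * w - 6 :=
      ⟨Q ^ 3 * (Q - 1) * ((u : ℤ) - 3 * s) + 6 * w * (Q ^ 3 - Q - 1), by
        rw [hs, hw]
        linear_combination (6 * (Q ^ 3 - Q - 1) + 2 * Q ^ 3 * (Q - 1)) * hs2⟩
    have hd : (u : ℤ) ∣ (Nat.card H : ℤ) - 6 := by
      have := dvd_sub hkey (hmod.mul_left (Nat.card H : ℤ))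
      rwa [← hG, show (Nat.card H : ℤ) * N.index - 6 - (Nat.card H : ℤ) * ((N.index : ℤ) - 1) = Nat.card H - 6 by ring] at this
    have hlt : Nat.card H < u := by
      have := Nat.le_of_dvd (by omega) hHdvd
      omega
    by_contra hne
    have hle := Int.natAbs_le_of_dvd_ne_zero hd (by omega)
    omega
  obtain ⟨⟨cc, hccH⟩, hcc⟩ := exists_prime_orderOf_dvd_card' (G := H) (hp := ⟨Nat.prime_three⟩) 3 (by rw [hH6]; norm_num)
  rw [Subgroup.orderOf_mk] at hcc
  obtain ⟨hcN, hct⟩ := hccH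
  replace hct : cc * c.t = c.t * cc := mem_centralizer_singleton_iff.1 hct
  refine ⟨u, hu, hpu, huΦ, ⟨{
    M := M
    c := cc
    card_M := hMcard
    comm := hcomm
    inverted := hinv
    cent := hprimes
    ti := hti
    card_normalizer := by rw [← hN, hNcard, hH6]
    card_cent := hH6
    c_order := hcc
    c_t := hct
    c_mem := hcN
    c_rel := ?_ }⟩⟩
  intro a ha
  set b := cc * a * cc⁻¹ with hb
  have hbM : b ∈ M := (mem_normalizer_iff.1 hcN a).1 ha
  set d := cc * b * cc⁻¹ with hd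
  have hdM : d ∈ M := (mem_normalizer_iff.1 hcN b).1 hbM
  by_contra hne
  have hx : cc * (a * b * d) = a * b * d * cc := by
    refine mul_inv_eq_iff_eq_mul.1 ?_
    have h3 : cc * d * cc⁻¹ = a := by
      rw [hd, hb, show cc * (cc * (cc * a * cc⁻¹) * cc⁻¹) * cc⁻¹ = cc ^ 3 * a * (cc ^ 3)⁻¹ by rw [pow_succ, pow_succ, pow_one]; group,
        show cc ^ 3 = 1 from hcc ▸ pow_orderOf_eq_one cc]
      group
    rw [← conj_mul, ← conj_mul, ← hb, ← hd, h3, mul_assoc a b d, hcomm a ha (b * d) (mul_mem hbM hdM)]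
  have hccM : cc ∈ M := hprimes _ (mul_mem (mul_mem ha hbM) hdM) hne cc hx
  have h1 := hfix cc hccM hct
  rw [h1, orderOf_one] at hcc
  omega

end Ctx

end CfsgLib.Recog.JankoThompson
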