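import Cfsg.Agent.Lib.Recog.JankoThompson.Ward.Bound
import Cfsg.Agent.Lib.Char.Brauer
import Cfsg.Agent.Lib.Char.DefectZero

/-!
Owner: helper22. Groups of Ree type: values at the elements whose order has a prime factor in `q ^ 2 - q + 1`,
and their centralisers (section A of `notes/walter_field_helper22.md`).
-/

set_option autoImplicit false
set_option linter.all false
set_option maxHeartbeats 800000

namespace CfsgLib.Recog.JankoThompson

open Subgroup CfsgLib.Char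
open scoped ComplexConjugate

universe u v

/-- an irreducible character whose degree contains the whole `r`-part of the group order -/
theorem apply_eq_zero_of_part {H : Type*} [Group H] [Finite H] (χ : Cfsg.IrrCharacter H) {d r : ℕ}
    (hd : (χ : H → ℂ) 1 = d) (hr : r.Prime) (hfull : ∀ m : ℕ, r ^ m ∣ Nat.card H → r ^ m ∣ d) {x : H}
    (hx : r ∣ orderOf x) : (χ : H → ℂ) x = 0 := by
  haveI := Fintype.ofFinite H
  haveI : Fact r.Prime := ⟨hr⟩
  obtain ⟨n, ρ, hρ, he⟩ := χ.2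
  haveI := hρ
  rw [← he, Representation.char_one] at hd
  have h2 : Module.finrank ℂ (Fin n → ℂ) = d := by exact_mod_cast hd
  rw [← he]
  refine CfsgLib.Char.character_eq_zero_of_defect_zero
    (fun θ hθ hE => CfsgLib.Brauer.isGeneralizedCharacter_of_elementary hθ hE) ρ hr
    (Nat.ordProj_dvd (Nat.card H) r) (Nat.pow_succ_factorization_not_dvd Nat.card_pos.ne' hr) ?_ hx
  rw [h2]
  exact hfull _ (Nat.ordProj_dvd _ _)

variable {G : Type u} [Group G] {Fq : Type v} [Field Fq] [Fintype Fq] [Finite G]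

/-- an element of prime order lies in a conjugate of a subgroup with the whole Sylow order -/
theorem exists_conj_mem_of_full {l : ℕ} (hl : l.Prime) (H : Subgroup G)
    (hfull : (Nat.card G).factorization l = (Nat.card H).factorization l) {x : G} (hx : orderOf x = l) :
    ∃ g : G, g * x * g⁻¹ ∈ H := by
  haveI : Fact l.Prime := ⟨hl⟩
  obtain ⟨P⟩ := (inferInstance : Nonempty (Sylow l H))
  have hP : Nat.card ((P : Subgroup H).map H.subtype) = l ^ (Nat.card G).factorization l := by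
    rw [Subgroup.card_map_of_injective H.subtype_injective, P.card_eq_multiplicity, hfull]
  have hx' : IsPGroup l (zpowers x) := IsPGroup.of_card (n := 1) (by rw [Nat.card_zpowers, hx, pow_one])
  obtain ⟨Q, hQ⟩ := hx'.exists_le_sylow
  obtain ⟨g, hg⟩ := MulAction.exists_smul_eq G Q (Sylow.ofCard _ hP)
  refine ⟨g, map_subtype_le (P : Subgroup H) ?_⟩
  have h := congrArg (fun S : Sylow l G => (S : Subgroup G)) hg
  simp only [Sylow.coe_subgroup_smul, Sylow.coe_ofCard] at h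
  rw [← h]
  exact ⟨x, hQ (mem_zpowers x), rfl⟩

namespace Ctx

variable (c : Ctx G Fq) {p : ℕ} (T : Tori Fq c.w p c.e c.f) {k : ℕ} (hq3 : c.q = 3 ^ (2 * k + 1))
  (hq4 : c.q % 4 = 3) (hcard : Nat.card G = c.q ^ 3 * (c.q ^ 3 + 1) * (c.q - 1))

/-- `q ^ 2 - q + 1` -/
def Φ : ℕ := c.q ^ 2 - c.q + 1

theorem Φ_int : (c.Φ : ℤ) = (c.q : ℤ) ^ 2 - c.q + 1 := by
  have h : c.q ≤ c.q ^ 2 := Nat.le_self_pow two_ne_zero _
  rw [Φ]; push_cast [Nat.cast_sub h]; rfl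

include T hq3 hq4 in
/-- the arithmetic of `q ^ 2 - q + 1` -/
theorem Φ_facts {r : ℕ} (hr : r.Prime) (hrΦ : r ∣ c.Φ) :
    r ≠ 2 ∧ r ≠ 3 ∧ ¬ r ∣ c.q ∧ ¬ r ∣ c.q + 1 ∧ ¬ r ∣ c.e ∧ ¬ r ∣ c.f := by
  obtain ⟨-, -, -, he4, hf2⟩ := c.three_facts hq3 hq4
  have h := c.Φ_int
  have hrZ : (r : ℤ) ∣ (c.q : ℤ) ^ 2 - c.q + 1 := h ▸ Int.natCast_dvd_natCast.2 hrΦ
  have hp : Prime (r : ℤ) := Nat.prime_iff_prime_int.1 hr
  have h3 : 3 ∣ c.q := hq3 ▸ dvd_pow_self 3 (by omega)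
  have hq : ¬ (r : ℤ) ∣ c.q := fun hd => hp.not_dvd_one (by
    have := dvd_sub hrZ (hd.mul_left ((c.q : ℤ) - 1))
    rwa [show (c.q : ℤ) ^ 2 - c.q + 1 - ((c.q : ℤ) - 1) * c.q = 1 by ring] at this)
  have hne3 : r ≠ 3 := fun e => hq (by subst e; exact Int.natCast_dvd_natCast.2 h3)
  have hq1 : ¬ (r : ℤ) ∣ (c.q : ℤ) + 1 := fun hd => by
    have := dvd_sub hrZ (hd.mul_left ((c.q : ℤ) - 2))
    rw [show (c.q : ℤ) ^ 2 - c.q + 1 - ((c.q : ℤ) - 2) * ((c.q : ℤ) + 1) = 3 by ring] at this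
    exact hne3 ((Nat.prime_dvd_prime_iff_eq hr Nat.prime_three).1 (by exact_mod_cast this))
  have hq1' : ¬ r ∣ c.q + 1 := fun hd => hq1 (by exact_mod_cast hd)
  have hf : ¬ r ∣ c.f := fun hd => hp.not_dvd_one (by
    have h2 : (r : ℤ) ∣ (c.q : ℤ) - 1 := by
      rw [hf2]; push_cast; simpa using (Int.natCast_dvd_natCast.2 hd).mul_left 2
    have := dvd_sub hrZ (h2.mul_left (c.q : ℤ))
    rwa [show (c.q : ℤ) ^ 2 - c.q + 1 - (c.q : ℤ) * ((c.q : ℤ) - 1) = 1 by ring] at this)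
  refine ⟨fun e => ?_, hne3, fun hd => hq (Int.natCast_dvd_natCast.2 hd), hq1',
    fun hd => hq1' (he4 ▸ hd.mul_left 4), hf⟩
  subst e
  exact hq1' (by have := Nat.odd_iff.1 c.q_odd; omega)

include T hq3 hq4 hcard in
theorem card_eq' : Nat.card G = 8 * c.q ^ 3 * c.e * c.f * c.Φ := by
  obtain ⟨-, -, -, he4, hf2⟩ := c.three_facts hq3 hq4
  rw [hcard]
  have h : c.q ^ 3 + 1 = (c.q + 1) * c.Φ := by
    zify; rw [c.Φ_int]; ring
  rw [h, show c.q - 1 = 2 * c.f by omega, he4]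
  ring

include T hq3 hq4 hcard in
theorem part_dvd_Φ {r : ℕ} (hr : r.Prime) (hrΦ : r ∣ c.Φ) {m : ℕ} (hm : r ^ m ∣ Nat.card G) :
    r ^ m ∣ c.Φ := by
  obtain ⟨h2, -, hq, -, he, hf⟩ := c.Φ_facts T hq3 hq4 hr hrΦ
  rw [c.card_eq' T hq3 hq4 hcard] at hm
  refine (Nat.Coprime.pow_left m ?_).dvd_of_dvd_mul_left hm
  have co : ∀ n, ¬ r ∣ n → Nat.Coprime r n := fun n => hr.coprime_iff_not_dvd.2
  refine ((Nat.Coprime.mul_right ?_ ((co _ hq).pow_right 3)).mul_right (co _ he)).mul_right (co _ hf)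
  exact (co 2 fun h => h2 ((Nat.prime_dvd_prime_iff_eq hr Nat.prime_two).1 h)).pow_right 3

theorem not_isConj_t_ι' {z : G} (hz : Odd (orderOf z)) (a : P2 Fq) : ¬ IsConj (c.t * c.ι a) z := fun h => by
  obtain ⟨g, hg⟩ := isConj_iff.1 h
  obtain ⟨m, hm⟩ := hz
  have h1 : (c.t * c.ι a) ^ (2 * m + 1) = 1 := by
    rw [← hm, ← hg, ← MulAut.conj_apply, MulEquiv.orderOf_eq, pow_orderOf_eq_one]
  rw [(c.comm_t_ι a).mul_pow, pow_succ, pow_mul, pow_two, c.tt, one_pow, one_mul, ← map_pow] at h1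
  exact c.t_ι_ne _ h1

include T hq3 hq4 hcard in
open scoped _root_.Classical in
/-- the equation of the pairs at the elements whose order has a prime factor in `u` -/
theorem values [Fintype G] [Fintype (Cfsg.IrrCharacter G)] {z : G} (hz : Odd (orderOf z)) {u u' r : ℕ}
    (hprod : u * u' = c.Φ) (hsum : u + u' = 2 * (c.q + 1)) (hr : r.Prime) (hru : r ∣ u)
    (hrz : r ∣ orderOf z) :
    ¬ 3 ∣ orderOf z ∧ ∃ S : ℂ, IsIntegral ℤ S ∧
      2 * (c.Φ : ℂ) + 3 ^ (k + 1) * u * S = 2 * c.pairs z * ((c.q : ℂ) + 1) ∧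
      ((∃ r', r'.Prime ∧ r' ∣ u' ∧ r' ∣ orderOf z) → S = 0) := by
  haveI := T.T_cyclic
  haveI : Finite (T.T →* ℂˣ) := by
    letI := IsCyclic.commGroup (α := T.T)
    exact finite_dual T.T
  letI : Fintype T.R := Fintype.ofFinite _
  letI : Fintype T.T := Fintype.ofFinite _
  letI : Fintype {j : T.T →* ℂˣ // j ≠ 1} := Fintype.ofFinite _
  obtain ⟨L, _, K, R, hKq, -, hKf, -, hKo, hval, hmem, -⟩ := c.exists_ward_data T hq3 hq4 hcard
  obtain ⟨-, -, -, he4, hf2⟩ := c.three_facts hq3 hq4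
  have hrΦ : r ∣ c.Φ := hprod ▸ hru.mul_right u'
  have hΦK : K.q ^ 2 - K.q + 1 = (c.Φ : ℤ) := by rw [c.Φ_int, hKq]
  let d : Cfsg.IrrCharacter G → ℕ := fun χ => (K.deg χ).toNat
  have hdZ : ∀ χ, (d χ : ℤ) = K.deg χ := fun χ => Int.toNat_of_nonneg (K.deg_pos χ).le
  have hdC : ∀ χ : Cfsg.IrrCharacter G, (χ : G → ℂ) 1 = (d χ : ℂ) := fun χ => by
    rw [← (hval χ).2.1, ← hdZ χ]; push_cast; rfl
  have zero_r : ∀ (χ : Cfsg.IrrCharacter G) (r' : ℕ), r'.Prime → r' ∣ c.Φ → r' ∣ orderOf z →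
      (∀ m : ℕ, r' ^ m ∣ c.Φ → r' ^ m ∣ d χ) → (χ : G → ℂ) z = 0 := fun χ r' h1 h2 h3 h4 =>
    apply_eq_zero_of_part χ (hdC χ) h1 (fun m hm => h4 m (c.part_dvd_Φ T hq3 hq4 hcard h1 h2 hm)) h3
  have zero_Φ : ∀ χ : Cfsg.IrrCharacter G, (c.Φ : ℤ) ∣ K.deg χ → (χ : G → ℂ) z = 0 := fun χ h =>
    zero_r χ r hr hrΦ hrz fun m hm => hm.trans (by rw [← Int.natCast_dvd_natCast, hdZ]; exact h)
  obtain ⟨sA, sW, sV⟩ := R.A_sq
  obtain ⟨du, dw, dv⟩ := R.deg
  have hu0 : (R.u : G → ℂ) z = 0 := zero_Φ _ ⟨-K.A R.u, by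
    rw [← hΦK]; linear_combination K.A R.u * du - K.deg R.u * sA⟩
  have hw0 : (R.w : G → ℂ) z = 0 := zero_Φ _ ⟨-(K.A R.w * K.q), by
    rw [← hΦK]; linear_combination K.A R.w * dw - K.deg R.w * sW⟩
  have hqpos : 0 < K.q := by rw [hKq]; exact_mod_cast c.q_odd.pos
  have hAv : K.A R.v = 1 := by
    have hp : 0 < K.A R.v * K.deg R.v := by rw [dv]; exact pow_pos hqpos 3
    rcases Int.eq_one_or_neg_one_of_mul_eq_one sV with e | e
    · exact e
    · rw [e] at hp; linarith [K.deg_pos R.v]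
  have hdv : K.deg R.v = K.q ^ 3 := by rw [hAv, one_mul] at dv; exact dv
  -- the column `A` at `z`
  have hv1 : (R.v : G → ℂ) z = -1 := by
    have hcol : ∀ a, ∑ χ : Cfsg.IrrCharacter G, (χ : G → ℂ) (c.t * c.ι a) * conj ((χ : G → ℂ) z) = 0 :=
      fun a => by rw [column_orthogonality, if_neg (c.not_isConj_t_ι' hz a)]
    have hcol0 : ∑ χ : Cfsg.IrrCharacter G, (χ : G → ℂ) c.t * conj ((χ : G → ℂ) z) = 0 := by
      simpa using hcol 1
    have h : ∑ χ : Cfsg.IrrCharacter G, (K.A χ : ℂ) * conj ((χ : G → ℂ) z) = 0 := by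
      simp only [(hval _).2.2.1, colA, vec, Pi.zero_apply, zero_mul, Finset.sum_const_zero, add_zero, add_mul,
        Finset.sum_mul, Finset.sum_add_distrib, mul_assoc, ← Finset.mul_sum, hcol0, hcol, mul_zero]
      rw [Finset.sum_comm]
      simp only [← Finset.mul_sum, hcol, mul_zero, Finset.sum_const_zero, add_zero]
    rw [← Finset.sum_subset (Finset.subset_univ ({K.o, R.u, R.w, R.v} : Finset (Cfsg.IrrCharacter G)))
      fun χ _ hχ => ?_] at h
    · rw [Finset.sum_insert (by simp [R.uo.symm, R.wo.symm, R.vo.symm]), Finset.sum_insert (by simp [R.uw, R.uv]),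
        Finset.sum_pair R.wv, K.o_A, hAv, hu0, hw0, hKo, trivChar_apply] at h
      simp only [map_zero, mul_zero, zero_add, map_one, Int.cast_one, one_mul, mul_one] at h
      have h' := congrArg (starRingEnd ℂ) (eq_neg_of_add_eq_zero_right h)
      simpa using h'
    · simp only [Finset.mem_insert, Finset.mem_singleton, not_or] at hχ
      have : K.A χ = 0 := by
        by_contra hne
        rcases R.A_cases χ hne with e | e | e | e
        exacts [hχ.1 e, hχ.2.1 e, hχ.2.2.1 e, hχ.2.2.2 e]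
      rw [this, Int.cast_zero, zero_mul]
  refine ⟨fun h3 => ?_, ?_⟩
  · -- the constituent `v` has defect zero at three
    have hv0 : (R.v : G → ℂ) z = 0 := apply_eq_zero_of_part R.v (hdC _) Nat.prime_three (fun m hm => ?_) h3
    · rw [hv0] at hv1; norm_num at hv1
    have hdn : d R.v = c.q ^ 3 := by
      have := hdZ R.v
      rw [hdv, hKq] at this
      exact_mod_cast this
    rw [hdn]
    rw [c.card_eq' T hq3 hq4 hcard] at hm
    obtain ⟨e3, f3, -, -, -⟩ := c.three_facts hq3 hq4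
    have hΦ3 : ¬ 3 ∣ c.Φ := fun h => (c.Φ_facts T hq3 hq4 Nat.prime_three h).2.1 rfl
    have co : ∀ n, ¬ 3 ∣ n → Nat.Coprime (3 ^ m) n := fun n hn =>
      Nat.Coprime.pow_left m (Nat.prime_three.coprime_iff_not_dvd.2 hn)
    rw [show 8 * c.q ^ 3 * c.e * c.f * c.Φ = 8 * c.e * c.f * c.Φ * c.q ^ 3 by ring] at hm
    exact ((((co 8 (by norm_num)).mul_right (co _ e3)).mul_right (co _ f3)).mul_right (co _ hΦ3)).dvd_of_dvd_mul_left hm
  -- the degrees of the four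
  have hfour : ∀ χ ∈ R.four, ∃ w : ℕ, (w = u ∨ w = u') ∧ d χ = c.f * 3 ^ k * w := by
    intro χ hχ
    obtain ⟨a, ha, hroot⟩ := R.four_root χ hχ
    have hqk : K.q = 3 * (3 ^ k : ℤ) ^ 2 := by rw [hKq, hq3]; push_cast; ring
    have hfq : K.q - 1 = 2 * (c.f : ℤ) := by rw [hKq, hf2]; push_cast; ring
    rw [hKq] at hqk hfq hroot
    have h1 : (a - c.q * c.f) ^ 2 = ((3 ^ k : ℤ) * c.f * (c.q + 1)) ^ 2 := by
      rw [hfq] at hroot
      refine mul_left_cancel₀ (show (12 : ℤ) ≠ 0 by norm_num) ?_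
      linear_combination hroot + 4 * (c.f : ℤ) ^ 2 * ((c.q : ℤ) + 1) ^ 2 * hqk
    have hcases : ∃ w : ℤ, (w = u ∨ w = u') ∧ (a = c.f * 3 ^ k * w ∨ a = -(c.f * 3 ^ k * w)) := by
      have hp : (u : ℤ) * u' = (c.q : ℤ) ^ 2 - c.q + 1 := by rw [← c.Φ_int, ← hprod]; push_cast; ring
      have hs : (u : ℤ) + u' = 2 * (c.q + 1) := by exact_mod_cast hsum
      have hx : ∀ w : ℤ, w = 3 ^ (k + 1) + ((c.q : ℤ) + 1) ∨ w = -3 ^ (k + 1) + ((c.q : ℤ) + 1) →
          w = u ∨ w = u' := by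
        intro w hw
        have : (w - u) * (w - u') = 0 := by
          rcases hw with e | e <;> rw [e, pow_succ]
          · linear_combination -(3 ^ k * 3 + ((c.q : ℤ) + 1)) * hs + hp - 3 * hqk
          · linear_combination -(-(3 ^ k * 3) + ((c.q : ℤ) + 1)) * hs + hp - 3 * hqk
        rcases mul_eq_zero.1 this with e | e
        exacts [Or.inl (sub_eq_zero.1 e), Or.inr (sub_eq_zero.1 e)]
      rcases eq_or_eq_neg_of_sq_eq_sq _ _ h1 with e | e
      · exact ⟨_, hx _ (Or.inl rfl), Or.inl (by rw [pow_succ]; linear_combination e + (c.f : ℤ) * hqk)⟩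
      · exact ⟨_, hx _ (Or.inr rfl), Or.inr (by rw [pow_succ]; linear_combination e + (c.f : ℤ) * hqk)⟩
    obtain ⟨w, hw, haw⟩ := hcases
    have hdw : K.deg χ = c.f * 3 ^ k * w := by
      have hw0 : 0 ≤ (c.f : ℤ) * 3 ^ k * w := by rcases hw with e | e <;> rw [e] <;> positivity
      have := K.deg_pos χ
      rcases ha with e | e <;> rcases haw with e' | e' <;> rw [e'] at e <;> linarith
    rcases hw with e | e <;> rw [e] at hdw
    · exact ⟨u, Or.inl rfl, by exact_mod_cast (hdZ χ).trans hdw⟩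
    · exact ⟨u', Or.inr rfl, by exact_mod_cast (hdZ χ).trans hdw⟩
  -- the constituents outside `o`, `v` and the four
  have hrest : ∀ χ, χ ≠ K.o → χ ≠ R.v → χ ∉ R.four →
      (K.τ χ : ℂ) ^ 2 * (χ : G → ℂ) z / (K.deg χ : ℂ) = 0 := by
    intro χ h1 h2 h3
    by_cases hτ : K.τ χ = 0
    · simp [hτ]
    have hz0 : (χ : G → ℂ) z = 0 := by
      by_cases hC : ∀ j, K.C j χ = 0
      · exact zero_Φ χ (hΦK ▸ R.rest_dvd χ h1 h2 h3 hC hτ)
      · push Not at hC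
        obtain ⟨j, hj⟩ := hC
        exact zero_Φ χ ⟨K.q + 1, by rw [(hmem χ j hj).1, ← hΦK]; ring⟩
    rw [hz0, mul_zero, zero_div]
  -- the four
  have hne : (3 : ℂ) ^ k ≠ 0 := pow_ne_zero _ three_ne_zero
  have hu'0 : (u' : ℂ) ≠ 0 := Nat.cast_ne_zero.2 (fun e => by
    rw [e, mul_zero] at hprod; unfold Φ at hprod; omega)
  have hf0 : (c.f : ℂ) ≠ 0 := c.f_ne
  set S : ℂ := ∑ χ ∈ R.four, (χ : G → ℂ) z with hS
  have hfour_val : ∀ χ ∈ R.four, (K.τ χ : ℂ) ^ 2 * (χ : G → ℂ) z / (K.deg χ : ℂ) =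
      (c.f : ℂ) / (3 ^ k * u') * (χ : G → ℂ) z := by
    intro χ hχ
    obtain ⟨w, hw, hd⟩ := hfour χ hχ
    rcases hw with e | e <;> rw [e] at hd
    · rw [zero_r χ r hr hrΦ hrz fun m hm => by
        rw [hd]
        refine Dvd.dvd.mul_left ?_ _
        rw [← hprod] at hm
        refine (Nat.Coprime.pow_left m (hr.coprime_iff_not_dvd.2 fun h => ?_)).dvd_of_dvd_mul_right hm
        have h2 : r ∣ 2 * (c.q + 1) := hsum ▸ Nat.dvd_add hru h
        obtain ⟨r2, -, -, r1, -, -⟩ := c.Φ_facts T hq3 hq4 hr hrΦ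
        exact r1 ((hr.dvd_mul.1 h2).resolve_left fun e => r2 ((Nat.prime_dvd_prime_iff_eq hr Nat.prime_two).1 e))]
      simp
    · have hτ : (K.τ χ : ℂ) ^ 2 = (c.f : ℂ) ^ 2 := by
        have := R.four_tau χ hχ
        rw [hKf] at this
        exact_mod_cast this
      have hdc : (K.deg χ : ℂ) = (c.f : ℂ) * 3 ^ k * u' := by
        rw [← hdZ χ, hd]; push_cast; rfl
      rw [hτ, hdc]
      field_simp
  refine ⟨S, IsIntegral.sum _ fun χ _ => IsChar.isIntegral (IsIrr.isCharacter χ.2) _, ?_, ?_⟩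
  swap
  · rintro ⟨r', h1, h2, h3⟩
    refine Finset.sum_eq_zero fun χ hχ => ?_
    have hr'Φ : r' ∣ c.Φ := hprod ▸ h2.mul_left u
    obtain ⟨w, hw, hd⟩ := hfour χ hχ
    have hcop : ∀ {a b : ℕ} {s : ℕ}, s.Prime → s ∣ c.Φ → a * b = c.Φ → a + b = 2 * (c.q + 1) → s ∣ a →
        ∀ m, s ^ m ∣ c.Φ → s ^ m ∣ a := by
      intro a b s hs hsΦ hab hab' hsa m hm
      rw [← hab] at hm
      refine (Nat.Coprime.pow_left m (hs.coprime_iff_not_dvd.2 fun h => ?_)).dvd_of_dvd_mul_right hm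
      have h2 : s ∣ 2 * (c.q + 1) := hab' ▸ Nat.dvd_add hsa h
      obtain ⟨r2, -, -, r1, -, -⟩ := c.Φ_facts T hq3 hq4 hs hsΦ
      exact r1 ((hs.dvd_mul.1 h2).resolve_left fun e => r2 ((Nat.prime_dvd_prime_iff_eq hs Nat.prime_two).1 e))
    rcases hw with e | e <;> rw [e] at hd
    · exact zero_r χ r hr hrΦ hrz fun m hm => hd ▸ (hcop hr hrΦ hprod hsum hru m hm).mul_left _
    · exact zero_r χ r' h1 hr'Φ h3 fun m hm => hd ▸
        (hcop h1 hr'Φ (by rw [mul_comm]; exact hprod) (by rw [add_comm]; exact hsum) h2 m hm).mul_left _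
  -- the pair equation
  have hw := c.pair_sum z
  have htot : ∑ χ : Cfsg.IrrCharacter G, (χ : G → ℂ) c.t * (χ : G → ℂ) c.t * (χ : G → ℂ) z / (χ : G → ℂ) 1 =
      1 - 1 / (c.q : ℂ) + (c.f : ℂ) / (3 ^ k * u') * S := by
    have e : ∀ χ : Cfsg.IrrCharacter G, (χ : G → ℂ) c.t * (χ : G → ℂ) c.t * (χ : G → ℂ) z / (χ : G → ℂ) 1 =
        (K.τ χ : ℂ) ^ 2 * (χ : G → ℂ) z / (K.deg χ : ℂ) := fun χ => by
      rw [(hval χ).1, (hval χ).2.1]; ring
    simp only [e]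
    rw [← Finset.sum_subset (Finset.subset_univ (insert K.o (insert R.v R.four))) fun χ _ hχ => by
      simp only [Finset.mem_insert, not_or] at hχ
      exact hrest χ hχ.1 hχ.2.1 hχ.2.2,
      Finset.sum_insert (by simp [R.vo.symm, R.o_four]), Finset.sum_insert R.v_four,
      Finset.sum_congr rfl hfour_val, ← Finset.mul_sum, ← hS, hv1]
    have ho : (K.τ K.o : ℂ) ^ 2 * (K.o : G → ℂ) z / (K.deg K.o : ℂ) = 1 := by
      rw [K.deg_o, (hval _).1, hKo, trivChar_apply, trivChar_apply]; norm_num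
    have hτv : (K.τ R.v : ℂ) ^ 2 = (c.q : ℂ) ^ 2 := by
      rw [R.tau.2.2, hAv, hKq]; push_cast; ring
    rw [ho, hτv, hdv, hKq]
    have := c.q_ne
    push_cast
    field_simp
    ring
  rw [htot, c.card_Ct, c.card_eq' T hq3 hq4 hcard] at hw
  have hΦ : (c.Φ : ℂ) = (u : ℂ) * u' := by rw [← hprod]; push_cast; rfl
  have hqk : (c.q : ℂ) = 3 * (3 ^ k) ^ 2 := by rw [hq3]; push_cast; ring
  have he : (c.q : ℂ) + 1 = 4 * c.e := by exact_mod_cast he4
  have hf : (c.q : ℂ) = 2 * c.f + 1 := by exact_mod_cast hf2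
  have he0 := c.e_ne
  push_cast at hw
  rw [hΦ] at hw ⊢
  rw [he]
  have hq0 := c.q_ne
  field_simp at hw
  refine mul_left_cancel₀ (mul_ne_zero hf0 hne) ?_
  rw [pow_succ]
  linear_combination hw - ((u : ℂ) * u' * 3 ^ k) * hf - ((c.f : ℂ) * u * S) * hqk

end Ctx

end CfsgLib.Recog.JankoThompson
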